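import Cfsg.Agent.Mrg.Omega.OM.FourF.K_m3
import Cfsg.Agent.Mrg.Omega.NOThreeL.RRed.Ex.Pf_m3
import Cfsg.Agent.Mrg.Omega.OM.Swap.Pair_m3
import Cfsg.Agent.Mrg.Omega.OM.NX_m3
import Cfsg.Agent.Mrg.Omega.EDel.ThmU_m3
import Cfsg.Agent.Mrg.Omega.OM.PG.NoRad_m3
import Cfsg.Agent.Mrg.Omega.NOThreeL.Plug_m3
import Cfsg.Agent.Mrg.Omega.NO3S.SN.TwoP.NoOver_m3
import Cfsg.Agent.FastGrp
import Cfsg.Agent.Prune
set_option linter.all false

section
prune_inst 0x7ffcfefbaff9bddfffff7e7ffff7dffe39d0dfffffffff4bffe0ebffdfff070e3fedaba59df0d0fd4ff762b6b0b87853fd7ecf7fee6bdc7ffffd5ff45ffbee1fb5e7bf8951d68c341fbc2fffe3f07fce7f3fffffffffffffffffffffffffffbefffdffffffff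

-- part: Mrg/Omega/OM/Lev/LowBlk
section
prune_inst 0x10100100442000000018000080001c42c2000000000b0001f1400200068e1c002541a620c0a02b000810844400300008100000100010000000000000411804a1800242029308a00424000180b003180c00000000000000000000000000041000200000000
set_option linter.all false
open scoped Cfsg.Agent.FastGrp


/-!
# FF-blocks over `B = C_S(Ω₁(Z(lev S (n + 1))))` have modules in `Ω₁(Z(lev S n))`

`(L, V)` is a block over `B` and `A ≤ B` acts fully on `V`; `U` is an abelian group which is normalised by `B`, centralised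
by `A` and by `V`, and `U ≤ V C(A^l)` for all `l ∈ L`.

* `low` : `[U, B] ∩ V` centralises `L`;
* `FrL.no_low` : there is no such block over the frame of `P` (`U = V_P`), since `Z_J = [V_P, B]`;
* `V_le` : the module of every FF-block over `B` at stage `n` lies in `Ω₁(Z(lev S n))` (blocks of smaller stage do not
  exist).
-/

set_option autoImplicit false
set_option linter.unusedSectionVars false

namespace Cfsg.Agent.Omega.OM.Lev.LowBlk

open Subgroup Cfsg Cfsg.Agent.ZN Cfsg.Agent.ZN.ChoiceBase Cfsg.Agent.PLocal.ThompsonJ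
open Cfsg.Agent.Omega.OM.Uni Cfsg.Agent.Omega.OM.Lev.Uni
open Cfsg.Agent.Omega.SQ1.Bau (mem_sup_comm card_sup_comm elem_comm elem_sq)
open Cfsg.Agent.Omega.OM.BlockUniq
open scoped Pointwise commutatorElement

universe u

variable {G : Type u} [Group G]

section abs

variable {B L V Z A U : Subgroup G} {q : ℕ}

/-- The elements `z` of `V` with `[z, A^l] ≤ C(L)` for all `l ∈ L`. -/
def T0 (L V A : Subgroup G) (hV : ∀ v ∈ V, ∀ w ∈ V, v * w = w * v) (hn : ∀ l ∈ L, ∀ v ∈ V, l * v * l⁻¹ ∈ V)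
    (hAL : A ≤ L) : Subgroup G where
  carrier := {z | z ∈ V ∧ ∀ l ∈ L, ∀ a ∈ A, (l * a * l⁻¹) * z * (l * a * l⁻¹)⁻¹ * z⁻¹ ∈ centralizer (L : Set G)}
  one_mem' := ⟨one_mem _, fun l _ a _ => by
    have : (l * a * l⁻¹) * 1 * (l * a * l⁻¹)⁻¹ * 1⁻¹ = 1 := by group
    rw [this]; exact one_mem _⟩
  mul_mem' := by
    rintro z z' ⟨hz, h1⟩ ⟨hz', h2⟩
    refine ⟨mul_mem hz hz', fun l hl a ha => ?_⟩
    set g := l * a * l⁻¹ with hg
    have hgL : g ∈ L := mul_mem (mul_mem hl (hAL ha)) (inv_mem hl)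
    have c2 := h2 l hl a ha
    have c1 := h1 l hl a ha
    rw [← hg] at c1 c2
    have hc : g * z' * g⁻¹ * z'⁻¹ ∈ V := mul_mem (hn g hgL z' hz') (inv_mem hz')
    have e : g * (z * z') * g⁻¹ * (z * z')⁻¹ = (g * z * g⁻¹ * z⁻¹) * (g * z' * g⁻¹ * z'⁻¹) := by
      have h3 := hV _ hc _ hz
      calc g * (z * z') * g⁻¹ * (z * z')⁻¹ = g * z * g⁻¹ * ((g * z' * g⁻¹ * z'⁻¹) * z) * z⁻¹ * z⁻¹ := by group
        _ = g * z * g⁻¹ * (z * (g * z' * g⁻¹ * z'⁻¹)) * z⁻¹ * z⁻¹ := by rw [h3]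
        _ = g * z * g⁻¹ * z⁻¹ * (z * z) * ((g * z' * g⁻¹ * z'⁻¹) * (z⁻¹ * z⁻¹)) := by group
        _ = g * z * g⁻¹ * z⁻¹ * (z * z) * ((z⁻¹ * z⁻¹) * (g * z' * g⁻¹ * z'⁻¹)) := by
            rw [hV _ hc _ (mul_mem (inv_mem hz) (inv_mem hz))]
        _ = _ := by group
    rw [e]
    exact mul_mem c1 c2
  inv_mem' := by
    rintro z ⟨hz, h1⟩
    refine ⟨inv_mem hz, fun l hl a ha => ?_⟩
    set g := l * a * l⁻¹ with hg
    have hgL : g ∈ L := mul_mem (mul_mem hl (hAL ha)) (inv_mem hl)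
    have c1 := h1 l hl a ha
    rw [← hg] at c1
    have hc : g * z * g⁻¹ * z⁻¹ ∈ V := mul_mem (hn g hgL z hz) (inv_mem hz)
    have e : g * z⁻¹ * g⁻¹ * z⁻¹⁻¹ = (g * z * g⁻¹ * z⁻¹)⁻¹ := by
      have h3 := hV _ (hn g hgL _ (inv_mem hz)) _ hz
      rw [inv_inv, h3]
      group
    rw [e]
    exact inv_mem c1

theorem T0_norm {hV : ∀ v ∈ V, ∀ w ∈ V, v * w = w * v} {hn : ∀ l ∈ L, ∀ v ∈ V, l * v * l⁻¹ ∈ V}
    {hAL : A ≤ L} : L ≤ normalizer ((T0 L V A hV hn hAL : Subgroup G) : Set G) := by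
  have key : ∀ x ∈ L, ∀ z ∈ T0 L V A hV hn hAL, x * z * x⁻¹ ∈ T0 L V A hV hn hAL := by
    rintro x hx z ⟨hz, h1⟩
    refine ⟨hn x hx z hz, fun l hl a ha => ?_⟩
    have h2 := h1 (x⁻¹ * l) (mul_mem (inv_mem hx) hl) a ha
    have h3 : x * (x⁻¹ * l * a * (x⁻¹ * l)⁻¹ * z * (x⁻¹ * l * a * (x⁻¹ * l)⁻¹)⁻¹ * z⁻¹) * x⁻¹ =
        x⁻¹ * l * a * (x⁻¹ * l)⁻¹ * z * (x⁻¹ * l * a * (x⁻¹ * l)⁻¹)⁻¹ * z⁻¹ := by
      rw [mem_centralizer_iff.1 h2 x hx]; group
    have e : (l * a * l⁻¹) * (x * z * x⁻¹) * (l * a * l⁻¹)⁻¹ * (x * z * x⁻¹)⁻¹ =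
        x * (x⁻¹ * l * a * (x⁻¹ * l)⁻¹ * z * (x⁻¹ * l * a * (x⁻¹ * l)⁻¹)⁻¹ * z⁻¹) * x⁻¹ := by group
    rw [e, h3]
    exact h2
  exact Cfsg.Agent.Omega.OM.UniPlus.norm_of_forall key

/-- **(LOW)** -/
theorem low (h : FB B L V Z q) (hirr : ∀ U : Subgroup G, U ≤ V → L ≤ normalizer (U : Set G) →
      U ≤ centralizer (L : Set G) ∨ V ≤ U)
    (hA : A ≤ B) (hne : ¬ ∀ a ∈ A, ∀ v ∈ V, a * v = v * a)
    (hfull : ∀ b ∈ B, ∃ a ∈ A, a⁻¹ * b ∈ centralizer (V : Set G))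
    (hUV : ∀ x ∈ U, ∀ v ∈ V, x * v = v * x) (hBU : ∀ b ∈ B, ∀ x ∈ U, b * x * b⁻¹ ∈ U)
    (hAU : ∀ a ∈ A, ∀ x ∈ U, a * x = x * a)
    (hsp : ∀ l ∈ L, ∀ x ∈ U, ∃ w ∈ V, ∀ a ∈ A, (l * a * l⁻¹) * (w * x) = (w * x) * (l * a * l⁻¹)) :
    ⁅U, B⁆ ⊓ V ≤ centralizer (L : Set G) := by
  have hVc : ∀ v ∈ V, ∀ w ∈ V, v * w = w * v := fun v hv w hw => h.comm hv hw
  have hAL : A ≤ L := hA.trans h.BL
  -- `[U, B] = [U, C_B(V)]`
  set D : Subgroup G := ⁅U, B ⊓ centralizer (V : Set G)⁆ with hD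
  have hDU : D ≤ U := by
    rw [hD, Subgroup.commutator_le]
    intro x hx b hb
    have h1 := hBU b (mem_inf.1 hb).1 x⁻¹ (inv_mem hx)
    have e : ⁅x, b⁆ = x * (b * x⁻¹ * b⁻¹) := by rw [commutatorElement_def]; group
    rw [e]
    exact mul_mem hx h1
  have hUB : ⁅U, B⁆ ≤ D := by
    rw [Subgroup.commutator_le]
    intro x hx b hb
    obtain ⟨a, ha, hab⟩ := hfull b hb
    have hb' : a⁻¹ * b ∈ B := mul_mem (inv_mem (hA ha)) hb
    have h1 := hBU _ hb' x⁻¹ (inv_mem hx)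
    have h2 := hAU a ha _ h1
    have e : ⁅x, b⁆ = ⁅x, a⁻¹ * b⁆ := by
      rw [commutatorElement_def, commutatorElement_def]
      calc x * b * x⁻¹ * b⁻¹ = x * (a * (a⁻¹ * b * x⁻¹ * (a⁻¹ * b)⁻¹)) * a⁻¹ := by group
        _ = x * ((a⁻¹ * b * x⁻¹ * (a⁻¹ * b)⁻¹) * a) * a⁻¹ := by rw [h2]
        _ = _ := by group
    rw [e]
    exact commutator_mem_commutator hx (mem_inf.2 ⟨hb', hab⟩)
  -- `A^l` normalises `D`
  have hDn : ∀ l ∈ L, ∀ a ∈ A, ∀ y ∈ D, (l * a * l⁻¹) * y * (l * a * l⁻¹)⁻¹ ∈ D := by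
    intro l hl a ha
    set g := l * a * l⁻¹ with hg
    have hgL : g ∈ L := mul_mem (mul_mem hl (hAL ha)) (inv_mem hl)
    have h1 : D ≤ D.comap (MulAut.conj g).toMonoidHom := by
      conv_lhs => rw [hD]
      rw [Subgroup.commutator_le]
      intro x hx e he
      obtain ⟨heB, heV⟩ := mem_inf.1 he
      have heV' : ∀ v ∈ V, e * v = v * e := fun v hv => (mem_centralizer_iff.1 heV v hv).symm
      obtain ⟨w, hw, hwc⟩ := hsp l hl x hx
      have hwc := hwc a ha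
      rw [← hg] at hwc
      -- `g x g⁻¹ = w' x`
      set w' := g * w⁻¹ * g⁻¹ * w with hw'
      have hw'V : w' ∈ V := mul_mem (h.nV g hgL _ (inv_mem hw)) hw
      have hgx : g * x * g⁻¹ = w' * x := by
        calc g * x * g⁻¹ = g * w⁻¹ * (w * x) * g⁻¹ := by group
          _ = g * w⁻¹ * g⁻¹ * (g * (w * x)) * g⁻¹ := by group
          _ = g * w⁻¹ * g⁻¹ * ((w * x) * g) * g⁻¹ := by rw [hwc]
          _ = w' * x := by rw [hw']; group
      have he'B : g * e * g⁻¹ ∈ B := h.cor g hgL e heB heV'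
      have he'V : g * e * g⁻¹ ∈ centralizer (V : Set G) := by
        rw [mem_centralizer_iff]
        intro v hv
        have h2 := heV' _ (h.nV' hgL hv)
        calc v * (g * e * g⁻¹) = g * ((g⁻¹ * v * g) * e) * g⁻¹ := by group
          _ = g * (e * (g⁻¹ * v * g)) * g⁻¹ := by rw [h2]
          _ = _ := by group
      have h3 : ⁅x, g * e * g⁻¹⁆ ∈ D := commutator_mem_commutator hx (mem_inf.2 ⟨he'B, he'V⟩)
      have h4 : g * ⁅x, e⁆ * g⁻¹ = ⁅x, g * e * g⁻¹⁆ := by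
        have h5 := mem_centralizer_iff.1 he'V _ (inv_mem hw'V)
        have h6 := hUV _ (hDU h3) w' hw'V
        rw [commutatorElement_def] at h6 ⊢
        rw [commutatorElement_def]
        calc g * (x * e * x⁻¹ * e⁻¹) * g⁻¹ = (g * x * g⁻¹) * (g * e * g⁻¹) * (g * x * g⁻¹)⁻¹ * (g * e * g⁻¹)⁻¹ := by
              group
          _ = (w' * x) * (g * e * g⁻¹) * (w' * x)⁻¹ * (g * e * g⁻¹)⁻¹ := by rw [hgx]
          _ = w' * (x * (g * e * g⁻¹) * x⁻¹) * (w'⁻¹ * (g * e * g⁻¹)⁻¹) := by group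
          _ = w' * (x * (g * e * g⁻¹) * x⁻¹) * ((g * e * g⁻¹)⁻¹ * w'⁻¹) := by
              have h7 : w'⁻¹ * (g * e * g⁻¹)⁻¹ = (g * e * g⁻¹)⁻¹ * w'⁻¹ := by
                have h8 : Commute w'⁻¹ (g * e * g⁻¹) := h5
                exact h8.inv_right.eq
              rw [h7]
          _ = w' * (x * (g * e * g⁻¹) * x⁻¹ * (g * e * g⁻¹)⁻¹) * w'⁻¹ := by group
          _ = (x * (g * e * g⁻¹) * x⁻¹ * (g * e * g⁻¹)⁻¹) * w' * w'⁻¹ := by rw [h6]
          _ = _ := by group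
      show (MulAut.conj g).toMonoidHom ⁅x, e⁆ ∈ D
      change g * ⁅x, e⁆ * g⁻¹ ∈ D
      rw [h4]
      exact h3
    intro y hy
    exact h1 hy
  -- `D ∩ V ≤ Z`
  have hDZ : ∀ y ∈ D, y ∈ V → y ∈ Z := by
    intro y hy hyV
    push Not at hne
    obtain ⟨a, ha, v, hv, hav⟩ := hne
    exact h.mem_Z (hA ha) (fun h1 => hav (h1 v hv)) hyV (hAU a ha y (hDU hy))
  -- `D ∩ V ≤ T0`
  have hDT : D ⊓ V ≤ T0 L V A hVc h.nV hAL := by
    rintro y ⟨hy, hyV⟩
    refine ⟨hyV, fun l hl a ha => ?_⟩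
    have hgL : l * a * l⁻¹ ∈ L := mul_mem (mul_mem hl (hAL ha)) (inv_mem hl)
    have hyZ := hDZ y hy hyV
    by_cases hlZ : cj l Z = Z
    · have h1 : y ∈ cj l Z := by rw [hlZ]; exact hyZ
      rw [mem_cj] at h1
      have h2 := h.cZ a (hA ha) _ h1
      have e : (l * a * l⁻¹) * y * (l * a * l⁻¹)⁻¹ * y⁻¹ = 1 := by
        calc (l * a * l⁻¹) * y * (l * a * l⁻¹)⁻¹ * y⁻¹ = l * (a * (l⁻¹ * y * l)) * a⁻¹ * l⁻¹ * y⁻¹ := by group
          _ = l * ((l⁻¹ * y * l) * a) * a⁻¹ * l⁻¹ * y⁻¹ := by rw [h2]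
          _ = 1 := by group
      rw [e]; exact one_mem _
    · rcases h.tri l hl with h1 | h1
      · exact absurd h1 hlZ
      apply h1
      refine mem_inf.2 ⟨?_, ?_⟩
      · rw [mem_cj]
        have h2 := h.com a (hA ha) _ (h.nV' hl hyV)
        have e : l⁻¹ * ((l * a * l⁻¹) * y * (l * a * l⁻¹)⁻¹ * y⁻¹) * l =
            a * (l⁻¹ * y * l) * a⁻¹ * (l⁻¹ * y * l)⁻¹ := by group
        rwa [e]
      · exact mul_mem (hDZ _ (hDn l hl a ha y hy) (h.nV _ hgL y hyV)) (inv_mem hyZ)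
  intro y hy
  obtain ⟨hy1, hy2⟩ := mem_inf.1 hy
  have hyT : y ∈ T0 L V A hVc h.nV hAL := hDT (mem_inf.2 ⟨hUB hy1, hy2⟩)
  rcases hirr (T0 L V A hVc h.nV hAL) (fun z hz => hz.1) T0_norm with h1 | h1
  · exact h1 hyT
  · exfalso
    -- `[V, B] ≤ C(L)`
    have h2 : ⁅V, B⁆ ≤ centralizer (L : Set G) := by
      rw [Subgroup.commutator_le]
      intro v hv b hb
      obtain ⟨a, ha, hab⟩ := hfull b hb
      have h3 := (h1 hv).2 1 (one_mem _) a ha
      have h4 := mem_centralizer_iff.1 hab v⁻¹ (inv_mem hv)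
      have e : ⁅v, b⁆ = ((1 * a * 1⁻¹) * v * (1 * a * 1⁻¹)⁻¹ * v⁻¹)⁻¹ := by
        rw [commutatorElement_def]
        calc v * b * v⁻¹ * b⁻¹ = v * a * ((a⁻¹ * b) * v⁻¹) * b⁻¹ := by group
          _ = v * a * (v⁻¹ * (a⁻¹ * b)) * b⁻¹ := by rw [h4]
          _ = _ := by group
      rw [e]
      exact inv_mem h3
    obtain ⟨l, hl, hs⟩ := h.sup
    have h3 : V ≤ centralizer (L : Set G) := by
      refine hs.trans (sup_le h2 ?_)
      refine (cj_mono l h2).trans (le_of_eq ?_)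
      rw [cj_centralizer, cj_eq_of_mem_normalizer (le_normalizer hl)]
    obtain ⟨b, hb, v, hv, hbv⟩ := h.ne
    exact hbv (mem_centralizer_iff.1 (h3 hv) b (h.BL hb))

/-- `Z` is not central in `L`. -/
theorem not_le (h : FB B L V Z q) : ¬ Z ≤ centralizer (L : Set G) := by
  intro h1
  have h2 : ⁅V, B⁆ ≤ centralizer (L : Set G) := (h.comm_le le_rfl).trans h1
  obtain ⟨l, hl, hs⟩ := h.sup
  have h3 : V ≤ centralizer (L : Set G) := by
    refine hs.trans (sup_le h2 ?_)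
    refine (cj_mono l h2).trans (le_of_eq ?_)
    rw [cj_centralizer, cj_eq_of_mem_normalizer (le_normalizer hl)]
  obtain ⟨b, hb, v, hv, hbv⟩ := h.ne
  exact hbv (mem_centralizer_iff.1 (h3 hv) b (h.BL hb))

/-- A full subgroup acts as `B`. -/
theorem exists_same (h : Md B V Z q) [Finite G] (hA : A ≤ B)
    (hq : q * Nat.card ↥(A ⊓ centralizer (V : Set G)) ≤ Nat.card A) {b : G} (hb : b ∈ B) :
    ∃ a ∈ A, a⁻¹ * b ∈ centralizer (V : Set G) := by
  obtain ⟨b0, hb0, v, hv, hne⟩ := h.ne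
  have hvZ : v ∉ Z := fun hz => hne (h.cZ b0 hb0 v hz)
  obtain ⟨R, hR1, hR2, hR3, hR4⟩ := h.relIndex_comm hA hv hvZ
  obtain ⟨S, hS1, hS2, hS3, hS4⟩ := h.relIndex_comm le_rfl hv hvZ
  have h1 : R ≤ S := by
    intro r hr
    obtain ⟨x, hx, rfl⟩ := hR2 r hr
    exact hS3 x (hA hx)
  have h3 : Nat.card S ≤ q := by
    have h4 := h.cardB
    rw [← hS4] at h4
    exact Nat.le_of_mul_le_mul_right h4 Nat.card_pos
  have h5 : q ≤ Nat.card R := by
    rw [← hR4] at hq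
    exact Nat.le_of_mul_le_mul_right hq Nat.card_pos
  have h6 : R = S := Subgroup.eq_of_le_of_card_ge h1 (h3.trans h5)
  have h7 := hS3 b hb
  rw [← h6] at h7
  obtain ⟨a, ha, e⟩ := hR2 _ h7
  refine ⟨a, ha, mem_centralizer_iff.2 fun u hu => ?_⟩
  refine (h.free (a⁻¹ * b) (mul_mem (inv_mem (hA ha)) hb) v hv hvZ ?_ u hu).symm
  have e1 : b * v * b⁻¹ = a * v * a⁻¹ := mul_right_cancel e
  calc a⁻¹ * b * v = a⁻¹ * (b * v * b⁻¹) * b := by group
    _ = a⁻¹ * (a * v * a⁻¹) * b := by rw [e1]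
    _ = _ := by group

end abs

/-! ### The frame -/

section frame

variable {ι : Type*} {B Q U X ZJ : Subgroup G} {L W Z C A : ι → Subgroup G} {q : ℕ}
variable {L' V' Z' A' : Subgroup G} {q' : ℕ}

theorem BU (h : FrL B Q U X ZJ L W Z C A q) [Finite ι] {b : G} (hb : b ∈ B) {x : G} (hx : x ∈ U) :
    b * x * b⁻¹ ∈ U := by
  rcases isEmpty_or_nonempty ι with hi | ⟨⟨i⟩⟩
  · have h1 : U = ⊥ := by rw [h.V_eq, iSup_of_empty]
    rw [h1, mem_bot] at hx ⊢
    rw [hx]; group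
  · exact h.LV i b ((h.blk i).BL hb) x hx

/-- There is no block of smaller stage over the frame of `P`. -/
theorem no_low (h : FrL B Q U X ZJ L W Z C A q) [Finite G] [Finite ι] (h' : FB B L' V' Z' q')
    (hirr : ∀ U : Subgroup G, U ≤ V' → L' ≤ normalizer (U : Set G) → U ≤ centralizer (L' : Set G) ∨ V' ≤ U)
    (hA : A' ≤ B) (hne : ¬ ∀ a ∈ A', ∀ v ∈ V', a * v = v * a)
    (hq : q' * Nat.card ↥(A' ⊓ centralizer (V' : Set G)) ≤ Nat.card A')
    (hUV : ∀ x ∈ U, ∀ v ∈ V', x * v = v * x)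
    (hAU : ∀ a ∈ A', ∀ x ∈ U, a * x = x * a)
    (hsp : ∀ l ∈ L', ∀ x ∈ U, ∃ w ∈ V', ∃ c, (∀ a ∈ A', a * c = c * a) ∧ l⁻¹ * x * l = w * c) : False := by
  have h1 := low h' hirr hA hne (fun b hb => exists_same h'.toMd hA hq hb) hUV (fun b hb x hx => BU h hb hx) hAU
    (fun l hl x hx => by
      obtain ⟨w, hw, c, hc, e⟩ := hsp l hl x hx
      refine ⟨(l * w * l⁻¹)⁻¹, inv_mem (h'.nV l hl w hw), fun a ha => ?_⟩
      have e1 : (l * w * l⁻¹)⁻¹ * x = l * c * l⁻¹ := by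
        calc (l * w * l⁻¹)⁻¹ * x = l * w⁻¹ * (l⁻¹ * x * l) * l⁻¹ := by group
          _ = l * w⁻¹ * (w * c) * l⁻¹ := by rw [e]
          _ = _ := by group
      rw [e1]
      calc l * a * l⁻¹ * (l * c * l⁻¹) = l * (a * c) * l⁻¹ := by group
        _ = l * (c * a) * l⁻¹ := by rw [hc a ha]
        _ = _ := by group)
  have h2 : Z' ≤ zc B := Cfsg.Agent.Omega.OM.UniPlus.Z_le_zc h'.toMd
  rw [h.zcB] at h2
  have h3 : ZJ ≤ ⁅U, B⁆ := Low.zj_le h fun i =>
    (h.comm_W i).symm.le.trans (commutator_mono (h.WV i) le_rfl)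
  exact not_le h' fun z hz => h1 (mem_inf.2 ⟨h3 (h2 hz), h'.ZV hz⟩)

end frame

/-- `C_B(V)` is normal in `L`. -/
theorem norm_core {B L V Z : Subgroup G} {q : ℕ} (h : FB B L V Z q) :
    L ≤ normalizer ((B ⊓ centralizer (V : Set G) : Subgroup G) : Set G) := by
  refine Cfsg.Agent.Omega.OM.UniPlus.norm_of_forall fun l hl x hx => ?_
  obtain ⟨hxB, hxV⟩ := mem_inf.1 hx
  refine mem_inf.2 ⟨h.cor l hl x hxB fun v hv => (mem_centralizer_iff.1 hxV v hv).symm, ?_⟩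
  rw [mem_centralizer_iff]
  intro v hv
  have h2 := mem_centralizer_iff.1 hxV _ (h.nV' hl hv)
  calc v * (l * x * l⁻¹) = l * ((l⁻¹ * v * l) * x) * l⁻¹ := by group
    _ = l * (x * (l⁻¹ * v * l)) * l⁻¹ := by rw [h2]
    _ = _ := by group

section stage

open Cfsg.Agent.Omega.NO3S.Level

variable {ι : Type*} {Q U : Subgroup G} {L W Z C A : ι → Subgroup G} {q : ℕ}
variable {L' V' Z' : Subgroup G} {q' : ℕ}

/-- **The module of every FF-block over `B` lies in `Ω₁(Z(lev S n))`.** -/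
theorem V_le [Finite G] [Finite ι] (S : Sylow 2 G) {n : ℕ} {B : Subgroup G}
    (eqB : B = (S : Subgroup G) ⊓ centralizer ((zc (lev (S : Subgroup G) (n + 1)) : Subgroup G) : Set G))
    (h : FrL B Q U (zc (lev (S : Subgroup G) n)) (zc (lev (S : Subgroup G) (n + 1))) L W Z C A q)
    (h' : FB B L' V' Z' q')
    (hirr : ∀ U : Subgroup G, U ≤ V' → L' ≤ normalizer (U : Set G) → U ≤ centralizer (L' : Set G) ∨ V' ≤ U) :
    V' ≤ zc (lev (S : Subgroup G) n) := by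
  classical
  have hBS : B ≤ (S : Subgroup G) := eqB ▸ inf_le_left
  have hlevB : lev (S : Subgroup G) (n + 1) ≤ B := by
    rw [eqB]
    exact le_inf (lev_le _ _) (NO3S.Level.le_centralizer_zc _)
  by_contra hcon
  have hn : ¬ lev (S : Subgroup G) n ≤ centralizer (V' : Set G) := fun h1 => hcon fun v hv =>
    (lev_isLev (S : Subgroup G) n).mem_of_comm (hBS (h'.VB hv)) (elem_sq h'.el v hv) fun y hy =>
      (mem_centralizer_iff.1 (h1 hy) v hv).symm
  have hex : ∃ j, ¬ lev (S : Subgroup G) j ≤ centralizer (V' : Set G) := ⟨n, hn⟩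
  obtain ⟨j, hj, hjn, hmin⟩ : ∃ j, ¬ lev (S : Subgroup G) j ≤ centralizer (V' : Set G) ∧ j ≤ n ∧
      ∀ i < j, lev (S : Subgroup G) i ≤ centralizer (V' : Set G) :=
    ⟨Nat.find hex, Nat.find_spec hex, Nat.find_min' hex hn, fun i hi => not_not.1 (Nat.find_min hex hi)⟩
  have hUc : ∀ x ∈ U, ∀ y ∈ lev (S : Subgroup G) n, y * x = x * y := fun x hx y hy =>
    (ChoiceBase.mem_zc.1 (h.VX hx)).2.2 y hy
  have hUS : U ≤ (S : Subgroup G) := (h.VQ.trans h.QB).trans hBS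
  have hCS : B ⊓ centralizer (V' : Set G) ≤ (S : Subgroup G) := inf_le_left.trans hBS
  have hLn := norm_core h'
  cases j with
  | zero =>
    obtain ⟨A', hA', hAV⟩ : ∃ A' ∈ AA (S : Subgroup G), ¬ A' ≤ centralizer (V' : Set G) := by
      by_contra hc
      push Not at hc
      apply hj
      show jj (S : Subgroup G) ≤ _
      rw [jj_eq]
      exact sSup_le hc
    have hA'n : A' ≤ lev (S : Subgroup G) n := (le_jj hA').trans (lev_mono (S : Subgroup G) (Nat.zero_le n))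
    have hA'B : A' ≤ B := hA'n.trans ((lev_le_succ _ n).trans hlevB)
    have hne : ¬ ∀ a ∈ A', ∀ v ∈ V', a * v = v * a := fun h1 => hAV fun a ha =>
      mem_centralizer_iff.2 fun v hv => (h1 a ha v hv).symm
    rcases h'.toMd.full (mx_sylow S) hA'B hA'.1 (mm_eq hA').symm with h0 | ⟨-, c2, c3, -⟩
    · exact hne h0
    set A0 := A' ⊓ centralizer (V' : Set G) with hA0
    -- `A* = V' A₀ ∈ 𝓐(S)`
    have hcomm : ∀ v ∈ V', ∀ a ∈ A0, v * a = a * v := fun v hv a ha =>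
      mem_centralizer_iff.1 (mem_inf.1 ha).2 v hv
    have hel : IsElementaryAbelian 2 (V' ⊔ A0 : Subgroup G) := Cfsg.Agent.PLocal.ElemAbSup.isElementaryAbelian_sup h'.el
      (isElementaryAbelian_mono hA'.1 inf_le_left) (elem_le_centralizer hcomm)
    have hcard : mm (S : Subgroup G) ≤ Nat.card ↥(V' ⊔ A0) := by
      have h1 := card_sup_comm (A := V') (B := A0) hcomm
      have h2 : V' ⊓ A0 ≤ Z' := by
        rw [← c2]
        refine le_inf inf_le_left fun x hx => ?_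
        rw [mem_centralizer_iff]
        exact fun a ha => elem_comm hA'.1 a ha x (mem_inf.1 (mem_inf.1 hx).2).1
      have h3 := Subgroup.card_le_of_le h2
      rw [mm_eq hA']
      have hp : 0 < Nat.card Z' := Nat.card_pos
      refine Nat.le_of_mul_le_mul_right ?_ hp
      calc Nat.card A' * Nat.card Z' = Nat.card V' * Nat.card A0 := by rw [← c3, h'.card]; ring
        _ = Nat.card ↥(V' ⊔ A0) * Nat.card ↥(V' ⊓ A0) := h1.symm
        _ ≤ _ := Nat.mul_le_mul_left _ h3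
    have hcjA : ∀ l ∈ L', cj l (V' ⊔ A0) ∈ AA (S : Subgroup G) := by
      intro l hl
      rw [mem_AA_iff]
      refine ⟨isElementaryAbelian_cj l hel, ?_, by rw [card_cj]; exact hcard⟩
      have h1 : V' ⊔ A0 ≤ B ⊓ centralizer (V' : Set G) := by
        refine sup_le (le_inf h'.VB fun v hv => mem_centralizer_iff.2 fun w hw => h'.comm hw hv) ?_
        exact inf_le_inf_right _ hA'B
      have h2 := cj_mono l h1
      rw [cj_eq_of_mem_normalizer (hLn hl)] at h2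
      exact h2.trans hCS
    have hVn : V' ≤ lev (S : Subgroup G) n := by
      have h1 := hcjA 1 (one_mem _)
      rw [cj_one] at h1
      exact le_sup_left.trans ((le_jj h1).trans (lev_mono (S : Subgroup G) (Nat.zero_le n)))
    refine no_low h h' hirr hA'B hne c3.le (fun x hx v hv => (hUc x hx v (hVn hv)).symm)
      (fun a ha x hx => hUc x hx a (hA'n ha)) fun l hl x hx => ?_
    have h1 : x ∈ cj l (V' ⊔ A0) := SQ1.Bau.mem_AA_of_comm (hcjA l hl) (hUS hx) (elem_sq h.el x hx) fun a ha =>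
      hUc x hx a ((le_jj (hcjA l hl)).trans (lev_mono (S : Subgroup G) (Nat.zero_le n)) ha)
    rw [mem_cj] at h1
    obtain ⟨w, hw, c, hc, e⟩ := mem_sup_comm hcomm h1
    exact ⟨w, hw, c, fun a ha => elem_comm hA'.1 a ha c (mem_inf.1 hc).1, e⟩
  | succ j =>
    have hjV : lev (S : Subgroup G) j ≤ centralizer (V' : Set G) := hmin j (Nat.lt_succ_self j)
    have hLj := lev_isLev (S : Subgroup G) j
    have hVX : V' ≤ zc (lev (S : Subgroup G) j) := fun v hv =>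
      hLj.mem_of_comm (hBS (h'.VB hv)) (elem_sq h'.el v hv) fun y hy => (mem_centralizer_iff.1 (hjV hy) v hv).symm
    obtain ⟨A', hA', hAV⟩ : ∃ A' ∈ BO (S : Subgroup G) (lev (S : Subgroup G) j),
        ¬ A' ≤ centralizer (V' : Set G) := by
      by_contra hc
      push Not at hc
      apply hj
      exact sup_le (inf_le_right.trans (centralizer_le hVX)) (sSup_le hc)
    have hjn' : lev (S : Subgroup G) (j + 1) ≤ lev (S : Subgroup G) n := lev_mono (S : Subgroup G) hjn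
    have hA'n : A' ≤ lev (S : Subgroup G) n := (BO.le_nxt hA').trans hjn'
    have hA'B : A' ≤ B := hA'n.trans ((lev_le_succ _ n).trans hlevB)
    have hne : ¬ ∀ a ∈ A', ∀ v ∈ V', a * v = v * a := fun h1 => hAV fun a ha =>
      mem_centralizer_iff.2 fun v hv => (h1 a ha v hv).symm
    have hXc : ∀ x ∈ zc (lev (S : Subgroup G) j), ∀ y ∈ zc (lev (S : Subgroup G) j), x * y = y * x :=
      fun x hx y hy => Lev.zc_comm hx hy
    have hb : Lev.Uni.Best (zc (lev (S : Subgroup G) j)) A' := fun F h1 h2 => hA'.2.max F h2 h1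
    rcases fullX h'.toMd hXc hVX hA'B hb with h0 | ⟨-, c2, c3, c4⟩
    · exact hne h0
    set A0 := A' ⊓ centralizer (V' : Set G) with hA0
    have hA0B : A0 ∈ BO (S : Subgroup G) (lev (S : Subgroup G) j) :=
      ⟨inf_le_left.trans hA'.1, NO1.BestOff.ElemM.mono hA'.2.toElemM inf_le_left, fun F h1 h2 =>
        SFr.best_cut h'.toMd hXc hVX hA'B hb F h2 h1⟩
    have hlevQ : lev (S : Subgroup G) j ≤ B ⊓ centralizer (V' : Set G) :=
      le_inf ((lev_mono (S : Subgroup G) (by omega : j ≤ n + 1)).trans hlevB) hjV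
    have hLnj : ∀ l ∈ L', l ∈ normalizer (lev (S : Subgroup G) j : Set G) := fun l hl =>
      hLj.norm _ hlevQ hCS (hLn hl)
    have hUX : U ≤ zc (lev (S : Subgroup G) j) := h.VX.trans
      (hLj.zc_le_zc (lev_mono (S : Subgroup G) (by omega : j ≤ n)) (lev_le _ _))
    refine no_low h h' hirr hA'B hne c3.le (fun x hx v hv => hXc x (hUX hx) v (hVX hv))
      (fun a ha x hx => hUc x hx a (hA'n ha)) fun l hl x hx => ?_
    have h1 : cj l A0 ∈ BO (S : Subgroup G) (lev (S : Subgroup G) j) := by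
      refine BO.conj hA0B (hLnj l hl) ?_
      have h2 : A0 ≤ B ⊓ centralizer (V' : Set G) := inf_le_inf_right _ hA'B
      have h3 := cj_mono l h2
      rw [cj_eq_of_mem_normalizer (hLn hl)] at h3
      exact h3.trans hCS
    have h2 : l⁻¹ * x * l ∈ zc (lev (S : Subgroup G) j) := by
      have h3 := cj_eq_of_mem_normalizer (normalizer_le_zc _ (hLnj l hl))
      rw [← mem_cj, h3]
      exact hUX hx
    have h3 : l⁻¹ * x * l ∈ zc (lev (S : Subgroup G) j) ⊓ centralizer (A0 : Set G) := by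
      refine mem_inf.2 ⟨h2, mem_centralizer_iff.2 fun a ha => ?_⟩
      have h4 : l * a * l⁻¹ ∈ lev (S : Subgroup G) n := (BO.le_nxt h1).trans hjn' ⟨a, ha, rfl⟩
      have h5 := hUc x hx _ h4
      calc a * (l⁻¹ * x * l) = l⁻¹ * ((l * a * l⁻¹) * x) * l := by group
        _ = l⁻¹ * (x * (l * a * l⁻¹)) * l := by rw [h5]
        _ = _ := by group
    rw [c4] at h3
    obtain ⟨w, hw, c, hc, e⟩ := mem_sup_comm (fun v hv c hc => hXc v (hVX hv) c (mem_inf.1 hc).1) h3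
    exact ⟨w, hw, c, fun a ha => mem_centralizer_iff.1 (mem_inf.1 hc).2 a ha, e⟩

end stage

end Cfsg.Agent.Omega.OM.Lev.LowBlk
end

-- part: Mrg/Omega/OM/SwapL/Off
section
prune_inst 0x402000000018000080001c02c0000000000b0001f1400200060e18000501a62040802900081084000000000000000010001000000000000000000020800242009308a004240001803003180c00000000000000000000000000041000000000000
set_option linter.all false
open scoped Cfsg.Agent.FastGrp

-- merged: Cfsg.Agent.Mrg.Omega.OM.SwapL.Mod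
section

/-!
# THEOREM SW at the levels: module facts over the frame `FrL`, `q = 2`

* `act` (m1): `b ∈ B` acts on `W i` trivially or by the transvection with centre `z i`;
* `hat` (m2): a best offender on `X` in `B` which moves `W i` contains an element which moves `W i`
  and centralises all `W j`, `j ≠ i`;
* `conj_ZJ` (m3): every element of `∏_{i ∈ r} W i` is conjugate under `⟨L i : i ∈ r⟩` to an element of `∏_{i ∈ r} Z i`.
(The proofs of helper323, `Swap/ModFacts.lean`.)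
-/

set_option autoImplicit false
set_option linter.unusedSectionVars false

namespace Cfsg.Agent.Omega.OM.SwapL

open Subgroup Cfsg Cfsg.Agent.PLocal.ThompsonJ Cfsg.Agent.ZN Cfsg.Agent.ZN.ChoiceBase
open Cfsg.Agent.PLocal.ElemAbSup
open Cfsg.Agent.Omega.SQ1.Bau (mem_sup_comm card_sup_comm elem_comm elem_sq)
open Cfsg.Agent.Omega.OM.BlockUniq
open Cfsg.Agent.Omega.OM.Uni
open Cfsg.Agent.Omega.OM.Lev.Uni (FrL Best fullX)
open scoped Pointwise commutatorElement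

universe u

variable {G : Type u} [Group G]

section fr

variable {ι : Type*} {B Q V X ZJ : Subgroup G} {L W Z C A : ι → Subgroup G}
  (h : FrL B Q V X ZJ L W Z C A 2)
include h

theorem Z_inf {i j : ι} (hij : i ≠ j) {x : G} (hi : x ∈ Z i) (hj : x ∈ Z j) : x = 1 := by
  have h1 : x ∈ W i ⊓ C i := mem_inf.2 ⟨(h.blk i).ZV hi, h.WjC i j hij ((h.blk j).ZV hj)⟩
  rwa [h.dir i, mem_bot] at h1

theorem WW_comm {i j : ι} {x y : G} (hx : x ∈ W i) (hy : y ∈ W j) : x * y = y * x :=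
  h.Vc (h.WV i hx) (h.WV j hy)

theorem two_Z [Finite G] {i : ι} {z x : G} (hz : z ∈ Z i) (hz1 : z ≠ 1) (hx : x ∈ Z i) : x = 1 ∨ x = z := by
  have hc := h.cardZ i
  by_contra hne
  push Not at hne
  have h1 : 3 ≤ Nat.card (Z i) := by
    have h2 : ({1, z, x} : Set G) ⊆ (Z i : Set G) := by
      rintro y (rfl | rfl | rfl)
      · exact one_mem _
      · exact hz
      · exact hx
    have h3 := Set.ncard_le_ncard h2 (Set.toFinite _)
    have h4 : ({1, z, x} : Set G).ncard = 3 := by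
      rw [Set.ncard_eq_three]
      exact ⟨1, z, x, Ne.symm hz1, Ne.symm hne.1, Ne.symm hne.2, rfl⟩
    rw [h4] at h3
    exact h3
  omega

/-- **(m1)** -/
theorem act [Finite G] {i : ι} {z : G} (hz : z ∈ Z i) (hz1 : z ≠ 1) {b : G} (hb : b ∈ B) {x : G} (hx : x ∈ W i) :
    b * x * b⁻¹ = x ∨ b * x * b⁻¹ = x * z := by
  have h1 := (h.blk i).com b hb x hx
  rcases two_Z h hz hz1 h1 with h2 | h2
  · left; exact mul_inv_eq_one.1 h2
  · right
    have h3 : b * x * b⁻¹ = z * x := mul_inv_eq_iff_eq_mul.1 h2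
    rw [h3]
    exact WW_comm h ((h.blk i).ZV hz) hx

/-- `C_E(W j)` is a best offender if `E` is one which moves `W j`. -/
theorem best_cut [Finite G] {E : Subgroup G} (hE : E ≤ B) (hb : Best X E) {j : ι}
    (hj : ∃ a ∈ E, ∃ w ∈ W j, a * w ≠ w * a) :
    X ⊓ centralizer ((E ⊓ centralizer (W j : Set G) : Subgroup G) : Set G) =
        W j ⊔ (X ⊓ centralizer (E : Set G)) ∧ Best X (E ⊓ centralizer (W j : Set G)) := by
  rcases fullX (h.blk j).toMd h.Xc ((h.WV j).trans h.VX) hE hb with h1 | ⟨-, h2, h3, h4⟩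
  · obtain ⟨a, ha, w, hw, hne⟩ := hj
    exact absurd (h1 a ha w hw) hne
  refine ⟨h4, fun F hF1 hF2 => ?_⟩
  -- `|F₀| |C_X(F₀)| = |E| |C_X(E)|`, `F₀ = C_E(W j)`
  have hcc := card_sup_comm (A := W j) (B := X ⊓ centralizer (E : Set G)) fun a ha b hb' =>
    h.Xc a (h.VX (h.WV j ha)) b hb'.1
  have h5 : W j ⊓ (X ⊓ centralizer (E : Set G)) = Z j := by
    rw [← inf_assoc, inf_eq_left.2 ((h.WV j).trans h.VX), h2]
  rw [h5, ← h4, (h.blk j).card, h.cardZ j] at hcc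
  have h6 := hb F ?_ (hF2.trans inf_le_left)
  · calc Nat.card F * Nat.card ↥(X ⊓ centralizer (F : Set G)) ≤
          Nat.card E * Nat.card ↥(X ⊓ centralizer (E : Set G)) := h6
      _ = _ := by rw [← h3]; nlinarith only [hcc]
  · refine le_trans (le_inf (le_inf inf_le_left (inf_le_right.trans (centralizer_le ?_))) inf_le_right) hF1
    exact_mod_cast (h.WV j).trans h.VX

/-- `C_E(W j)` moves `W i` -/
theorem swap_mov [Finite G] {E : Subgroup G} (hE : E ≤ B) (hb : Best X E) {i j : ι} (hij : i ≠ j)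
    (hi : ∃ a ∈ E, ∃ w ∈ W i, a * w ≠ w * a) (hj : ∃ a ∈ E, ∃ w ∈ W j, a * w ≠ w * a) :
    ∃ a ∈ E ⊓ centralizer (W j : Set G), ∃ w ∈ W i, a * w ≠ w * a := by
  by_contra hcon
  push Not at hcon
  obtain ⟨h4, -⟩ := best_cut h hE hb hj
  obtain ⟨a, ha, w, hw, hne⟩ := hi
  apply hne
  have h1 : w ∈ W j ⊔ (X ⊓ centralizer (E : Set G)) := by
    rw [← h4]
    exact ⟨h.VX (h.WV i hw), mem_centralizer_iff.2 fun x hx => hcon x hx w hw⟩
  obtain ⟨u, hu, c, hc, e⟩ := mem_sup_comm (A := W j) (B := X ⊓ centralizer (E : Set G))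
    (fun u hu c hc => h.Xc u (h.VX (h.WV j hu)) c (mem_inf.1 hc).1) h1
  have h2 := (h.blk i).com a (hE ha) w hw
  have h3 := (h.blk j).com a (hE ha) u hu
  have hac : a * c = c * a := mem_centralizer_iff.1 hc.2 a ha
  have e1 : a * w * a⁻¹ * w⁻¹ = a * u * a⁻¹ * u⁻¹ := by
    calc a * w * a⁻¹ * w⁻¹ = a * u * (c * a⁻¹) * c⁻¹ * u⁻¹ := by rw [e]; group
      _ = a * u * (a⁻¹ * (a * c) * a⁻¹) * c⁻¹ * u⁻¹ := by group
      _ = a * u * (a⁻¹ * (c * a) * a⁻¹) * c⁻¹ * u⁻¹ := by rw [hac]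
      _ = a * u * a⁻¹ * u⁻¹ := by group
  have h5 := Z_inf h hij h2 (by rw [e1]; exact h3)
  exact mul_inv_eq_iff_eq_mul.1 (mul_inv_eq_one.1 h5)

theorem hat_aux [Finite G] [Finite ι] (n : ℕ) : ∀ E : Subgroup G, E ≤ B → Best X E →
    ∀ i, {j | ∃ a ∈ E, ∃ w ∈ W j, a * w ≠ w * a}.ncard ≤ n →
    (∃ a ∈ E, ∃ w ∈ W i, a * w ≠ w * a) →
    ∃ a ∈ E, (∃ w ∈ W i, a * w ≠ w * a) ∧ ∀ j, j ≠ i → ∀ w ∈ W j, a * w = w * a := by
  induction n with
  | zero =>
    intro E _ _ i hn hi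
    exfalso
    have h1 : {j | ∃ a ∈ E, ∃ w ∈ W j, a * w ≠ w * a} = ∅ :=
      (Set.ncard_eq_zero (Set.toFinite _)).1 (Nat.le_zero.1 hn)
    have h2 : i ∈ {j | ∃ a ∈ E, ∃ w ∈ W j, a * w ≠ w * a} := hi
    rw [h1] at h2
    exact h2
  | succ n ih =>
    intro E hE hb i hn hi
    by_cases hj : ∃ j, j ≠ i ∧ ∃ a ∈ E, ∃ w ∈ W j, a * w ≠ w * a
    · obtain ⟨j, hji, hj⟩ := hj
      obtain ⟨-, hb'⟩ := best_cut h hE hb hj
      have hsub : {l | ∃ a ∈ E ⊓ centralizer (W j : Set G), ∃ w ∈ W l, a * w ≠ w * a} ⊂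
          {l | ∃ a ∈ E, ∃ w ∈ W l, a * w ≠ w * a} := by
        refine ⟨?_, fun hc => ?_⟩
        · rintro l ⟨a, ha, w, hw, hne⟩
          exact ⟨a, (mem_inf.1 ha).1, w, hw, hne⟩
        · obtain ⟨a, ha, w, hw, hne⟩ := hc (show j ∈ _ from hj)
          exact hne (mem_centralizer_iff.1 (mem_inf.1 ha).2 w hw).symm
      have hlt := Set.ncard_lt_ncard hsub (Set.toFinite _)
      obtain ⟨a, ha, hw, hcen⟩ := ih _ (inf_le_left.trans hE) hb' i (by omega)
        (swap_mov h hE hb (Ne.symm hji) hi hj)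
      exact ⟨a, (mem_inf.1 ha).1, hw, hcen⟩
    · push Not at hj
      obtain ⟨a, ha, hw⟩ := hi
      exact ⟨a, ha, hw, fun l hl w hw => hj l hl a ha w hw⟩

/-- **(m2)** -/
theorem hat [Finite G] [Finite ι] {E : Subgroup G} (hE : E ≤ B) (hb : Best X E) {i : ι}
    (hi : ∃ a ∈ E, ∃ w ∈ W i, a * w ≠ w * a) :
    ∃ a ∈ E, (∃ w ∈ W i, a * w ≠ w * a) ∧ ∀ j, j ≠ i → ∀ w ∈ W j, a * w = w * a :=
  hat_aux h _ E hE hb i le_rfl hi

/-! ### (m3) -/

/-- `[V, B] ≤ ZJ` -/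
theorem comm_B [Finite ι] {b v : G} (hb : b ∈ B) (hv : v ∈ V) : b * v * b⁻¹ * v⁻¹ ∈ ZJ := by
  -- the elements of `V` with this property
  let T : Subgroup G :=
    { carrier := {v | v ∈ V ∧ b * v * b⁻¹ * v⁻¹ ∈ ZJ}
      one_mem' := ⟨one_mem _, by simp⟩
      mul_mem' := by
        rintro x y ⟨hx, hx'⟩ ⟨hy, hy'⟩
        refine ⟨mul_mem hx hy, ?_⟩
        have h1 := h.Vc hx (h.ZJV hy')
        have e : b * (x * y) * b⁻¹ * (x * y)⁻¹ = b * x * b⁻¹ * (b * y * b⁻¹ * y⁻¹) * x⁻¹ := by group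
        have e2 : b * x * b⁻¹ * (b * y * b⁻¹ * y⁻¹) * x⁻¹ = (b * x * b⁻¹ * x⁻¹) * (b * y * b⁻¹ * y⁻¹) := by
          calc b * x * b⁻¹ * (b * y * b⁻¹ * y⁻¹) * x⁻¹ =
                b * x * b⁻¹ * x⁻¹ * (x * (b * y * b⁻¹ * y⁻¹)) * x⁻¹ := by group
            _ = b * x * b⁻¹ * x⁻¹ * (b * y * b⁻¹ * y⁻¹) := by rw [h1]; group
        rw [e, e2]
        exact mul_mem hx' hy'
      inv_mem' := by
        rintro x ⟨hx, hx'⟩
        refine ⟨inv_mem hx, ?_⟩
        have h1 := h.Vc hx (h.ZJV hx')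
        have e2 : b * x⁻¹ * b⁻¹ * x⁻¹⁻¹ = (b * x * b⁻¹ * x⁻¹)⁻¹ := by
          have e3 : b * x⁻¹ * b⁻¹ * x⁻¹⁻¹ = x⁻¹ * (b * x * b⁻¹ * x⁻¹)⁻¹ * x := by group
          have h2 := h.Vc (inv_mem (h.ZJV hx')) hx
          rw [e3, mul_assoc, h2]; group
        rw [e2]
        exact inv_mem hx' }
  have hT : V ≤ T := by
    conv_lhs => rw [h.V_eq]
    refine iSup_le fun i w hw => ⟨h.WV i hw, h.Z_le i ((h.blk i).com b hb w hw)⟩
  exact (hT hv).2

/-- `L i` normalises `W i * ZJ` -/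
theorem nE {i : ι} {l : G} (hl : l ∈ L i) {e : G} (he : e ∈ W i ⊔ ZJ) : l * e * l⁻¹ ∈ W i ⊔ ZJ := by
  obtain ⟨v, hv, z, hz, rfl⟩ := mem_sup_comm (fun v hv z hz => h.Vc (h.WV i hv) (h.ZJV hz)) he
  have hz' : z ∈ zc B := by rw [h.zcB]; exact hz
  have e1 : l * (v * z) * l⁻¹ = (l * v * l⁻¹) * (l * z * l⁻¹ * z⁻¹) * z := by group
  rw [e1]
  exact mul_mem (mem_sup_left (mul_mem ((h.blk i).nV l hl v hv) ((h.blk i).act l hl z hz'))) (mem_sup_right hz)

/-- a subgroup `N` of `V` normalised by `L i` with `[U, B ^ x] ≤ N`, `x ∈ L i`: `[U, L i] ≤ N` -/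
theorem comm_gen {i : ι} {N U : Subgroup G} (hN : ∀ l ∈ L i, ∀ n ∈ N, l * n * l⁻¹ ∈ N)
    (hB : ∀ x ∈ L i, ∀ b ∈ cj x B, ∀ u ∈ U, b * u * b⁻¹ * u⁻¹ ∈ N) {l : G} (hl : l ∈ L i) {u : G} (hu : u ∈ U) :
    l * u * l⁻¹ * u⁻¹ ∈ N := by
  let T : Subgroup G :=
    { carrier := {l | l ∈ L i ∧ ∀ u ∈ U, l * u * l⁻¹ * u⁻¹ ∈ N}
      one_mem' := ⟨one_mem _, fun u _ => by simp⟩
      mul_mem' := by
        rintro x y ⟨hx, hx'⟩ ⟨hy, hy'⟩
        refine ⟨mul_mem hx hy, fun u hu => ?_⟩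
        have e : x * y * u * (x * y)⁻¹ * u⁻¹ = (x * (y * u * y⁻¹ * u⁻¹) * x⁻¹) * (x * u * x⁻¹ * u⁻¹) := by group
        rw [e]
        exact mul_mem (hN x hx _ (hy' u hu)) (hx' u hu)
      inv_mem' := by
        rintro x ⟨hx, hx'⟩
        refine ⟨inv_mem hx, fun u hu => ?_⟩
        have e : x⁻¹ * u * x⁻¹⁻¹ * u⁻¹ = x⁻¹ * (x * u * x⁻¹ * u⁻¹)⁻¹ * x⁻¹⁻¹ := by group
        rw [e]
        exact hN x⁻¹ (inv_mem hx) _ (inv_mem (hx' u hu)) }
  have hT : L i ≤ T := by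
    refine (h.blk i).gen.trans (iSup_le fun x b hb => ⟨?_, hB x x.2 b hb⟩)
    obtain ⟨b', hb', rfl⟩ := hb
    exact mul_mem (mul_mem x.2 ((h.blk i).BL hb')) (inv_mem x.2)
  exact (hT hl).2 u hu

/-- `[V, L i] ≤ W i * ZJ` -/
theorem comm_L [Finite ι] {i : ι} {l v : G} (hl : l ∈ L i) (hv : v ∈ V) : l * v * l⁻¹ * v⁻¹ ∈ W i ⊔ ZJ := by
  refine comm_gen h (fun l hl n hn => nE h hl hn) (fun x hx b hb u hu => ?_) hl hv
  rw [mem_cj] at hb
  have h1 := h.LV i x⁻¹ (inv_mem hx) u hu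
  rw [inv_inv] at h1
  have h2 := nE h hx (mem_sup_right (comm_B h hb h1))
  have e : x * ((x⁻¹ * b * x) * (x⁻¹ * u * x) * (x⁻¹ * b * x)⁻¹ * (x⁻¹ * u * x)⁻¹) * x⁻¹ = b * u * b⁻¹ * u⁻¹ := by
    group
  rwa [e] at h2

/-- `[W j, L i] ≤ W i * Z j`, `i ≠ j` -/
theorem comm_W [Finite ι] {i j : ι} (hij : i ≠ j) {l w : G} (hl : l ∈ L i) (hw : w ∈ W j) :
    l * w * l⁻¹ * w⁻¹ ∈ W i ⊔ Z j := by
  have hzc : ∀ l ∈ L i, ∀ z ∈ Z j, l * z = z * l := fun l hl z hz =>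
    h.LC i l hl z (h.Z_le j hz) (h.WjC i j hij ((h.blk j).ZV hz))
  have hN : ∀ l ∈ L i, ∀ n ∈ W i ⊔ Z j, l * n * l⁻¹ ∈ W i ⊔ Z j := by
    intro l hl n hn
    obtain ⟨v, hv, z, hz, rfl⟩ := mem_sup_comm (fun v hv z hz => h.Vc (h.WV i hv) (h.ZV j hz)) hn
    have e1 : l * (v * z) * l⁻¹ = (l * v * l⁻¹) * (l * z * l⁻¹) := by group
    rw [e1, hzc l hl z hz, mul_inv_cancel_right]
    exact mul_mem (mem_sup_left ((h.blk i).nV l hl v hv)) (mem_sup_right hz)
  refine comm_gen h hN (fun x hx b hb u hu => ?_) hl hw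
  rw [mem_cj] at hb
  -- `x⁻¹ u x = u y`, `y ∈ W i * ZJ`
  have h1 := comm_L h (inv_mem hx) (h.WV j hu)
  rw [inv_inv] at h1
  obtain ⟨y, hy, t, ht, e⟩ := mem_sup_comm (fun v hv z hz => h.Vc (h.WV i hv) (h.ZJV hz)) h1
  have e0 : x⁻¹ * u * x = y * t * u := by
    rw [← e]; group
  obtain ⟨c, hc⟩ : ∃ c, c = x⁻¹ * b * x := ⟨_, rfl⟩
  rw [← hc] at hb
  have h2 := (h.blk i).com c hb y hy
  have h3 := (h.blk j).com c hb u hu
  have h4 := ((h.mem_ZJ t).1 ht).2 c hb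
  have hy' := h.WV i hy
  have ht' := h.ZJV ht
  have hu' := h.WV j hu
  have e2 : c * (x⁻¹ * u * x) * c⁻¹ * (x⁻¹ * u * x)⁻¹ = (c * y * c⁻¹ * y⁻¹) * (c * u * c⁻¹ * u⁻¹) := by
    rw [e0]
    have k1 : y * (t * (c * u * c⁻¹ * u⁻¹) * t⁻¹) = (c * u * c⁻¹ * u⁻¹) * y := by
      have k2 := h.Vc ht' (h.ZV j h3)
      have k3 := h.Vc hy' (h.ZV j h3)
      rw [k2, mul_inv_cancel_right, k3]
    calc c * (y * t * u) * c⁻¹ * (y * t * u)⁻¹
        = (c * y * c⁻¹) * (c * t) * c⁻¹ * (c * u * c⁻¹ * u⁻¹) * t⁻¹ * y⁻¹ := by group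
      _ = (c * y * c⁻¹ * y⁻¹) * (y * (t * (c * u * c⁻¹ * u⁻¹) * t⁻¹)) * y⁻¹ := by rw [h4]; group
      _ = _ := by rw [k1]; group
  have h5 := hN x hx _ (mul_mem (mem_sup_left ((h.blk i).ZV h2)) (mem_sup_right h3))
  rw [← e2, hc] at h5
  have e3 : x * ((x⁻¹ * b * x) * (x⁻¹ * u * x) * (x⁻¹ * b * x)⁻¹ * (x⁻¹ * u * x)⁻¹) * x⁻¹ = b * u * b⁻¹ * u⁻¹ := by
    group
  rwa [e3] at h5

/-- `⟨W j : j ∈ r⟩` is invariant under `L i`, `i ∈ r` -/
theorem nWr [Finite ι] {r : Set ι} {i : ι} (hi : i ∈ r) {l : G} (hl : l ∈ L i) {x : G} (hx : x ∈ ⨆ j ∈ r, W j) :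
    l * x * l⁻¹ ∈ ⨆ j ∈ r, W j := by
  have h1 : (⨆ j ∈ r, W j) ≤ (⨆ j ∈ r, W j).comap (MulAut.conj l).toMonoidHom := by
    refine iSup₂_le fun j hj w hw => ?_
    show l * w * l⁻¹ ∈ ⨆ j ∈ r, W j
    have hWj : W j ≤ ⨆ j ∈ r, W j := le_iSup₂_of_le j hj le_rfl
    have hWi : W i ≤ ⨆ j ∈ r, W j := le_iSup₂_of_le i hi le_rfl
    by_cases hij : i = j
    · subst hij
      exact hWi ((h.blk i).nV l hl w hw)
    · have h2 := comm_W h hij hl hw
      have h3 : l * w * l⁻¹ * w⁻¹ ∈ ⨆ j ∈ r, W j := (sup_le hWi ((h.blk j).ZV.trans hWj)) h2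
      have h4 := mul_mem h3 (hWj hw)
      rwa [inv_mul_cancel_right] at h4
  exact h1 hx

/-- one step: an `L i`-conjugate of `v` is centralised by `A i` -/
theorem step [Finite G] (i : ι) {v : G} (hv : v ∈ V) :
    ∃ l ∈ L i, ∀ a ∈ A i, a * (l * v * l⁻¹) = l * v * l⁻¹ * a := by
  by_cases h0 : ∀ a ∈ A i, a * v = v * a
  · exact ⟨1, one_mem _, fun a ha => by simpa only [_root_.one_mul, _root_.inv_one, _root_.mul_one] using h0 a ha⟩
  push Not at h0
  obtain ⟨a, ha, hav⟩ := h0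
  obtain ⟨l, hl, hne⟩ := h.exists_mv i
  have haL : a ∈ L i := (h.blk i).BL (h.AB i ha)
  -- `H' = C_V(A i ^ l)`
  obtain ⟨H, hH⟩ : ∃ H, H = V ⊓ centralizer (A i : Set G) := ⟨_, rfl⟩
  have hHc : Nat.card V = Nat.card H * 2 := by rw [hH]; exact h.card_CVA i
  have hmem : ∀ u, u ∈ cj l H → ∀ a ∈ A i, a * (l⁻¹ * u * l) = l⁻¹ * u * l * a := by
    intro u hu a ha
    rw [mem_cj, hH] at hu
    exact mem_centralizer_iff.1 (mem_inf.1 hu).2 a ha
  have hHV : cj l H ≤ V := by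
    rw [← h.cj_V hl]
    exact cj_mono l (by rw [hH]; exact inf_le_left)
  have hidx : ((cj l H).subgroupOf V).index = 2 := by
    have h1 : Nat.card (cj l H : Subgroup G) * (cj l H).relIndex V = Nat.card V := by
      rw [← relIndex_bot_left, ← relIndex_bot_left V]
      exact relIndex_mul_relIndex _ _ _ bot_le hHV
    rw [card_cj, hHc] at h1
    exact Nat.eq_of_mul_eq_mul_left Nat.card_pos h1
  by_cases h1 : v ∈ cj l H
  · refine ⟨l⁻¹, inv_mem hl, fun a ha => ?_⟩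
    have := hmem v h1 a ha
    rwa [inv_inv]
  · have h2 := h.A_comm ha hv
    have h3 : a * v * a⁻¹ * v⁻¹ ≠ 1 := fun e => hav (mul_inv_eq_iff_eq_mul.1 (mul_inv_eq_one.1 e))
    have hzV := h.ZV i h2
    have h4 : a * v * a⁻¹ * v⁻¹ ∉ cj l H := by
      intro hc
      apply h3
      have h5 := hmem _ hc
      have h6 : l⁻¹ * (a * v * a⁻¹ * v⁻¹) * l ∈ Z i := by
        rw [← (h.A_full i).2.1]
        exact mem_inf.2 ⟨(h.blk i).nV' hl ((h.blk i).ZV h2), mem_centralizer_iff.2 h5⟩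
      have h7 : a * v * a⁻¹ * v⁻¹ ∈ cj l (Z i) ⊓ Z i := mem_inf.2 ⟨mem_cj.2 h6, h2⟩
      rwa [h.tri' hl hne, mem_bot] at h7
    -- so `v ^ a ∈ H'`
    have h5 : a * v * a⁻¹ ∈ cj l H := by
      have h6 : (⟨a * v * a⁻¹ * v⁻¹, hzV⟩ : V) * ⟨v, hv⟩ ∈ (cj l H).subgroupOf V := by
        rw [Subgroup.mul_mem_iff_of_index_two hidx]
        constructor
        · intro h7
          exact absurd (mem_subgroupOf.1 h7) h4
        · intro h7
          exact absurd (mem_subgroupOf.1 h7) h1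
      have h7 := mem_subgroupOf.1 h6
      have e : (((⟨a * v * a⁻¹ * v⁻¹, hzV⟩ : V) * ⟨v, hv⟩ : V) : G) = a * v * a⁻¹ := by
        show a * v * a⁻¹ * v⁻¹ * v = a * v * a⁻¹
        group
      rwa [e] at h7
    refine ⟨l⁻¹ * a, mul_mem (inv_mem hl) haL, fun a' ha' => ?_⟩
    have h6 := hmem _ h5 a' ha'
    have e : l⁻¹ * a * v * (l⁻¹ * a)⁻¹ = l⁻¹ * (a * v * a⁻¹) * l := by group
    rw [e]; exact h6

/-- `A j` centralises `W i * ZJ`, so it centralises `v` iff it centralises `v ^ l`, `l ∈ L i` -/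
theorem keep [Finite ι] {i j : ι} (hij : i ≠ j) {l v : G} (hl : l ∈ L i) (hv : v ∈ V)
    (hj : ∀ a ∈ A j, a * v = v * a) : ∀ a ∈ A j, a * (l * v * l⁻¹) = l * v * l⁻¹ * a := by
  intro a ha
  obtain ⟨w, hw, z, hz, e⟩ := mem_sup_comm (fun v hv z hz => h.Vc (h.WV i hv) (h.ZJV hz)) (comm_L h hl hv)
  have e1 : l * v * l⁻¹ = w * z * v := by rw [← e]; group
  have c1 : Commute a w := h.AC j a ha w (h.WjC j i (Ne.symm hij) hw)
  have c2 : Commute a z := ((h.mem_ZJ z).1 hz).2 a (h.AB j ha)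
  have c3 : Commute a v := hj a ha
  rw [e1]
  exact ((c1.mul_right c2).mul_right c3).eq

/-- a `⟨L i : i ∈ r⟩`-conjugate of `x ∈ ⟨W i : i ∈ r⟩` lies in `ZJ` -/
theorem conj_aux [Finite G] [Finite ι] (r : Set ι) {x : G} (hx : x ∈ ⨆ i ∈ r, W i) : ∀ s : Finset ι, (∀ i ∈ s, i ∈ r) →
    ∃ g ∈ ⨆ i ∈ r, L i, g * x * g⁻¹ ∈ ⨆ i ∈ r, W i ∧ ∀ i, (i ∈ s ∨ i ∉ r) →
      ∀ a ∈ A i, a * (g * x * g⁻¹) = g * x * g⁻¹ * a := by
  classical
  have hWV : (⨆ i ∈ r, W i) ≤ V := iSup₂_le fun i _ => h.WV i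
  intro s
  induction s using Finset.induction_on with
  | empty =>
    intro _
    refine ⟨1, one_mem _, by simpa using hx, fun i hi a ha => ?_⟩
    rcases hi with hi | hi
    · exact absurd hi (Finset.notMem_empty i)
    have h1 : (⨆ j ∈ r, W j) ≤ C i := iSup₂_le fun j hj => h.WjC i j (fun e => hi (e ▸ hj))
    have := h.AC i a ha x (h1 hx)
    simpa only [_root_.one_mul, _root_.inv_one, _root_.mul_one] using this
  | insert i s hi ih =>
    intro hs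
    obtain ⟨g, hg, hgW, hgA⟩ := ih fun j hj => hs j (Finset.mem_insert_of_mem hj)
    have hir : i ∈ r := hs i (Finset.mem_insert_self i s)
    obtain ⟨l, hl, hlA⟩ := step h i (hWV hgW)
    have hLr : L i ≤ ⨆ i ∈ r, L i := le_iSup₂_of_le i hir le_rfl
    have e : ∀ y, l * (g * y * g⁻¹) * l⁻¹ = (l * g) * y * (l * g)⁻¹ := fun y => by group
    refine ⟨l * g, mul_mem (hLr hl) hg, ?_, fun j hj => ?_⟩
    · rw [← e]; exact nWr h hir hl hgW
    · rw [← e]
      by_cases hij : i = j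
      · subst hij; exact hlA
      · refine keep h hij hl (hWV hgW) (hgA j ?_)
        rcases hj with hj | hj
        · rcases Finset.mem_insert.1 hj with hj | hj
          · exact absurd hj.symm hij
          · exact Or.inl hj
        · exact Or.inr hj

/-- `⟨W i : i ∈ r⟩ ∩ ZJ = ⟨Z i : i ∈ r⟩` -/
theorem W_inf_ZJ [Finite ι] : ∀ s : Finset ι, ∀ x, x ∈ (⨆ i ∈ s, W i) → x ∈ ZJ → x ∈ ⨆ i ∈ s, Z i := by
  classical
  intro s
  induction s using Finset.induction_on with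
  | empty =>
    intro x hx _
    simp only [Finset.notMem_empty, iSup_false, iSup_bot] at hx ⊢
    exact hx
  | insert i s hi ih =>
    intro x hx hxJ
    have e1 : (⨆ j ∈ insert i s, W j) = W i ⊔ ⨆ j ∈ s, W j := Finset.iSup_insert _ _ _
    have e2 : (⨆ j ∈ insert i s, Z j) = Z i ⊔ ⨆ j ∈ s, Z j := Finset.iSup_insert _ _ _
    rw [e1] at hx
    rw [e2]
    have hsC : (⨆ j ∈ s, W j) ≤ C i := iSup₂_le fun j hj => h.WjC i j (fun e => hi (e ▸ hj))
    obtain ⟨w, hw, y, hy, rfl⟩ := mem_sup_comm (fun v hv z hz => h.Vc (h.WV i hv) (h.CV i (hsC hz))) hx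
    obtain ⟨z, hz, c, hc, hcJ, e⟩ := h.split_ZJ i hxJ
    obtain ⟨h1, h2⟩ := h.uniq hw ((h.blk i).ZV hz) (hsC hy) hc e
    refine mul_mem (mem_sup_left (by rw [h1]; exact hz)) (mem_sup_right (ih y hy (by rw [h2]; exact hcJ)))

/-- **(m3)** -/
theorem conj_ZJ [Finite G] [Finite ι] (r : Set ι) {x : G} (hx : x ∈ ⨆ i ∈ r, W i) :
    ∃ g ∈ ⨆ i ∈ r, L i, g * x * g⁻¹ ∈ ⨆ i ∈ r, Z i := by
  classical
  have hfin : r.Finite := Set.toFinite r
  obtain ⟨g, hg, hgW, hgA⟩ := conj_aux h r hx hfin.toFinset fun i hi => by simpa using hi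
  refine ⟨g, hg, ?_⟩
  have hWV : (⨆ i ∈ r, W i) ≤ V := iSup₂_le fun i _ => h.WV i
  have h1 : g * x * g⁻¹ ∈ ZJ := h.mem_ZJ_of (hWV hgW) fun i => hgA i (by
    by_cases hi : i ∈ r
    · left; simpa using hi
    · right; exact hi)
  have e1 : ∀ U : ι → Subgroup G, (⨆ i ∈ r, U i) = ⨆ i ∈ hfin.toFinset, U i := by
    intro U
    simp only [Set.Finite.mem_toFinset]
  rw [e1] at hgW ⊢
  exact W_inf_ZJ h _ _ hgW h1

end fr

end Cfsg.Agent.Omega.OM.SwapL

end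

-- merged: Cfsg.Agent.Mrg.Omega.OM.SwapL.Off
section

section


/-!
# THEOREM SW at the levels, STEP 0: the family of offenders of a pair

`exists_fam` : a pair `(T, F)` of any stage `-1 ≤ s ≤ n` has a family `𝓐` as in helper394's `Fm`; some member in `T` is
not in `O₂(F)`; the members in `T` lie in `B`, and they centralise `V` or are best offenders on `Ω₁Z(lev S n)`.
-/

set_option autoImplicit false

namespace Cfsg.Agent.Omega.OM.SwapL

open Subgroup Cfsg Cfsg.Agent.ZN.ChoiceBase Cfsg.Agent.ZN.ChoiceSit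
open Cfsg.Agent.ZN (jj zj bau zc zl o2)
open Cfsg.Agent.MinSimple.MinParabolic (IsMinPar)
open Cfsg.Agent.Omega.NO3S (HypN)
open Cfsg.Agent.Omega.NO3S.Level (lev Lev lev_isLev BO nxt)
open Cfsg.Agent.Omega.OM.LevD (LB K0)
open Cfsg.Agent.Omega.OM.Swap.Fam (Fm BF fm_AA fm_best)

universe u

variable {G : Type u} [Group G] [Finite G]

section line

variable {ι : Type} {S : Sylow 2 G} {P : Subgroup G} {n : ℕ} {L W Z C A : ι → Subgroup G} {q : ℕ}

/-- members of lower levels centralise `V` -/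
theorem comm_V (h : Ln S P n L W Z C A q) {a v : G} (ha : a ∈ lev (S : Subgroup G) n)
    (hv : v ∈ zl (S : Subgroup G) P) : a * v = v * a := h.fr.cQ (h.le ha) hv

theorem zc_elab (K : Subgroup G) : IsElementaryAbelian 2 (zc K) :=
  ⟨⟨⟨fun a b => Subtype.ext ((mem_zc.1 b.2).2.2 _ (mem_zc.1 a.2).1)⟩⟩, fun a ha => (mem_zc.1 ha).2.1⟩

theorem V_le_X (h : Ln S P n L W Z C A q) {s : ℕ} (hs : s ≤ n) :
    zl (S : Subgroup G) P ≤ zc (lev (S : Subgroup G) s) :=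
  h.fr.VX.trans ((lev_isLev (S : Subgroup G) s).zc_le_zc (NO3S.Level.lev_mono _ hs)
    (NO3S.Level.lev_le (S : Subgroup G) n))

theorem Pair.minPar {M T F : Subgroup G} (hp : Pair S P n M T F)
    (hZM : normalizer (ZL (S : Subgroup G) n : Set G) ≤ M) : IsMinPar T F := by
  refine ⟨hp.syl.1, fun hle => ?_, F ⊓ M, lt_of_le_of_ne inf_le_left fun e => hp.nM (inf_eq_left.1 e),
    fun K hTK hKF => le_inf hKF.le (hp.min K hTK hKF)⟩
  apply hp.nK hZM
  exact ((lb S n).KB.trans hp.BT).trans (le_o2 hp.syl.2.1 hp.syl.1 hle)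

/-- The family of offenders. -/
theorem exists_fam (h : Ln S P n L W Z C A q) {M T F : Subgroup G} (hp : Pair S P n M T F)
    (hD : centralizer (ZL (S : Subgroup G) n : Set G) ≤ M) (hTM : T ≤ M)
    (hZM : normalizer (ZL (S : Subgroup G) n : Set G) ≤ M) :
    ∃ 𝓐 : Set (Subgroup G),
      (∀ Λ : Subgroup G, IsElementaryAbelian 2 Λ → Λ ≤ F → F ≤ normalizer (Λ : Set G) →
        Λ ≤ NoFF.Basic.V (zl (S : Subgroup G) P) F → Fm F Λ 𝓐) ∧
      (∃ X ∈ 𝓐, X ≤ T ∧ ¬ X ≤ o2 F) ∧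
      ∀ X ∈ 𝓐, X ≤ T → X ≤ BL (S : Subgroup G) n ∧
        ((∀ a ∈ X, ∀ v ∈ zl (S : Subgroup G) P, a * v = v * a) ∨
          Lev.Uni.Best (zc (lev (S : Subgroup G) n)) X) := by
  have hT2 := hp.syl.2.1
  have hKT : lev (S : Subgroup G) (n + 1) ≤ T := (lb S n).KB.trans hp.BT
  have h0T : jj (S : Subgroup G) ≤ T :=
    (NO3S.Level.lev_mono (S : Subgroup G) (Nat.zero_le (n + 1))).trans hKT
  rcases exists_stage hp hZM with hJ | ⟨s, hs, hlow, hnle⟩
  · -- stage `-1`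
    have hjT : jj T = jj (S : Subgroup G) := MinSimple.EmptyTI.jj_eq S hT2 h0T
    refine ⟨AA F, fun Λ hΛ hΛF hn _ => fm_AA hΛ hΛF hn, ?_, fun X hX hXT => ?_⟩
    · by_contra hcon
      push Not at hcon
      apply hJ
      rw [← hjT, Cfsg.Agent.ZN.ChoiceBase.jj_eq]
      exact sSup_le fun X hX => hcon X (Swap.AA_of_syl hp.syl hX) hX.2.1
    · have h1 : X ≤ lev (S : Subgroup G) 0 := by
        have := le_jj (Swap.AA_of_le hX hXT hp.syl.1)
        rwa [hjT] at this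
      have h2 : X ≤ lev (S : Subgroup G) n := h1.trans (NO3S.Level.lev_mono _ (Nat.zero_le n))
      exact ⟨(h2.trans (NO3S.Level.lev_mono _ (Nat.le_succ n))).trans (lb S n).KB,
        Or.inl fun a ha v hv => comm_V h (h2 ha) hv⟩
  · -- stage `s`
    have hX := zc_elab (lev (S : Subgroup G) s)
    have hFN : F ≤ normalizer (zc (lev (S : Subgroup G) s) : Set G) :=
      (le_normalizer_o2 F).trans ((LB.lev S s).nrm _ (isPGroup_o2 F) hlow)
    have hlev : ∀ j, j ≤ n + 1 → lev T j = lev (S : Subgroup G) j := LevD.lev_eq S hT2 hKT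
    have hVX := V_le_X h hs
    refine ⟨BF F (zc (lev (S : Subgroup G) s)), fun Λ hΛ hΛF hn hle => fm_best hX hFN ?_ hn, ?_, fun X hXA hXT => ?_⟩
    · refine hle.trans (NoFF.Basic.V_le fun f hf => ?_)
      have h1 := cj_mono f hVX
      rwa [cj_eq_of_mem_normalizer (hFN hf)] at h1
    · by_contra hcon
      push Not at hcon
      apply hnle
      rw [← hlev (s + 1) (by omega)]
      have e : lev T (s + 1) = nxt T (lev T s) := rfl
      rw [e, hlev s (by omega)]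
      have : Fact (Nat.Prime 2) := ⟨Nat.prime_two⟩
      have hNn : F ≤ normalizer ((F ⊓ centralizer (zc (lev (S : Subgroup G) s) : Set G) : Subgroup G) : Set G) := by
        intro f hf
        rw [mem_normalizer_iff_cj, cj_inf, cj_centralizer, cj_eq_of_mem_normalizer (hFN hf),
          cj_eq_of_mem_normalizer (le_normalizer hf)]
      refine sup_le ?_ (sSup_le fun X hX' => hcon X ⟨hX'.1.trans hp.syl.1, hT2.to_le hX'.1, hX'.2⟩ hX'.1)
      rcases (hp.minPar hZM).sup_eq_or_inf_le (p := 2) hT2 (syl_not_dvd hp.syl)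
        (N := F ⊓ centralizer (zc (lev (S : Subgroup G) s) : Set G)) inf_le_left hNn with h1 | h1
      · exfalso
        apply hp.nM
        rw [← h1]
        refine sup_le ((inf_le_right.trans (centralizer_le ?_)).trans hD) hTM
        exact_mod_cast h.fr.ZJV.trans hVX
      · refine le_trans (fun x hx => ?_) h1
        exact ⟨hx.1, hp.syl.1 hx.1, hx.2⟩
    · have h1 : X ≤ lev (S : Subgroup G) (s + 1) := by
        rw [← hlev (s + 1) (by omega)]
        have e : lev T (s + 1) = nxt T (lev T s) := rfl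
        rw [e, hlev s (by omega)]
        exact NO3S.Level.BO.le_nxt ⟨hXT, hXA.2.2⟩
      refine ⟨(h1.trans (NO3S.Level.lev_mono _ (by omega))).trans (lb S n).KB, ?_⟩
      rcases hs.lt_or_eq with hlt | rfl
      · left
        intro a ha v hv
        exact comm_V h (NO3S.Level.lev_mono (S : Subgroup G) (by omega : s + 1 ≤ n) (h1 ha)) hv
      · right
        exact fun F' h1 h2 => hXA.2.2.max F' h2 h1

end line

end Cfsg.Agent.Omega.OM.SwapL

end

section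


/-!
# THEOREM SW at the levels, STEP 0: the situation `SitF` from the ground frame `Ln S P n L W Z C A 2`

`M ≥ C_G(Z_J), L_i, N_G(B)`, `BM S n M`. If some subgroup `H ≥ B` of characteristic 2 is not contained in `M`, then there is a pair `(T, F)`
with `|Phi(T)|` maximal and one `O₂(F)`-orbit of indices for which `SitF` holds.

* `exists_sit`; `le_of_char2`; `noOm` : (Om) is impossible for `q = 2` at every stage `n ≥ 0`.
-/

set_option autoImplicit false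

namespace Cfsg.Agent.Omega.OM.SwapL

open Subgroup Cfsg Cfsg.Agent.ZN.ChoiceBase Cfsg.Agent.ZN.ChoiceSit
open Cfsg.Agent.ZN (jj zj bau zc zl o2)
open Cfsg.Agent.Omega.NO3S (HypN)
open Cfsg.Agent.Omega.NO3S.Level (lev Lev lev_isLev)
open Cfsg.Agent.Omega.OM.LevD (LB K0 Fam)
open Cfsg.Agent.Omega.OM.LevB (FBlk)
open Cfsg.Agent.MinSimple.MinParabolic (IsMinPar)
open Cfsg.Agent.Omega.OM.Swap.Fam (Fm SitF)
open Cfsg.Agent.Omega.OM.Swap (char2_cent)

universe u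

variable {G : Type u} [Group G] [Finite G]

/-- the indices fixed by `T` -/
def Phi {ι : Type} (Z : ι → Subgroup G) (T : Subgroup G) : Set ι := {i | ∀ t ∈ T, cj t (Z i) = Z i}

section line

variable {ι : Type} [Finite ι] {S : Sylow 2 G} {P : Subgroup G} {n : ℕ} {L W Z C A : ι → Subgroup G}

/-- A pair with `|Phi(T)|` maximal; `C_G(Z₀ z_j) ≤ M` for `j ∉ Phi(T)`. -/
theorem exists_max (h : Ln S P n L W Z C A 2) {M H : Subgroup G} (hBM : BM S n M)
    (hD : centralizer (ZL (S : Subgroup G) n : Set G) ≤ M) (hN : normalizer (BL (S : Subgroup G) n : Set G) ≤ M)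
    (hB : BL (S : Subgroup G) n ≤ H) (hc : H ⊓ centralizer (o2 H : Set G) ≤ o2 H) (hM : ¬ H ≤ M) :
    ∃ T F : Subgroup G, Pair S P n M T F ∧ ∀ j, j ∉ Phi Z T →
      centralizer (((⨆ i ∈ Phi Z T, Z i) ⊔ Z j : Subgroup G) : Set G) ≤ M := by
  classical
  have hS2 : IsPGroup 2 (ZL (S : Subgroup G) n) := (lb S n).Bp.to_le (lb S n).ZB
  -- choose
  let s : Set ℕ := {m | ∃ T F : Subgroup G, Pair S P n M T F ∧ (Phi Z T).ncard = m}
  have hs1 : s.Nonempty := by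
    obtain ⟨T, F, hp, -⟩ := exists_pair h hBM hD hN hB hc hM
    exact ⟨_, T, F, hp, rfl⟩
  have hs2 : s.Finite := by
    refine (Set.finite_Iic (Nat.card ι)).subset ?_
    rintro m ⟨T, F, -, rfl⟩
    rw [Set.mem_Iic, ← Set.ncard_univ]
    exact Set.ncard_le_ncard (Set.subset_univ _)
  obtain ⟨m, hm⟩ := hs2.exists_maximal hs1
  obtain ⟨T, F, hp, hcard⟩ := hm.prop
  refine ⟨T, F, hp, fun j hj => ?_⟩
  by_contra hcon
  set X : Subgroup G := (⨆ i ∈ Phi Z T, Z i) ⊔ Z j with hX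
  have hXJ : X ≤ ZL (S : Subgroup G) n :=
    sup_le (iSup_le fun i => iSup_le fun _ => h.fr.Z_le i) (h.fr.Z_le j)
  have hX1 : X ≠ ⊥ := by
    intro e
    obtain ⟨z, hz, hz1⟩ := Z_ne h j
    have h1 : z ∈ X := mem_sup_right hz
    rw [e, mem_bot] at h1
    exact hz1 h1
  have hBX : BL (S : Subgroup G) n ≤ centralizer (X : Set G) :=
    (lb S n).Bc.trans (centralizer_le (by exact_mod_cast hXJ))
  obtain ⟨T', F', hp', hle⟩ := exists_pair h hBM hD hN hBX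
    (char2_cent h.hyp.ctx.char2 (hS2.to_le hXJ) hX1) hcon
  have hfix : ∀ i, Z i ≤ X → i ∈ Phi Z T' := by
    intro i hi t ht
    have h1 := hle (hp'.syl.1 ht)
    refine cj_eq_of_mem_normalizer (centralizer_le_normalizer _ ?_)
    exact centralizer_le (by exact_mod_cast hi) h1
  have hsub : insert j (Phi Z T) ⊆ Phi Z T' := by
    rintro i (rfl | hi)
    · exact hfix _ le_sup_right
    · exact hfix _ (le_sup_of_le_left (le_iSup₂ (f := fun i (_ : i ∈ Phi Z T) => Z i) i hi))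
  have h2 : m + 1 ≤ (Phi Z T').ncard := by
    rw [← hcard, ← Set.ncard_insert_of_notMem hj (Set.toFinite _)]
    exact Set.ncard_le_ncard hsub (Set.toFinite _)
  have h3 : (Phi Z T').ncard ≤ m := hm.le_of_ge ⟨T', F', hp', rfl⟩ (by show m ≤ (Phi Z T').ncard; omega)
  omega

/-- `V` commutes with its conjugates under `F` if `V ≤ O₂(F)`, `B ≤ T`. -/
theorem comm_of_pair (h : Ln S P n L W Z C A 2) {M T F : Subgroup G} (hp : Pair S P n M T F) {f : G} (hf : f ∈ F)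
    {x y : G} (hx : x ∈ zl (S : Subgroup G) P) (hy : y ∈ zl (S : Subgroup G) P) :
    x * (f * y * f⁻¹) = f * y * f⁻¹ * x := by
  have hV := hp.VO
  have hTn := two_norm h hp.syl.2.1 hp.BT
  have hO : o2 F ≤ T := o2_le_syl hp.syl
  have hcO : cj f (o2 F) = o2 F := cj_eq_of_mem_normalizer (le_normalizer_o2 F hf)
  have h1 : cj f (zl (S : Subgroup G) P) ≤ normalizer (zl (S : Subgroup G) P : Set G) := by
    have := cj_mono f hV
    rw [hcO] at this
    exact (this.trans hO).trans hTn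
  have h2 : zl (S : Subgroup G) P ≤ normalizer ((cj f (zl (S : Subgroup G) P) : Subgroup G) : Set G) := by
    have h3 := cj_mono f ((hO.trans hTn : o2 F ≤ normalizer (zl (S : Subgroup G) P : Set G)))
    rw [hcO, cj_normalizer] at h3
    exact hV.trans h3
  by_contra hne
  refine h.hyp.noFF ⟨P, P, f, h.hyp.star, h.hyp.star, h2, h1, fun e => hne ?_⟩
  have h4 := commutator_eq_bot_iff_le_centralizer.1 e
  exact (mem_centralizer_iff.1 (h4 hx) (f * y * f⁻¹) ⟨y, hy, rfl⟩).symm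

/-- **STEP 0.** -/
theorem exists_sit (h : Ln S P n L W Z C A 2) {M H : Subgroup G} (hBM : BM S n M) (hLM : ∀ i, L i ≤ M)
    (hD : centralizer (ZL (S : Subgroup G) n : Set G) ≤ M) (hN : normalizer (BL (S : Subgroup G) n : Set G) ≤ M)
    (hB : BL (S : Subgroup G) n ≤ H) (hc : H ⊓ centralizer (o2 H : Set G) ≤ o2 H) (hM : ¬ H ≤ M) :
    ∃ (T F F₀ : Subgroup G) (𝓐 : Set (Subgroup G)) (κ : Type) (V : κ → Subgroup G) (z : κ → G),
      SitF F T F₀ 𝓐 V z := by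
  classical
  obtain ⟨T, F, hp, hcen⟩ := exists_max h hBM hD hN hB hc hM
  have hZM : normalizer (ZL (S : Subgroup G) n : Set G) ≤ M := (lb S n).norm_zj_le.trans (sup_le hD hN)
  have hSM : (S : Subgroup G) ≤ M := ((lb S n).two_le S.isPGroup' (lb S n).BS).trans hN
  have hTN : T ≤ normalizer (BL (S : Subgroup G) n : Set G) := (lb S n).two_le hp.syl.2.1 hp.BT
  have hTM : T ≤ M := hTN.trans hN
  have hO : o2 F ≤ T := o2_le_syl hp.syl
  have hON : o2 F ≤ normalizer (BL (S : Subgroup G) n : Set G) := hO.trans hTN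
  have hTF : T ≤ F := hp.syl.1
  obtain ⟨𝓐, hfam, hnJ, hA⟩ := exists_fam h hp hD hTM hZM
  choose z hz hz1 using Z_ne h
  -- an index moved by `O₂(F)`
  obtain ⟨i₀, o₀, ho₀, hmv⟩ : ∃ i, ∃ o ∈ o2 F, cj o (Z i) ≠ Z i := by
    by_contra hcon
    push Not at hcon
    apply hp.nM
    have h1 : ZL (S : Subgroup G) n ≤ centralizer (F : Set G) := by
      intro x hx
      refine hp.fix ⟨hx, mem_centralizer_iff.2 fun o ho => ?_⟩
      refine comm_of_supp h (hON ho) hx fun i j e => ?_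
      rw [hcon i o ho] at e
      rw [Z_inj h e]
    exact (le_centralizer_iff.1 h1).trans hD
  -- its orbit
  set r : Set ι := {j | ∃ o ∈ o2 F, cj o (Z i₀) = Z j} with hr
  have hrO : ∀ o ∈ o2 F, ∀ i j, cj o (Z i) = Z j → (i ∈ r ↔ j ∈ r) := by
    intro o ho i j e
    constructor
    · rintro ⟨o', ho', e'⟩
      exact ⟨o * o', mul_mem ho ho', cj_mul_eq e' e⟩
    · rintro ⟨o', ho', e'⟩
      exact ⟨o⁻¹ * o', mul_mem (inv_mem ho) ho', cj_mul_eq e' (cj_inv_eq e)⟩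
  have hi₀ : i₀ ∈ r := ⟨1, one_mem _, cj_one _⟩
  obtain ⟨j₀, hj₀, -⟩ := perm h (hON ho₀) i₀
  have hj₀r : j₀ ∈ r := ⟨o₀, ho₀, hj₀⟩
  have hne₀ : i₀ ≠ j₀ := by
    rintro rfl
    exact hmv hj₀
  -- elements of `Z_J` with support `r` are centralised by `F`
  have hsuppF : ∀ x ∈ ZL (S : Subgroup G) n, (∀ i, x ∈ C i ↔ i ∉ r) → ∀ f ∈ F, f * x = x * f := by
    intro x hx hxs f hf
    refine mem_centralizer_iff.1 (hp.fix ⟨hx, mem_centralizer_iff.2 fun o ho => ?_⟩) f hf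
    refine comm_of_supp h (hON ho) hx fun i j e => ?_
    rw [hxs i, hxs j, hrO o ho i j e]
  obtain ⟨xr, hxr, hxrs⟩ := exists_supp h r
  -- `T` stabilises `r`
  have hrT : ∀ t ∈ T, ∀ i j, cj t (Z i) = Z j → i ∈ r → j ∈ r := by
    intro t ht i j e hi
    by_contra hj
    have h1 := (supp_cj h (hTN ht) e hxr).1
    have h2 := hsuppF xr hxr hxrs t (hTF ht)
    have h3 : t * xr * t⁻¹ = xr := by rw [h2]; group
    rw [h3] at h1
    exact (hxrs i).1 (h1 ((hxrs j).2 hj)) hi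
  -- `r` and `Phi(T)` are disjoint
  have hrPhi : ∀ j ∈ r, j ∉ Phi Z T := by
    rintro j ⟨o, ho, e⟩ hj
    apply hmv
    have h1 := hj (o * o₀ * o⁻¹) (hO (mul_mem (mul_mem ho ho₀) (inv_mem ho)))
    rw [← e, cj_cj] at h1
    have h2 : cj o⁻¹ (cj (o * o₀ * o⁻¹ * o) (Z i₀)) = cj o⁻¹ (cj o (Z i₀)) := by rw [h1]
    rw [cj_cj, cj_inv_cj] at h2
    have e2 : o⁻¹ * (o * o₀ * o⁻¹ * o) = o₀ := by group
    rwa [e2] at h2
  -- the group `Z₀`
  set Z₀ : Subgroup G := ⨆ i ∈ Phi Z T, Z i with hZ₀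
  have hZ₀J : Z₀ ≤ ZL (S : Subgroup G) n := iSup_le fun i => iSup_le fun _ => h.fr.Z_le i
  have hFZ₀ : F ≤ centralizer (Z₀ : Set G) := by
    rw [le_centralizer_iff]
    refine iSup_le fun i => iSup_le fun hi x hx => ?_
    refine hp.fix ⟨h.fr.Z_le i hx, mem_centralizer_iff.2 fun o ho => ?_⟩
    exact cent_of_cj h (hi o (hO ho)) hx
  have hBZ₀ : BL (S : Subgroup G) n ≤ centralizer (Z₀ : Set G) :=
    (lb S n).Bc.trans (centralizer_le (by exact_mod_cast hZ₀J))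
  have hLZ₀ : ∀ j ∈ r, L j ≤ centralizer (Z₀ : Set G) := by
    intro j hj
    rw [le_centralizer_iff]
    refine iSup_le fun i => iSup_le fun hi x hx => ?_
    rw [mem_centralizer_iff]
    intro l hl
    have hij : j ≠ i := by
      rintro rfl
      exact hrPhi _ hj hi
    exact h.fr.LC j l hl x (h.fr.Z_le i hx) (Z_C h hij hx)
  -- (TI)
  have hti : ∀ i ∈ r, ∀ x ∈ W i, x ≠ 1 → ∀ f ∈ F, x ∈ cj f (⨆ j ∈ r, W j) → f ∈ M := by
    intro i hi x hx hx1 f hf hxf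
    obtain ⟨l, hl, hxl⟩ := UniPlus.cover_two (nb h.fr i) hx
    rw [mem_cj] at hxl hxf
    -- `C_G(Z₀ x) ≤ M`
    have hcx : ∀ u, u ∈ centralizer (Z₀ : Set G) → u * x = x * u → u ∈ M := by
      intro u hu hux
      have h1 : l⁻¹ * u * l ∈ M := by
        refine hcen i (hrPhi i hi) ?_
        rw [mem_centralizer_iff]
        intro y hy
        have h2 : ((⨆ i ∈ Phi Z T, Z i) ⊔ Z i : Subgroup G) ≤ centralizer ({l⁻¹ * u * l} : Set G) := by
          refine sup_le ?_ fun y hy => ?_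
          · have h3 : l⁻¹ * u * l ∈ centralizer (Z₀ : Set G) :=
              mul_mem (mul_mem (inv_mem (hLZ₀ i hi hl)) hu) (hLZ₀ i hi hl)
            intro y hy
            rw [mem_centralizer_singleton_iff]
            exact mem_centralizer_iff.1 h3 y hy
          · rw [mem_centralizer_singleton_iff]
            by_cases hy1 : y = 1
            · rw [hy1]; simp
            have h3 : l⁻¹ * x * l ≠ 1 := fun h4 => hx1 (by
              have h5 := congrArg (fun t => l * t * l⁻¹) h4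
              simpa [mul_assoc] using h5)
            have h4 := Z_eq h hy hxl hy1 h3
            rw [h4]
            have h5 := congrArg (fun t => l⁻¹ * t * l) hux
            simpa only [mul_assoc, _root_.mul_inv_cancel_left, _root_.mul_right_inj] using h5.symm
        exact mem_centralizer_singleton_iff.1 (h2 hy)
      have h2 := mul_mem (mul_mem (hLM i hl) h1) (inv_mem (hLM i hl))
      have e : l * (l⁻¹ * u * l) * l⁻¹ = u := by group
      rwa [e] at h2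
    obtain ⟨m, hm, hmx'⟩ := conj_ZJ h.fr r hxf
    have hmx : m * (f⁻¹ * x * f) * m⁻¹ ∈ ZL (S : Subgroup G) n :=
      (iSup₂_le fun i _ => h.fr.Z_le i : (⨆ i ∈ r, Z i) ≤ ZL (S : Subgroup G) n) hmx'
    have hmM : m ∈ M := (iSup₂_le fun i (_ : i ∈ r) => hLM i : (⨆ i ∈ r, L i) ≤ M) hm
    have hmZ : m ∈ centralizer (Z₀ : Set G) :=
      (iSup₂_le fun i (hi : i ∈ r) => hLZ₀ i hi : (⨆ i ∈ r, L i) ≤ centralizer (Z₀ : Set G)) hm
    have hg : f * m⁻¹ ∈ M := by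
      refine mem_of_cj_B_le S (n := n) hSM hN ?_
      rintro _ ⟨b, hb, rfl⟩
      refine hcx _ ?_ ?_
      · have hgZ : f * m⁻¹ ∈ centralizer (Z₀ : Set G) := mul_mem (hFZ₀ hf) (inv_mem hmZ)
        exact mul_mem (mul_mem hgZ (hBZ₀ hb)) (inv_mem hgZ)
      · have h1 := mem_centralizer_iff.1 ((lb S n).Bc hb) _ hmx
        change (f * m⁻¹) * b * (f * m⁻¹)⁻¹ * x = x * ((f * m⁻¹) * b * (f * m⁻¹)⁻¹)
        have h2 := congrArg (fun t => (f * m⁻¹) * t * (f * m⁻¹)⁻¹) h1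
        have e1 : (f * m⁻¹) * (m * (f⁻¹ * x * f) * m⁻¹ * b) * (f * m⁻¹)⁻¹ =
          x * ((f * m⁻¹) * b * (f * m⁻¹)⁻¹) := by group
        have e2 : (f * m⁻¹) * (b * (m * (f⁻¹ * x * f) * m⁻¹)) * (f * m⁻¹)⁻¹ =
          (f * m⁻¹) * b * (f * m⁻¹)⁻¹ * x := by group
        have h3 : (f * m⁻¹) * (m * (f⁻¹ * x * f) * m⁻¹ * b) * (f * m⁻¹)⁻¹ =
            (f * m⁻¹) * (b * (m * (f⁻¹ * x * f) * m⁻¹)) * (f * m⁻¹)⁻¹ := by
          first
            | exact h2
            | exact h2.symm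
        rw [e1, e2] at h3
        exact h3.symm
    have h3 := mul_mem hg hmM
    have e : f * m⁻¹ * m = f := by group
    rwa [e] at h3
  have hsup : (⨆ j : r, W j) = ⨆ j ∈ r, W j := iSup_subtype' (f := fun j (_ : j ∈ r) => W j) |>.symm
  have hWV : ∀ i, W i ≤ zl (S : Subgroup G) P := h.fr.WV
  have hcomm : ∀ f ∈ F, ∀ x ∈ zl (S : Subgroup G) P, ∀ y ∈ zl (S : Subgroup G) P,
      x * (f * y * f⁻¹) = f * y * f⁻¹ * x := fun f hf x hx y hy => comm_of_pair h hp hf hx hy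
  -- `Λ = ⟨V^F⟩` is elementary abelian
  have hVel : IsElementaryAbelian 2 (NoFF.Basic.V (zl (S : Subgroup G) P) F) := by
    have h1 := Swap.elab_iSup (W := fun f : F => cj (f : G) (zl (S : Subgroup G) P)) (fun f f' x hx y hy => ?_)
      fun f x hx => ?_
    · exact Swap.elab_of h1.1 h1.2
    · rw [mem_cj] at hx hy
      have h2 := hcomm ((f : G)⁻¹ * f') (mul_mem (inv_mem f.2) f'.2) _ hx _ hy
      have e1 : (f : G)⁻¹ * f' * ((f' : G)⁻¹ * y * f') * ((f : G)⁻¹ * f')⁻¹ = (f : G)⁻¹ * y * f := by group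
      rw [e1] at h2
      have h3 := congrArg (fun t => (f : G) * t * (f : G)⁻¹) h2
      have e2 : (f : G) * ((f : G)⁻¹ * x * f * ((f : G)⁻¹ * y * f)) * (f : G)⁻¹ = x * y := by group
      have e3 : (f : G) * ((f : G)⁻¹ * y * f * ((f : G)⁻¹ * x * f)) * (f : G)⁻¹ = y * x := by group
      exact e2.symm.trans (h3.trans e3)
    · rw [mem_cj] at hx
      have h2 := SQ1.Bau.elem_sq h.fr.el _ hx
      rw [pow_two] at h2
      have e : x * x = f * ((f : G)⁻¹ * x * f * ((f : G)⁻¹ * x * f)) * (f : G)⁻¹ := by group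
      rw [e, h2]; group
  have hUV : (⨆ j : r, W j) ≤ zl (S : Subgroup G) P := iSup_le fun j => hWV j
  have hLV : NoFF.Basic.V (⨆ j : r, W j) F ≤ NoFF.Basic.V (zl (S : Subgroup G) P) F :=
    NoFF.Basic.V_le fun f hf => (cj_mono f hUV).trans (NoFF.Basic.Z_le_V hf)
  have hUF : (⨆ j : r, W j) ≤ F := hUV.trans (hp.VO.trans (o2_le F))
  refine ⟨T, F, F ⊓ M, 𝓐, r, fun i => W i, fun i => z i, ?_⟩
  refine
    { syl := hp.syl
      TF₀ := le_inf hTF hTM
      F₀F := lt_of_le_of_ne inf_le_left fun e => hp.nM (inf_eq_left.1 e)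
      max := fun K hTK hKF => le_inf hKF.le (hp.min K hTK hKF)
      fam := hfam _ (Swap.elab_mono hVel hLV) ?_ OmThm.XD.X_le_normalizer_W hLV
      nJ := hnJ
      fin := inferInstance
      two := ⟨⟨i₀, hi₀⟩, ⟨j₀, hj₀r⟩, fun e => hne₀ (congrArg Subtype.val e)⟩
      card := fun i => by rw [(h.fr.blk i).card, h.fr.cardZ]
      zV := fun i => Z_W h _ (hz i)
      z1 := fun i => hz1 i
      VO := fun i => (hWV i).trans hp.VO
      sq := fun i x hx => by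
        rw [← pow_two]
        exact SQ1.Bau.elem_sq h.fr.el x (hWV i hx)
      comm := fun f hf i j x hx y hy => comm_of_pair h hp hf (hWV i hx) (hWV j hy)
      ind := ?_
      perm := ?_
      tr := ?_
      nor := ?_
      hat := ?_
      mov := ?_
      zc := ?_
      ti := ?_ }
  · refine NoFF.Basic.V_le fun f hf => ?_
    have := cj_mono f hUF
    rwa [cj_eq_of_mem_normalizer (le_normalizer hf)] at this
  · rintro ⟨i, hi⟩ x hx hx'
    have h1 : (⨆ j : r, ⨆ _ : j ≠ ⟨i, hi⟩, W j) ≤ C i := by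
      refine iSup_le fun j => iSup_le fun hj => ?_
      exact h.fr.WjC i j fun e => hj (Subtype.ext e.symm)
    have h2 : x ∈ W i ⊓ C i := mem_inf.2 ⟨hx, h1 hx'⟩
    rwa [h.fr.dir i, mem_bot] at h2
  · rintro t ht ⟨i, hi⟩
    obtain ⟨j, h1, h2, -⟩ := perm h (hTN ht) i
    exact ⟨⟨j, hrT t ht i j h1 hi⟩, h2, conj_gen h h1 (hz i) (hz1 i) (hz j) (hz1 j)⟩
  · rintro ⟨i, o, ho, e⟩ ⟨j, o', ho', e'⟩
    refine ⟨o' * o⁻¹, mul_mem ho' (inv_mem ho), ?_⟩
    exact W_cj h (hON (mul_mem ho' (inv_mem ho))) (cj_mul_eq (cj_inv_eq e) e')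
  · rintro X hX hXT a ha ⟨i, hi⟩
    have hb := (hA X hX hXT).1 ha
    have key : ∀ b ∈ BL (S : Subgroup G) n, cj b (W i) ≤ W i := by
      rintro b hb _ ⟨w, hw, rfl⟩
      exact (h.fr.blk i).BV hb hw
    refine le_antisymm (key a hb) ?_
    have := cj_mono a (key a⁻¹ (inv_mem hb))
    rwa [cj_cj_inv] at this
  · rintro X hX hXT ⟨i, hi⟩ hmv'
    obtain ⟨hXB, h1 | hbest⟩ := hA X hX hXT
    · obtain ⟨a, ha, x, hx, hne⟩ := hmv'
      exact absurd (h1 a ha x (hWV i hx)) hne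
    · obtain ⟨a, ha, h1, h2⟩ := hat h.fr hXB hbest hmv'
      exact ⟨a, ha, h1, fun j hj x hx => h2 j (fun e => hj (Subtype.ext e)) x hx⟩
  · rintro ⟨i, hi⟩
    have h2 := h.fr.Ane i
    push Not at h2
    obtain ⟨a, ha, v, hv, hne⟩ := h2
    refine ⟨a, hp.BT (h.fr.AB i ha), ⟨v, hv, hne⟩, fun j hj x hx => ?_⟩
    exact h.fr.AC i a ha x (h.fr.WjC i j (fun e => hj (Subtype.ext e.symm)) hx)
  · rintro ⟨i, hi⟩ ⟨j, hj⟩ hij hall f hf
    have hij' : i ≠ j := fun e => hij (Subtype.ext e)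
    have hall' : ∀ k ∈ r, k = i ∨ k = j := by
      intro k hk
      rcases hall ⟨k, hk⟩ with e | e
      · exact Or.inl (congrArg Subtype.val e)
      · exact Or.inr (congrArg Subtype.val e)
    refine hsuppF (z i * z j) (mul_mem (h.fr.Z_le i (hz i)) (h.fr.Z_le j (hz j))) (fun k => ?_) f hf
    by_cases hki : k = i
    · subst hki
      rw [Subgroup.mul_mem_cancel_right _ (Z_C h hij' (hz j))]
      exact ⟨fun h1 => absurd h1 (not_mem_C h (hz k) (hz1 k)), fun h1 => absurd hi h1⟩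
    · by_cases hkj : k = j
      · subst hkj
        rw [Subgroup.mul_mem_cancel_left _ (Z_C h hki (hz i))]
        exact ⟨fun h1 => absurd h1 (not_mem_C h (hz k) (hz1 k)), fun h1 => absurd hj h1⟩
      · refine ⟨fun _ hk => ?_, fun _ => mul_mem (Z_C h hki (hz i)) (Z_C h hkj (hz j))⟩
        rcases hall' k hk with e | e
        · exact hki e
        · exact hkj e
  · rintro ⟨i, hi⟩ x hx hx1 f hf hxf
    rw [hsup] at hxf
    exact mem_inf.2 ⟨hf, hti i hi x hx hx1 f hf hxf⟩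

/-- The conclusion of STEPS 1 and 2 over a family (helper394). -/
def SitFFalse : Prop :=
  ∀ (G : Type u) [Group G] [Finite G] (F T F₀ : Subgroup G) (𝓐 : Set (Subgroup G)) (κ : Type) (V : κ → Subgroup G)
    (z : κ → G), SitF F T F₀ 𝓐 V z → False

/-- **THEOREM SW at the levels**: every subgroup of characteristic 2 over `B` is contained in every
`M ≥ C_G(Z_J), L_i, N_G(B)`, if the minimal parabolics over `T ≥ B` which move `Ω₁Z(T)` are. -/
theorem le_of_char2 (hs : SitFFalse.{u}) (h : Ln S P n L W Z C A 2) {M H : Subgroup G} (hBM : BM S n M)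
    (hLM : ∀ i, L i ≤ M)
    (hD : centralizer (ZL (S : Subgroup G) n : Set G) ≤ M) (hN : normalizer (BL (S : Subgroup G) n : Set G) ≤ M)
    (hB : BL (S : Subgroup G) n ≤ H) (hc : H ⊓ centralizer (o2 H : Set G) ≤ o2 H) : H ≤ M := by
  by_contra hM
  obtain ⟨T, F, F₀, 𝓐, κ, V, z, hS⟩ := exists_sit h hBM hLM hD hN hB hc hM
  exact hs G F T F₀ 𝓐 κ V z hS

/-- **LL** for `M`: minimal parabolics of smaller stage over `T ≥ B` which move `Ω₁Z(T)` lie in `M`. -/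
def Low (S : Sylow 2 G) (n : ℕ) (M : Subgroup G) : Prop :=
  ∀ T Y : Subgroup G, Syl T Y → BL (S : Subgroup G) n ≤ T → IsMinPar T Y →
    Y ⊓ centralizer (o2 Y : Set G) ≤ o2 Y → ¬ lev (S : Subgroup G) n ≤ o2 Y →
    ¬ Y ≤ centralizer (zc T : Set G) → Y ≤ M

omit [Finite ι] in
theorem bm_of_low (S : Sylow 2 G) {n : ℕ} {M : Subgroup G}
    (hK : K0 (ZL (S : Subgroup G) n) (FBlk (BL (S : Subgroup G) n)) ≤ M)
    (hN : normalizer (BL (S : Subgroup G) n : Set G) ≤ M) (hl : Low S n M) : BM S n M := by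
  intro T Y hT hB hY hc hn hZ
  by_cases h1 : lev (S : Subgroup G) n ≤ o2 Y
  · exact (LevB.blkGen S hT hB hY hc h1 hn hZ).trans (sup_le hK (((lb S n).two_le hT.2.1 hB).trans hN))
  · exact hl T Y hT hB hY hc h1 hZ

/-- **(Om) is impossible for `q = 2` at stage `n`**: `K0` normalises no nontrivial 2-subgroup. LL is used for the local
groups `M ≥ K0, N_G(B)` only. -/
theorem noOm (hs : SitFFalse.{u}) (h : Ln S P n L W Z C A 2) (hn1 : ¬ lev (S : Subgroup G) (n + 1) ≤ o2 P)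
    (hF : Fam (BL (S : Subgroup G) n) (ZL (S : Subgroup G) n) (FBlk (BL (S : Subgroup G) n)))
    (hLM : ∀ i, L i ≤ K0 (ZL (S : Subgroup G) n) (FBlk (BL (S : Subgroup G) n)))
    (hl : ∀ M : Subgroup G, K0 (ZL (S : Subgroup G) n) (FBlk (BL (S : Subgroup G) n)) ≤ M →
      normalizer (BL (S : Subgroup G) n : Set G) ≤ M → o2 M ≠ ⊥ → Low S n M) :
    ∀ R : Subgroup G, IsPGroup 2 R →
      K0 (ZL (S : Subgroup G) n) (FBlk (BL (S : Subgroup G) n)) ≤ normalizer (R : Set G) → R = ⊥ := by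
  by_contra hcon
  push Not at hcon
  obtain ⟨R, hR, hRn, hR1⟩ := hcon
  obtain ⟨ho, hoB, hle⟩ := hF.dich (lb S n) hR hR1 hRn
  set O : Subgroup G := o2 (K0 (ZL (S : Subgroup G) n) (FBlk (BL (S : Subgroup G) n))) with hO
  set M : Subgroup G := normalizer (O : Set G) with hM
  have hK : K0 (ZL (S : Subgroup G) n) (FBlk (BL (S : Subgroup G) n)) ≤ M := le_sup_left.trans hle
  have hN : normalizer (BL (S : Subgroup G) n : Set G) ≤ M := le_sup_right.trans hle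
  have hSM : (S : Subgroup G) ≤ M := ((lb S n).two_le S.isPGroup' (lb S n).BS).trans hN
  have hoM : o2 M ≠ ⊥ := by
    intro e
    apply ho
    have h1 : O ≤ o2 M := le_o2 (isPGroup_o2 _) le_normalizer le_rfl
    rw [e] at h1
    exact le_bot_iff.1 h1
  have hS1 : (S : Subgroup G) ≠ ⊥ := h.hyp.ctx.sylow_ne_bot S
  have h1 := MinPar.isLoc_centralizer_zc S hS1
  have h2 : FrameNOFF.CZ (S : Subgroup G) ≤ M :=
    le_of_char2 hs h (bm_of_low S hK hN (hl M hK hN hoM)) (fun i => (hLM i).trans hK)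
      (LevD.cent_le_K0.trans hK) hN ((lb S n).BS.trans h1.le) (h1.char2 S h.hyp.ctx.char2)
  have hP : P ≤ M := by
    have h3 := LevB.blkGen S h.hyp.toHyp.syl (lb S n).BS h.hyp.star.toIsMinPar
      (h.hyp.star.isLoc.char2 S h.hyp.ctx.char2) h.le hn1
      (fun hc => h.hyp.star.not_zc (hc.trans (centralizer_le_normalizer _)))
    exact h3.trans (sup_le hK hSM)
  exact ho (h.hyp.nonLoc _ (isPGroup_o2 _) hP h2)

end line

end Cfsg.Agent.Omega.OM.SwapL

end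

section


/-!
# `SwapL.BG`: minimal parabolics which move `Ω₁Z(T)` are generated by `T` and blocks

`BG.bm`, `BG.low`.
-/

set_option autoImplicit false

namespace Cfsg.Agent.Omega.OM.SwapL

open Subgroup Cfsg Cfsg.Agent.ZN.ChoiceBase Cfsg.Agent.ZN.ChoiceSit
open Cfsg.Agent.ZN (jj zj bau zc zl o2)
open Cfsg.Agent.MinSimple.MinParabolic (IsMinPar)
open Cfsg.Agent.Omega.NO3S.Level (lev)
open Cfsg.Agent.Omega.OM.LevD (K0)

universe u

variable {G : Type u} [Group G] [Finite G]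

/-- Minimal parabolics which move `Ω₁Z(T)` are generated by `T` and blocks: the blocks at stage `n` and LL. -/
def BG (S : Sylow 2 G) (n : ℕ) (𝓑 : Subgroup G → Subgroup G → Prop) : Prop :=
  ∀ T Y : Subgroup G, Syl T Y → BL (S : Subgroup G) n ≤ T → IsMinPar T Y →
    Y ⊓ centralizer (o2 Y : Set G) ≤ o2 Y →
    LevD.BlkGen (lev (S : Subgroup G) (n + 1)) (ZL (S : Subgroup G) n) 𝓑 T Y

variable {S : Sylow 2 G} {n : ℕ} {𝓑 : Subgroup G → Subgroup G → Prop} {M : Subgroup G}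

theorem BG.bm (h : BG S n 𝓑) (hK : K0 (ZL (S : Subgroup G) n) 𝓑 ≤ M)
    (hN : normalizer (BL (S : Subgroup G) n : Set G) ≤ M) : BM S n M := fun T Y hT hB hY hc hn hZ =>
  (h T Y hT hB hY hc hn hZ).trans (sup_le hK (((lb S n).two_le hT.2.1 hB).trans hN))

theorem BG.low (h : BG S n 𝓑) (hK : K0 (ZL (S : Subgroup G) n) 𝓑 ≤ M)
    (hN : normalizer (BL (S : Subgroup G) n : Set G) ≤ M) : Low S n M := fun T Y hT hB hY hc hn hZ =>
  h.bm hK hN T Y hT hB hY hc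
    (fun h1 => hn ((NO3S.Level.lev_le_succ (S : Subgroup G) n).trans h1)) hZ

end Cfsg.Agent.Omega.OM.SwapL

end

end
end

-- part: Mrg/Omega/OM/Lev/Low/LowMain
section
prune_inst 0x400000000000000000001c4292000000000800012000000004880c0005402020802020000800800400300008120000100000000000000000011804a1800042020300a004040001800000000000000000000000000000000000000000200000000
set_option linter.all false
open scoped Cfsg.Agent.FastGrp

-- part: Mrg/Omega/OM/Lev/Low/YNat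
section
section


/-!
# `YB` for a parabolic of natural type

`LD M B ZJ L j` : one block `L` for the `j`-th summand. `Ni i` : the elements of `Z_J` centralised by all `T`-conjugates
of `L` for the `i`-th summand.

* `LD.eq` : **LEMMA EQ** (helper584): one of them is enough;
* `LD.yb` : `YB T ZJ Ni c`.
-/

set_option autoImplicit false
set_option linter.unusedSectionVars false

namespace Cfsg.Agent.Omega.OM.Lev.Low

open Subgroup Cfsg Cfsg.Agent.ZN Cfsg.Agent.ZN.ChoiceBase Cfsg.Agent.ZN.ChoiceSit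
open Cfsg.Agent.Omega.NatPair (ap ap_zero' ap_one' ap_one ap_mul ext2 ap_inv_ap ap_inj)
open Cfsg.Agent.Lib.SL2Mat
open Cfsg.Agent.Omega.SQ1.FFOne (MinH)
open Cfsg.Agent.Omega.NO3S.OneLine (NatC single_acts natC_of)
open Cfsg.Agent.Omega.OM.Lev.Nat (Wn mem_Wn ap_z exists_up)
open Cfsg.Agent.Omega.FFThm (NatK NatKM ActsSL)
open Cfsg.Agent.Omega.SQ1.Bau (elem_comm elem_sq)
open Cfsg.Agent.Omega.NO3S.ThmB (Nb Fx Pf)

universe u

variable {G : Type u} [Group G] [Finite G] {F : Type} [Field F] {T H V D : Subgroup G} {k : ℕ}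
  {M : NatC F T H V D k} {B ZJ L : Subgroup G} {j : Fin k}

/-- the elements of `Z_J` centralised by all `T`-conjugates of `L` for the `i`-th summand -/
def Ni (M : NatC F T H V D k) (ZJ L : Subgroup G) (j i : Fin k) : Subgroup G :=
  ZJ ⊓ ⨅ (t : G) (_ : t ∈ T ∧ MvI M t j i), centralizer (cj t L : Set G)

theorem mem_Ni {i : Fin k} {x : G} : x ∈ Ni M ZJ L j i ↔ x ∈ ZJ ∧ ∀ t ∈ T, MvI M t j i → ∀ l ∈ L,
    l * (t⁻¹ * x * t) = t⁻¹ * x * t * l := by
  rw [Ni, mem_inf]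
  simp only [mem_iInf]
  refine and_congr_right fun _ => ⟨fun h t ht hm l hl => ?_, fun h t ht => ?_⟩
  · have h1 := mem_centralizer_iff.1 (h t ⟨ht, hm⟩) (t * l * t⁻¹) ⟨l, hl, rfl⟩
    have h2 := congrArg (fun y => t⁻¹ * y * t) h1
    simpa only [mul_assoc, _root_.inv_mul_cancel_left, _root_.inv_mul_cancel, _root_.mul_one] using h2
  · rw [mem_centralizer_iff]
    rintro _ ⟨l, hl, rfl⟩
    have h1 := h t ht.1 ht.2 l hl
    have h2 := congrArg (fun y => t * y * t⁻¹) h1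
    show t * l * t⁻¹ * x = x * (t * l * t⁻¹)
    simpa only [mul_assoc, _root_.mul_inv_cancel, _root_.mul_one, _root_.mul_inv_cancel_left] using h2

namespace LD

variable (h : LD M B ZJ L j)
include h

theorem conjZ {t x : G} (ht : t ∈ T) (hx : x ∈ ZJ) : t * x * t⁻¹ ∈ ZJ := (mem_normalizer_iff.1 (h.TZ ht) x).1 hx

theorem conjZ' {t x : G} (ht : t ∈ T) (hx : x ∈ ZJ) : t⁻¹ * x * t ∈ ZJ := by
  have := h.conjZ (inv_mem ht) hx
  rwa [inv_inv] at this

/-- an element of the `j`-th line centralised by `L` lies in `D` -/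
theorem Lj_D {n : G} (hn : n ∈ Li M j) (hc : ∀ l ∈ L, l * n = n * l) : n ∈ D := by
  refine Li_D hn ?_
  obtain ⟨l, hl, hlA⟩ := h.cov (lo 1)
  have h1 : l * n * l⁻¹ = n := by rw [hc l hl]; group
  have h2 := hlA.e_i hn.1
  rw [h1] at h2
  have h3 := congrFun h2 1
  rw [ap_one', hn.2.2] at h3
  simpa using h3.symm

/-- a 2-element of `C_H(V)` normalises `Z_J` -/
theorem two_norm [CharP F 2] {y : G} (hy : y ∈ H) (hyV : ∀ v ∈ V, y * v = v * y) {n : ℕ} (hn : y ^ 2 ^ n = 1) :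
    y ∈ T := by
  have hys : y ∈ M.stab := by
    refine ⟨hy, fun v hv i => ?_, fun d hd => hyV d (M.DV hd)⟩
    rw [hyV v hv, mul_inv_cancel_right, Pi.one_apply, ap_one]
  have hTs : T ⊓ M.stab ≤ o2 H := h.hm.inf_le (fun _ h => h.1) M.stab_norm (M.stab_sup_ne h.hm.syl)
  have hp : IsPGroup 2 (zpowers y) := by
    rintro ⟨z, hz⟩
    obtain ⟨m, rfl⟩ := mem_zpowers_iff.1 hz
    refine ⟨n, Subtype.ext ?_⟩
    show (y ^ m) ^ 2 ^ n = 1
    rw [← zpow_natCast, ← zpow_mul, mul_comm, zpow_mul, zpow_natCast, hn, one_zpow]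
  obtain ⟨S, hS, hyS⟩ := exists_syl hp ((zpowers_le (H := H)).2 hy)
  obtain ⟨g, hg, e⟩ := syl_conj hS h.hm.syl
  have h1 : g * y * g⁻¹ ∈ T := by
    rw [← e]
    exact ⟨y, hyS (mem_zpowers y), rfl⟩
  have h3 := hTs ⟨h1, M.stab_norm g hg y hys⟩
  have h4 := (mem_normalizer_iff.1 (ChoiceSit.le_normalizer_o2 H (inv_mem hg)) _).1 h3
  have e1 : g⁻¹ * (g * y * g⁻¹) * g⁻¹⁻¹ = y := by group
  rw [e1] at h4
  exact o2_le_syl h.hm.syl h4

/-- **LEMMA EQ** (helper584) -/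
theorem eq [CharP F 2] {t s : G} (ht : t ∈ T) (hs : s ∈ T) {i : Fin k} (mt : MvI M t j i) (ms : MvI M s j i) {x : G}
    (hx : x ∈ ZJ) (hc : ∀ l ∈ L, l * (t⁻¹ * x * t) = t⁻¹ * x * t * l) :
    ∀ l ∈ L, l * (s⁻¹ * x * s) = s⁻¹ * x * s * l := by
  obtain ⟨c, hcZ, hcL, n, hn, e0⟩ := h.split _ (h.conjZ' hs hx)
  have hnD : n ∈ D := by
    refine Li_D hn ?_
    by_contra hne
    obtain ⟨l', hl', hlA⟩ := h.cov (lo 1)
    have hsH := h.TH hs
    have htH := h.TH ht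
    -- `g' = s l' s⁻¹`, `g = t l t⁻¹` act in the same way on `V`
    obtain ⟨A', hA'⟩ := hlA.conj hsH ms
    obtain ⟨A'', hA''⟩ := hA'.conj (inv_mem htH) (mt.inv htH)
    obtain ⟨l, hl, hlA''⟩ := h.cov A''
    have hgg : ∀ v ∈ V, (s * l' * s⁻¹) * v * (s * l' * s⁻¹)⁻¹ = (t * l * t⁻¹) * v * (t * l * t⁻¹)⁻¹ := by
      intro v hv
      have h3 := hA''.same h.hm hlA'' (M.Vn t⁻¹ (inv_mem htH) v hv)
      have h4 := congrArg (fun y => t * y * t⁻¹) h3
      have e1 : t * (t⁻¹ * (s * l' * s⁻¹) * t⁻¹⁻¹ * (t⁻¹ * v * t⁻¹⁻¹) * (t⁻¹ * (s * l' * s⁻¹) * t⁻¹⁻¹)⁻¹) * t⁻¹ =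
        (s * l' * s⁻¹) * v * (s * l' * s⁻¹)⁻¹ := by group
      have e2 : t * (l * (t⁻¹ * v * t⁻¹⁻¹) * l⁻¹) * t⁻¹ = (t * l * t⁻¹) * v * (t * l * t⁻¹)⁻¹ := by group
      rw [← e1, ← e2]
      exact h4
    set g' := s * l' * s⁻¹ with hg'
    set g := t * l * t⁻¹ with hg
    have hgx : g * x * g⁻¹ = x := by
      have h3 := congrArg (fun y => t * y * t⁻¹) (hc l hl)
      have h4 : g * x = x * g := by
        rw [hg]
        simpa only [mul_assoc, _root_.mul_inv_cancel, _root_.mul_one, _root_.mul_inv_cancel_left] using h3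
      rw [h4]; group
    have hgH : g ∈ H := mul_mem (mul_mem htH (h.LH hl)) (inv_mem htH)
    have hg'H : g' ∈ H := mul_mem (mul_mem hsH (h.LH hl')) (inv_mem hsH)
    set y := g' * g⁻¹ with hy
    have hyH : y ∈ H := mul_mem hg'H (inv_mem hgH)
    have hyV : ∀ v ∈ V, y * v = v * y := by
      intro v hv
      have h3 := hgg _ (M.Vn g⁻¹ (inv_mem hgH) v hv)
      have h4 : y * v * y⁻¹ = v := by
        calc y * v * y⁻¹ = g' * (g⁻¹ * v * g⁻¹⁻¹) * g'⁻¹ := by rw [hy]; group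
          _ = g * (g⁻¹ * v * g⁻¹⁻¹) * g⁻¹ := h3
          _ = v := by group
      exact mul_inv_eq_iff_eq_mul.1 h4
    set w0 := n⁻¹ * (l' * n * l'⁻¹) with hw0
    have hl'n : l' * n * l'⁻¹ ∈ V := M.Vn l' (h.LH hl') n hn.1
    have hw0V : w0 ∈ V := mul_mem (inv_mem hn.1) hl'n
    set w := s * w0 * s⁻¹ with hw
    have hwV : w ∈ V := M.Vn s hsH _ hw0V
    have hyx : y * x * y⁻¹ = x * w := by
      have h3 : l' * (s⁻¹ * x * s) * l'⁻¹ = s⁻¹ * x * s * w0 := by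
        rw [e0, hw0]
        calc l' * (c * n) * l'⁻¹ = (l' * c) * n * l'⁻¹ := by group
          _ = (c * l') * n * l'⁻¹ := by rw [hcL l' hl']
          _ = _ := by group
      calc y * x * y⁻¹ = g' * (g⁻¹ * x * g) * g'⁻¹ := by rw [hy]; group
        _ = g' * x * g'⁻¹ := by
          have h4 : g⁻¹ * x * g = x := by
            calc g⁻¹ * x * g = g⁻¹ * (g * x * g⁻¹) * g := by rw [hgx]
              _ = x := by group
          rw [h4]
        _ = s * (l' * (s⁻¹ * x * s) * l'⁻¹) * s⁻¹ := by rw [hg']; group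
        _ = s * (s⁻¹ * x * s * w0) * s⁻¹ := by rw [h3]
        _ = x * w := by rw [hw]; group
    have hww : w * w = 1 := by
      have := M.Vsq w hwV
      rwa [pow_two] at this
    -- powers
    have hpow : ∀ m : ℕ, y ^ m * x * (y ^ m)⁻¹ = x * w ^ m := by
      intro m
      induction m with
      | zero => simp
      | succ m ih =>
        have h3 := hyV _ (pow_mem hwV m)
        calc y ^ (m + 1) * x * (y ^ (m + 1))⁻¹ = y * (y ^ m * x * (y ^ m)⁻¹) * y⁻¹ := by rw [pow_succ']; group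
          _ = y * (x * w ^ m) * y⁻¹ := by rw [ih]
          _ = (y * x * y⁻¹) * (y * w ^ m) * y⁻¹ := by group
          _ = (y * x * y⁻¹) * w ^ m := by rw [h3]; group
          _ = x * w ^ (m + 1) := by rw [hyx, pow_succ', mul_assoc]
    obtain ⟨a, m, hm1, hm2⟩ := Nat.exists_eq_two_pow_mul_odd (isOfFinOrder_of_finite y).orderOf_pos.ne'
    have hyT : y ^ m ∈ T := by
      refine h.two_norm (pow_mem hyH m) (fun v hv => ?_) (n := a) ?_
      · have c1 : Commute y v := hyV v hv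
        exact (c1.pow_left m).eq
      · rw [← pow_mul, mul_comm, ← hm2, pow_orderOf_eq_one]
    have hwm : w ^ m = w := by
      obtain ⟨r, rfl⟩ := hm1
      rw [pow_succ, pow_mul, pow_two, hww, one_pow, one_mul]
    have hwZ : w ∈ ZJ := by
      have h3 := h.conjZ hyT hx
      rw [hpow, hwm] at h3
      have h4 := mul_mem (inv_mem hx) h3
      rwa [inv_mul_cancel_left] at h4
    have hw0Z : w0 ∈ ZJ := by
      have h3 := h.conjZ' hs hwZ
      have e1 : s⁻¹ * w * s = w0 := by rw [hw]; group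
      rwa [e1] at h3
    have h5 := (h.mem w0 hw0V).1 hw0Z j
    rw [hw0, M.nat.mul _ (inv_mem hn.1) _ hl'n, Pi.add_apply, Pi.add_apply, M.map_inv hn.1, Pi.neg_apply, Pi.neg_apply,
      hlA.e_i hn.1, ap_one', hn.2.2] at h5
    apply hne
    simpa using h5
  intro l hl
  rw [e0]
  have c1 : Commute l c := hcL l hl
  have c2 : Commute l n := h.cD l hl n hnD
  exact (c1.mul_right c2).eq

/-- one conjugate of `L` is enough -/
theorem mem_Ni_of [CharP F 2] {t : G} (ht : t ∈ T) {i : Fin k} (mt : MvI M t j i) {x : G}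
    (hx : x ∈ ZJ) (hc : ∀ l ∈ L, l * (t⁻¹ * x * t) = t⁻¹ * x * t * l) : x ∈ Ni M ZJ L j i :=
  mem_Ni.2 ⟨hx, fun _ hs ms => h.eq ht hs mt ms hx hc⟩

theorem Ni_conj {s : G} (hs : s ∈ T) {i m : Fin k} (hm : MvI M s i m) {x : G} (hx : x ∈ Ni M ZJ L j i) :
    s * x * s⁻¹ ∈ Ni M ZJ L j m := by
  obtain ⟨hxZ, hxt⟩ := mem_Ni.1 hx
  refine mem_Ni.2 ⟨h.conjZ hs hxZ, fun t ht mt l hl => ?_⟩
  have h1 := hxt (s⁻¹ * t) (mul_mem (inv_mem hs) ht) ((hm.inv (h.TH hs)).mul (h.TH ht) mt) l hl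
  have e : (s⁻¹ * t)⁻¹ * x * (s⁻¹ * t) = t⁻¹ * (s * x * s⁻¹) * t := by group
  rwa [e] at h1

theorem Ni_cj {s : G} (hs : s ∈ T) {i m : Fin k} (hm : MvI M s i m) : cj s (Ni M ZJ L j i) = Ni M ZJ L j m := by
  apply le_antisymm
  · rintro _ ⟨x, hx, rfl⟩
    exact h.Ni_conj hs hm hx
  · intro x hx
    rw [mem_cj]
    have := h.Ni_conj (inv_mem hs) (hm.inv (h.TH hs)) hx
    rwa [inv_inv] at this

/-- **`YB`, without the cyclic action** -/
theorem yb_aux [CharP F 2] {c : Fin k → Subgroup G} (hc : Co M c)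
    (hcyc : ∀ i, ∀ s ∈ T, ∀ t ∈ T, MvI M s i i → MvI M t i i →
      ∃ n : ℕ, (∀ x ∈ Li M i, s * t ^ n * x * (s * t ^ n)⁻¹ * x⁻¹ ∈ D) ∨
        ∀ x ∈ Li M i, t * s ^ n * x * (t * s ^ n)⁻¹ * x⁻¹ ∈ D) : YB T ZJ (Ni M ZJ L j) c := by
  have hTH := h.TH
  have hne : ∀ i, c i ≠ ⊥ := by
    intro i hi
    obtain ⟨v, hv, e⟩ := exists_line M i 1
    obtain ⟨a, ha, d, hd, rfl⟩ := hc.cov i v hv
    rw [hi, mem_bot] at ha
    rw [ha, one_mul, D_e (M := M) hd] at e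
    exact zero_ne_one e
  have htriv : ∀ i, c i ⊓ Ni M ZJ L j i = ⊥ := by
    intro i
    rw [eq_bot_iff]
    rintro v ⟨hv, hvN⟩
    obtain ⟨t, ht, htr⟩ := M.nat.trans j i
    have hm : MvI M t j i := htr
    have h1 := (mem_Ni.1 hvN).2 t ht hm
    have hvL := hc.le i hv
    have h2 : t⁻¹ * v * t ∈ Li M j := by
      have := (hm.inv (hTH ht)).Li hTH (inv_mem ht) hvL
      rwa [inv_inv] at this
    have h3 := M.Dn t (hTH ht) _ (h.Lj_D h2 h1)
    have e : t * (t⁻¹ * v * t) * t⁻¹ = v := by group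
    rw [e] at h3
    exact mem_bot.2 (hc.dis i v hv h3)
  have hcomm : ∀ l m, l ≠ m → c l ≤ Ni M ZJ L j m := by
    intro l m hlm v hv
    have hvL := hc.le l hv
    refine mem_Ni.2 ⟨h.LiZ l hvL, fun t ht mt l' hl' => ?_⟩
    obtain ⟨i', hi'⟩ := MvI.ex M (inv_mem (hTH ht)) l
    have h2 : t⁻¹ * v * t ∈ Li M i' := by
      have := hi'.Li hTH (inv_mem ht) hvL
      rwa [inv_inv] at this
    refine h.LW l' hl' i' (fun e => hlm ?_) _ h2
    subst e
    have h3 := hi'.inv (inv_mem (hTH ht))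
    rw [inv_inv] at h3
    exact MvI.uniq h3 mt (hTH ht)
  refine ⟨fun x hx y hy => elem_comm h.el x hx y hy, fun x hx => elem_sq h.el x hx, h.TZ,
    fun i => (hc.le i).trans (h.LiZ i), hne, fun i x hx => ?_, htriv, hcomm, fun t ht i => ?_, ?_⟩
  · obtain ⟨t, ht, htr⟩ := M.nat.trans j i
    have hm : MvI M t j i := htr
    obtain ⟨y, hyZ, hyL, n, hn, e⟩ := h.split _ (h.conjZ' ht hx)
    obtain ⟨a, ha, d, hd, e2⟩ := hc.cov i _ (hm.Li hTH ht hn)
    have hnZ := h.LiZ j hn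
    have e3 : x = (t * y * t⁻¹) * (a * d) := by
      rw [← e2]
      calc x = t * (t⁻¹ * x * t) * t⁻¹ := by group
        _ = t * (y * n) * t⁻¹ := by rw [e]
        _ = _ := by group
    have haZ : a ∈ ZJ := h.LiZ i (hc.le i ha)
    have hdZ := h.DZ hd
    have htyZ := h.conjZ ht hyZ
    refine ⟨a⁻¹, inv_mem ha, ?_⟩
    have e4 : a⁻¹ * x = (t * y * t⁻¹) * d := by
      have c1 := elem_comm h.el _ htyZ a haZ
      rw [e3]
      calc a⁻¹ * (t * y * t⁻¹ * (a * d)) = a⁻¹ * ((t * y * t⁻¹) * a) * d := by group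
        _ = a⁻¹ * (a * (t * y * t⁻¹)) * d := by rw [c1]
        _ = _ := by group
    rw [e4]
    refine h.mem_Ni_of ht hm (mul_mem htyZ hdZ) fun l hl => ?_
    have hd' : t⁻¹ * d * t ∈ D := by
      have := M.Dn t⁻¹ (inv_mem (hTH ht)) d hd
      rwa [inv_inv] at this
    have e5 : t⁻¹ * (t * y * t⁻¹ * d) * t = y * (t⁻¹ * d * t) := by group
    rw [e5]
    have c1 : Commute l y := hyL l hl
    have c2 : Commute l (t⁻¹ * d * t) := h.cD l hl _ hd'
    exact (c1.mul_right c2).eq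
  · obtain ⟨m, hm⟩ := MvI.ex M (hTH ht) i
    exact ⟨m, h.Ni_cj ht hm, hc.conj t ht i m hm⟩
  · intro i s hs t ht hsi hti
    have hfix : ∀ g ∈ T, Mv (Ni M ZJ L j) c g i i → MvI M g i i := by
      intro g hg hgi
      obtain ⟨m, hm⟩ := MvI.ex M (hTH hg) i
      have h1 := hc.conj g hg i m hm
      rw [hgi.2] at h1
      have h2 : i = m := by
        by_contra hne'
        have h3 := hcomm i m hne'
        have h4 := htriv m
        rw [← h1, inf_eq_left.2 h3] at h4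
        exact hne i h4
      rw [← h2] at hm
      exact hm
    have hms := hfix s hs hsi
    have hmt := hfix t ht hti
    have fin : ∀ g ∈ T, MvI M g i i → (∀ x ∈ Li M i, g * x * g⁻¹ * x⁻¹ ∈ D) → ∀ x ∈ c i, g * x = x * g := by
      intro g hg hgi h1 x hx
      have h2 : g * x * g⁻¹ ∈ c i := by
        rw [← hc.conj g hg i i hgi]
        exact ⟨x, hx, rfl⟩
      have h3 := hc.dis i _ (mul_mem h2 (inv_mem hx)) (h1 x (hc.le i hx))
      exact mul_inv_eq_iff_eq_mul.1 (mul_inv_eq_one.1 h3)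
    obtain ⟨n, hn | hn⟩ := hcyc i s hs t ht hms hmt
    · exact ⟨n, Or.inl (fin _ (mul_mem hs (pow_mem ht n))
        (hms.mul (hTH (pow_mem ht n)) (hmt.pow (hTH ht) n)) hn)⟩
    · exact ⟨n, Or.inr (fin _ (mul_mem ht (pow_mem hs n))
        (hmt.mul (hTH (pow_mem hs n)) (hms.pow (hTH hs) n)) hn)⟩

end LD

end Cfsg.Agent.Omega.OM.Lev.Low

end

section


/-!
# `YB` for a parabolic of natural type at a level

`(T, H)` with `GE T H X AA`, `BZ T X AA B ZJ`, `NatKM`.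

* `chain_line` : the stabiliser of the `i`-th summand acts on the `i`-th line as a cyclic group;
* `exists_ld` : the input `LD`;
* `exists_yb` : **`YB T ZJ N c`, and `⟨T, ..⟩`-data: `zc T ≰ N i` for some `i`.**
-/

set_option autoImplicit false
set_option linter.unusedSectionVars false

namespace Cfsg.Agent.Omega.OM.Lev.Low

open Subgroup Cfsg Cfsg.Agent.ZN Cfsg.Agent.ZN.ChoiceBase Cfsg.Agent.ZN.ChoiceSit
open Cfsg.Agent.Omega.NatPair (ap ap_zero' ap_one' ap_one ap_mul ext2 ap_inv_ap ap_inj)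
open Cfsg.Agent.Lib.SL2Mat
open Cfsg.Agent.Omega.SQ1.FFOne (MinH)
open Cfsg.Agent.Omega.NO3S.OneLine (NatC single_acts natC_of zc_elem)
open Cfsg.Agent.Omega.NO3S.OneLine.NatC (acts_mul acts_inv acts_one acts_unique)
open Cfsg.Agent.Omega.OM.Lev.Nat (Wn mem_Wn Xn mem_Xn ap_z exists_up)
open Cfsg.Agent.Omega.OM.GNat (sl2_all line_le exists_root exists_nxi)
open Cfsg.Agent.Omega.OM.GLev
open Cfsg.Agent.Omega.FFThm (NatK NatKM ActsSL)
open Cfsg.Agent.Omega.SQ1.Bau (elem_comm elem_sq)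
open Cfsg.Agent.Omega.NO3S.ThmB (Nb Fx Pf)
open Cfsg.Agent.Omega.NO3S.ThmB.Nb (Rel rel_one rel_uniq)
open Cfsg.Agent.Omega.FrameFF (cv)

universe u

variable {G : Type u} [Group G] [Finite G] {F : Type} [Field F] {T H : Subgroup G} {k : ℕ}

section nb

variable (hm : MinH H T) (N : NatKM F T H (zl T H) (cv T H) k) (hk : 0 < k)
include hm N hk

theorem nb [CharP F 2] : Nb N := by
  set M := natC_of hm hk N.toNatK with hM
  have hV2 : IsElementaryAbelian 2 (zl T H) :=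
    PLocal.OffenderStep.isElementaryAbelian_of_comm (fun x hx y hy => M.Vcomm hx hy) M.Vsq
  refine ⟨hm.syl.1, hV2, MinSimple.VModule.le_normalizer_zl T H, M.DV, fun g hg => ?_, fun g hg h1 h2 v hv => ?_⟩
  · rw [mem_normalizer_iff]
    refine fun x => ⟨M.Dn g hg x, fun hx => ?_⟩
    have h1 := M.Dn g⁻¹ (inv_mem hg) _ hx
    have e : g⁻¹ * (g * x * g⁻¹) * g⁻¹⁻¹ = x := by group
    rwa [e] at h1
  · refine M.cent_of_stab hm (x := g) ⟨hg, fun v hv i => ?_, h2⟩ hv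
    have h3 : M.nat.e (g * v * g⁻¹) = M.nat.e v := h1 v hv
    rw [h3, Pi.one_apply, ap_one]

/-- `Fx` from `MvI` -/
theorem fx_of {i : Fin k} {s : G} (hs : s ∈ T) (h : MvI (natC_of hm hk N.toNatK) s i i) : Fx N i s := by
  have hTH := hm.syl.1
  refine ⟨hTH hs, fun v hv h0 => (h v hv).2 h0, fun v hv h0 l hl => ?_, fun v hv h0 => (h.line hTH hs hv).2 h0⟩
  exact (h.Wn (hTH hs) ⟨hv, h0⟩).2 l hl

/-- **the stabiliser of the `i`-th summand acts on the line as a cyclic group** -/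
theorem chain_line [Finite F] [CharP F 2] {i : Fin k} {s t : G} (hs : s ∈ T)
    (hsm : MvI (natC_of hm hk N.toNatK) s i i) (ht : t ∈ T) (htm : MvI (natC_of hm hk N.toNatK) t i i) :
    ∃ n : ℕ, (∀ x : F, Pf N i (s * t ^ n) ![x, 0] 0 = x) ∨ ∀ x : F, Pf N i (t * s ^ n) ![x, 0] 0 = x := by
  have h := nb hm N hk
  have hTH := hm.syl.1
  set P : G → Prop := fun g => g ∈ T ∧ MvI (natC_of hm hk N.toNatK) g i i with hP
  have Pinv : ∀ {g}, P g → P g⁻¹ := fun {g} hg => ⟨inv_mem hg.1, hg.2.inv (hTH hg.1)⟩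
  have Ppow : ∀ {g}, P g → ∀ n : ℕ, P (g ^ n) := fun {g} hg n => ⟨pow_mem hg.1 n, hg.2.pow (hTH hg.1) n⟩
  have Pmul : ∀ {g g'}, P g → P g' → P (g * g') := fun {g g'} hg hg' =>
    ⟨mul_mem hg.1 hg'.1, hg.2.mul (hTH hg'.1) hg'.2⟩
  have hfx : ∀ g, P g → Fx N i g := fun g hg => fx_of hm N hk hg.1 hg.2
  have hp2 : ∀ g ∈ T, ∃ j : ℕ, g ^ 2 ^ j = 1 := fun g hg => by
    obtain ⟨j, hj⟩ := hm.syl.2.1 ⟨g, hg⟩
    exact ⟨j, by simpa only [_root_.SubmonoidClass.mk_pow, _root_.OneMemClass.coe_one] using congrArg Subtype.val hj⟩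
  have hrel : ∀ g, P g → ∃ c σ, c ≠ 0 ∧ _root_.Cfsg.Agent.Omega.NO3S.ThmB.Nb.Rel N i g c σ := fun g hg => by
    have f1 := hfx g hg
    have f2 := hfx g⁻¹ (Pinv hg)
    obtain ⟨σ, hσ⟩ := h.sem f1 f2
    refine ⟨h.hH f1 1, σ, fun e => ?_, fun x => ?_⟩
    · have := h.hH_inj f1 f2 (e.trans (map_zero _).symm)
      exact one_ne_zero this
    · rw [h.hH_eq f1, hσ]
  have hpow : ∀ g, P g → ∀ c σ, _root_.Cfsg.Agent.Omega.NO3S.ThmB.Nb.Rel N i g c σ → ∀ n : ℕ, ∃ d, _root_.Cfsg.Agent.Omega.NO3S.ThmB.Nb.Rel N i (g ^ n) d (σ ^ n) := fun g hg c σ h1 n => by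
    induction n with
    | zero => exact ⟨1, by rw [pow_zero, pow_zero]; exact rel_one⟩
    | succ n ih =>
      obtain ⟨d, hd⟩ := ih
      refine ⟨d * (σ ^ n) c, ?_⟩
      rw [pow_succ, pow_succ]
      exact h.rel_mul (hfx _ (Ppow hg n)) (hfx g hg) hd h1
  have hord : ∀ g, P g → ∀ c σ, _root_.Cfsg.Agent.Omega.NO3S.ThmB.Nb.Rel N i g c σ → ∃ j : ℕ, σ ^ 2 ^ j = 1 := fun g hg c σ h1 => by
    obtain ⟨j, hj⟩ := hp2 g hg.1
    obtain ⟨d, hd⟩ := hpow g hg c σ h1 (2 ^ j)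
    rw [hj] at hd
    exact ⟨j, (rel_uniq one_ne_zero rel_one hd).2.symm⟩
  have main : ∀ s, P s → ∀ t, P t → ∀ c σ d τ, _root_.Cfsg.Agent.Omega.NO3S.ThmB.Nb.Rel N i s c σ → _root_.Cfsg.Agent.Omega.NO3S.ThmB.Nb.Rel N i t d τ → σ ∈ zpowers τ →
      ∃ n : ℕ, ∀ x : F, Pf N i (s * t ^ n) ![x, 0] 0 = x := by
    intro s hs t ht c σ d τ h1 h2 h3
    obtain ⟨j, hj⟩ := hord t ht d τ h2
    have hfin : IsOfFinOrder τ := isOfFinOrder_iff_pow_eq_one.2 ⟨2 ^ j, Nat.pos_of_ne_zero (by positivity), hj⟩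
    have h4 : σ⁻¹ ∈ zpowers τ := inv_mem h3
    obtain ⟨n, hn⟩ := (hfin.mem_powers_iff_mem_zpowers.2 h4)
    refine ⟨n, fun x => ?_⟩
    have hn' : τ ^ n = σ⁻¹ := hn
    obtain ⟨d', hd'⟩ := hpow t ht d τ h2 n
    have h5 := h.rel_mul (hfx s hs) (hfx _ (Ppow ht n)) h1 hd'
    rw [hn', mul_inv_cancel] at h5
    have hu : P (s * t ^ n) := Pmul hs (Ppow ht n)
    obtain ⟨j', hj'⟩ := hp2 _ hu.1
    set u := s * t ^ n
    set c' := c * σ d'
    have h6 : ∀ m : ℕ, _root_.Cfsg.Agent.Omega.NO3S.ThmB.Nb.Rel N i (u ^ m) (c' ^ m) 1 := fun m => by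
      induction m with
      | zero => rw [pow_zero, pow_zero]; exact rel_one
      | succ m ih =>
        rw [pow_succ, pow_succ]
        have h7 := h.rel_mul (hfx _ (Ppow hu m)) (hfx u hu) ih h5
        rw [mul_one] at h7
        exact h7
    have h7 := h6 (2 ^ j')
    rw [hj'] at h7
    have h8 := (rel_uniq one_ne_zero rel_one h7).1
    have h9 := NO3S.ThmB.End.Auto.eq_one_of_pow h8.symm
    rw [h5 x, h9, one_mul]
    rfl
  obtain ⟨c, σ, -, h1⟩ := hrel s ⟨hs, hsm⟩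
  obtain ⟨d, τ, -, h2⟩ := hrel t ⟨ht, htm⟩
  rcases NO3S.ThmB.End.AutTwo.mem_or_mem' (hord s ⟨hs, hsm⟩ c σ h1) (hord t ⟨ht, htm⟩ d τ h2) with h3 | h3
  · obtain ⟨n, hn⟩ := main s ⟨hs, hsm⟩ t ⟨ht, htm⟩ c σ d τ h1 h2 h3
    exact ⟨n, Or.inl hn⟩
  · obtain ⟨n, hn⟩ := main t ⟨ht, htm⟩ s ⟨hs, hsm⟩ d τ c σ h2 h1 h3
    exact ⟨n, Or.inr hn⟩

/-- **the input `hcyc` of `LD.yb_aux`** -/
theorem cyc_line [Finite F] [CharP F 2] {i : Fin k} {s t : G} (hs : s ∈ T)
    (hsm : MvI (natC_of hm hk N.toNatK) s i i) (ht : t ∈ T) (htm : MvI (natC_of hm hk N.toNatK) t i i) :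
    ∃ n : ℕ, (∀ x ∈ Li (natC_of hm hk N.toNatK) i, s * t ^ n * x * (s * t ^ n)⁻¹ * x⁻¹ ∈ cv T H) ∨
        ∀ x ∈ Li (natC_of hm hk N.toNatK) i, t * s ^ n * x * (t * s ^ n)⁻¹ * x⁻¹ ∈ cv T H := by
  have h := nb hm N hk
  have hTH := hm.syl.1
  have fin : ∀ g ∈ T, MvI (natC_of hm hk N.toNatK) g i i → (∀ x : F, Pf N i g ![x, 0] 0 = x) →
      ∀ x ∈ Li (natC_of hm hk N.toNatK) i, g * x * g⁻¹ * x⁻¹ ∈ cv T H := by
    intro g hg hgi h1 x hx
    have h2 := hgi.Li hTH hg hx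
    refine Li_D (mul_mem h2 (inv_mem hx)) ?_
    rw [(natC_of hm hk N.toNatK).map_div h2.1 hx.1, Pi.sub_apply, Pi.sub_apply, sub_eq_zero]
    have h3 : N.e (g * x * g⁻¹) i = Pf N i g (N.e x i) := h.Pf_spec (fx_of hm N hk hg hgi) hx.1
    have h4 : N.e x i = ![N.e x i 0, 0] := ext2 rfl hx.2.2
    show N.e (g * x * g⁻¹) i 0 = N.e x i 0
    rw [h3, h4, h1]
    rfl
  obtain ⟨n, hn | hn⟩ := chain_line hm N hk hs hsm ht htm
  · exact ⟨n, Or.inl (fin _ (mul_mem hs (pow_mem ht n))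
      (hsm.mul (hTH (pow_mem ht n)) (htm.pow (hTH ht) n)) hn)⟩
  · exact ⟨n, Or.inr (fin _ (mul_mem ht (pow_mem hs n))
      (htm.mul (hTH (pow_mem hs n)) (hsm.pow (hTH hs) n)) hn)⟩

end nb

section inst

variable [Finite F] [CharP F 2] {X B ZJ : Subgroup G} {AA : Set (Subgroup G)}
  (h : GE T H X AA) (b : BZ T X AA B ZJ) (N : NatKM F T H (zl T H) (cv T H) k) (hk : 0 < k)
include h b N hk

/-- an element of `V ∩ Z_J` lies in the product of the lines -/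
theorem mem_line {A : Subgroup G} (hA : A ∈ AA) {j : Fin k}
    (hroot : ∀ c : F, ∃ a ∈ A, ActsSL N.e (zl T H) (cv T H) a (Pi.mulSingle j (up c)))
    (hTZ : T ≤ normalizer (ZJ : Set G)) {v : G} (hv : v ∈ zl T H) (hvZ : v ∈ ZJ) (i : Fin k) : N.e v i 1 = 0 := by
  set M := natC_of h.hm hk N.toNatK with hM
  have hTH := h.TH
  have key : ∀ w ∈ zl T H, w ∈ ZJ → N.e w j 1 = 0 := by
    intro w hw hwZ
    obtain ⟨a, ha, ha1, -⟩ := hroot 1
    have h1 := ((b.mem_ZJ w).1 hwZ).2 A hA a ha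
    have h2 := ha1 w hw j
    have h3 : a * w * a⁻¹ = w := by rw [h1]; group
    rw [h3, Pi.mulSingle_eq_same] at h2
    have h4 := congrFun h2 0
    rw [ap_zero'] at h4
    simpa using h4
  obtain ⟨t, ht, htr⟩ := N.trans i j
  have hmv : MvI M t i j := htr
  have h1 := key (t * v * t⁻¹) (M.Vn t (hTH ht) v hv) ((mem_normalizer_iff.1 (hTZ ht) v).1 hvZ)
  exact (hmv.line hTH ht hv).1 h1

/-- **The input `LD`, with the block, for a summand with a root group in a member of the family.** -/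
theorem ldb_of_root {A : Subgroup G} (hA : A ∈ AA) {j : Fin k}
    (hroot : ∀ c : F, ∃ a ∈ A, ActsSL N.e (zl T H) (cv T H) a (Pi.mulSingle j (up c))) :
    ∃ L, LD (natC_of h.hm hk N.toNatK) B ZJ L j ∧
    PB B L (Wn (natC_of h.hm hk N.toNatK) j) (Wn (natC_of h.hm hk N.toNatK) j ⊓ ZJ) (cv T H) (Nat.card F) ∧
      H ≤ T ⊔ L ∧ ∀ l ∈ L, ∃ A, (natC_of h.hm hk N.toNatK).Acts l A := by
  classical
  obtain ⟨g, M', hM'⟩ := exists_nxi h b N hk hA hroot
  obtain ⟨L, hBL, hLX, hPB, hcov⟩ := M'.exists_pb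
  set M := natC_of h.hm hk N.toNatK with hM
  have hTH := h.TH
  have hTB : T ≤ normalizer (B : Set G) := b.wn T h.hm.syl.2.1 b.BT
  have hTZ : T ≤ normalizer (ZJ : Set G) := by
    rw [← b.zcB]
    exact hTB.trans (normalizer_le_of_cj (F := zc) LemmaK.Main.zc_cj B)
  have hAB : A ≤ B := b.A_le hA (h.fam.le A hA)
  have hLH : L ≤ H := hLX.trans fun l hl => (mem_inf.1 hl).1.1
  have hLD : ∀ l ∈ L, ∀ d ∈ cv T H, l * d = d * l := fun l hl d hd =>
    (mem_centralizer_iff.1 (mem_inf.1 (hLX hl)).2 d hd).symm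
  have hmem : ∀ v ∈ zl T H, v ∈ ZJ ↔ ∀ i, M.nat.e v i 1 = 0 := fun v hv =>
    ⟨fun hvZ i => mem_line h b N hk hA hroot hTZ hv hvZ i, fun h0 => line_le h b N hk hv h0⟩
  have hrootB : ∀ c : F, ∃ b ∈ B, Ons M j b (up c) := fun c => by
    obtain ⟨a, ha, ha1⟩ := hroot c
    exact ⟨a, hAB ha, hTH (h.fam.le A hA ha), ha1⟩
  have hupM : ∀ l ∈ L, ∃ A, M.Acts l A ∧ ∀ m, m ≠ j → ∃ c, A m = up c := fun l hl =>
    (mem_Xn M).1 (mem_inf.1 (hLX hl)).1 |>.2
  refine ⟨L, ⟨h.hm, b.BT, hTB, hTZ, ?_, fun x hx z hz => b.cB hx hz, hmem, hrootB, hBL, hLH, hLD, ?_, ?_, ?_⟩,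
    hPB, GNat.le_sup h N hk hLX fun A₀ => by
      obtain ⟨l, hl, hlA⟩ := hcov A₀
      refine ⟨l, hl, fun v hv => ?_⟩
      rw [← hM', ← hM']
      exact hlA v hv, fun l hl => by
      obtain ⟨A, hA, -⟩ := hupM l hl
      exact ⟨A, hA⟩⟩
  · rw [← b.zcB]; exact zc_elem B
  · -- `cov`
    obtain ⟨l, hl, hl1⟩ := hcov (lo 1)
    obtain ⟨A0, hA0, hA0'⟩ := hupM l hl
    have hA0j : A0 j = lo 1 := by
      apply ap_inj
      intro x
      obtain ⟨v, hv, e⟩ := exists_vec M j x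
      have h1 := hl1 v hv
      rw [hM', hM'] at h1
      have h2 : N.e (l * v * l⁻¹) j = ap (A0 j) (N.e v j) := hA0 v hv.1 j
      have h3 : N.e v j = x := e
      rw [h2, h3] at h1
      exact h1
    have hmv : MvI M l j j := by
      intro v hv
      rw [hA0 v hv j]
      constructor
      · intro h1
        have h2 := congrArg (ap (A0 j)⁻¹) h1
        rwa [ap_inv_ap, ap_z] at h2
      · intro h1
        rw [h1, ap_z]
    obtain ⟨b1, hb1, hb1A⟩ := hrootB 1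
    obtain ⟨A', hA'⟩ := hb1A.conj (hLH hl) hmv
    refine sl2_all (fun A => ∃ l ∈ L, Ons M j l A) ?_ ?_ (fun c => ?_) (A₀ := A') ?_ ?_
    · rintro A1 A2 ⟨l1, hl1, h1⟩ ⟨l2, hl2, h2⟩
      exact ⟨l1 * l2, mul_mem hl1 hl2, h1.mul h2⟩
    · rintro A1 ⟨l1, hl1, h1⟩
      exact ⟨l1⁻¹, inv_mem hl1, h1.inv⟩
    · obtain ⟨b2, hb2, h2⟩ := hrootB c
      exact ⟨b2, hBL hb2, h2⟩
    · exact ⟨_, mul_mem (mul_mem hl (hBL hb1)) (inv_mem hl), hA'⟩
    · have h1 := acts_mul (M := M) (inv_mem (hLH hl)) (acts_mul (M := M) hb1A.1 hA0 hb1A.2.1)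
        (acts_inv (M := M) (hLH hl) hA0)
      have h2 := congrFun (acts_unique (M := M) hA'.2.1 h1) j
      rw [Pi.mulSingle_eq_same, Pi.mul_apply, Pi.mul_apply, Pi.inv_apply, Pi.mulSingle_eq_same, hA0j] at h2
      rw [h2, ent_mul, ent_mul, ent_mul, ent_inv]
      simp
  · -- `LW`
    intro l hl m hmj v hv
    have hvZ : v ∈ ZJ := (hmem v hv.1).2 fun i => by
      by_cases hi : i = m
      · subst hi; exact hv.2.2
      · rw [hv.2.1 i hi]; rfl
    have hD : ∀ l ∈ L, l * v * l⁻¹ * v⁻¹ ∈ cv T H := by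
      intro l hl
      obtain ⟨A0, hA0, hA0'⟩ := hupM l hl
      have h1 := M.Vn l (hLH hl) v hv.1
      refine (M.nat.ker _ (mul_mem h1 (inv_mem hv.1))).1 ?_
      rw [M.map_div h1 hv.1, sub_eq_zero]
      funext i
      rw [hA0 v hv.1 i]
      by_cases hi : i = j
      · subst hi
        rw [hv.2.1 i (Ne.symm hmj), ap_z]
      · obtain ⟨c, hc⟩ := hA0' i hi
        rw [hc]
        by_cases him : i = m
        · subst him
          apply ext2
          · rw [ap_zero', hv.2.2]; simp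
          · rw [ap_one', hv.2.2]; simp
        · rw [hv.2.1 i him, ap_z]
    obtain ⟨l0, hl0, hl0m⟩ := hPB.mv
    have h1 := hPB.gen l0 hl0 hl0m (centralizer {v}) (fun x hx => by
      rw [mem_centralizer_singleton_iff]
      exact b.cB hx hvZ) fun x hx => by
        rw [mem_centralizer_singleton_iff]
        have hd := hD l0⁻¹ (inv_mem hl0)
        rw [inv_inv] at hd
        have hdZ : l0⁻¹ * v * l0 * v⁻¹ ∈ ZJ := (hmem _ (M.DV hd)).2 fun i => by
          rw [D_e (M := M) hd]; rfl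
        have hvd : l0⁻¹ * v * l0 ∈ ZJ := by
          have := mul_mem hdZ hvZ
          rwa [inv_mul_cancel_right] at this
        have h2 := b.cB hx hvd
        have h3 := congrArg (fun y => l0 * y * l0⁻¹) h2
        simpa only [mul_assoc, _root_.mul_inv_cancel, _root_.mul_one, _root_.mul_inv_cancel_left] using h3
    exact mem_centralizer_singleton_iff.1 (h1 hl)
  · -- `split`
    intro z hz
    rw [← b.zcB] at hz
    obtain ⟨c, hc, hcL, n, hn, e⟩ := hPB.Z_split hz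
    rw [b.zcB] at hc
    refine ⟨c, hc, hcL, n, ?_, e⟩
    have h1 := (mem_inf.1 hn).1
    exact ⟨h1.1, h1.2, (hmem n h1.1).1 (mem_inf.1 hn).2 j⟩

/-- **The input `LD`, with the block.** -/
theorem exists_ldb (hex : ∃ A ∈ AA, ¬ A ≤ o2 H) : ∃ L j, LD (natC_of h.hm hk N.toNatK) B ZJ L j ∧
    PB B L (Wn (natC_of h.hm hk N.toNatK) j) (Wn (natC_of h.hm hk N.toNatK) j ⊓ ZJ) (cv T H) (Nat.card F) ∧
      H ≤ T ⊔ L := by
  obtain ⟨A, hA, hAQ⟩ := hex
  obtain ⟨j, hroot⟩ := exists_root h N hk hA hAQ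
  obtain ⟨L, h1, h2, h3, -⟩ := ldb_of_root h b N hk hA hroot
  exact ⟨L, j, h1, h2, h3⟩

/-- some member of the family contains the root group of the `i`-th summand -/
theorem root_all (hex : ∃ A ∈ AA, ¬ A ≤ o2 H) (i : Fin k) :
    ∃ A ∈ AA, ∀ c : F, ∃ a ∈ A, ActsSL N.e (zl T H) (cv T H) a (Pi.mulSingle i (up c)) := by
  classical
  obtain ⟨A, hA, hAQ⟩ := hex
  obtain ⟨j, hroot⟩ := exists_root h N hk hA hAQ
  set M := natC_of h.hm hk N.toNatK with hM
  have hTH := h.TH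
  obtain ⟨t, ht, htr⟩ := N.trans j i
  have hmv : MvI M t j i := htr
  have hAT := h.fam.le A hA
  refine ⟨cj t A, h.fam.conj A hA t (h.norm (hTH ht)) ?_, fun c => ?_⟩
  · have h1 := cj_mono t hAT
    rwa [cj_eq_of_mem_normalizer (le_normalizer ht)] at h1
  obtain ⟨u, hu, hu1⟩ := M.nat.unip (Pi.single i c)
  rw [single_acts] at hu1
  have hU : Ons M i u (up c) := ⟨hTH hu, hu1⟩
  have hmi := hmv.inv (hTH ht)
  obtain ⟨A', hA'⟩ := hU.conj (inv_mem (hTH ht)) hmi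
  obtain ⟨e1, e2⟩ := hU.line_triv hTH (inv_mem ht) hmi hA'
  have h10 : ent A' 1 0 = 0 := e1.1 (up_10 c)
  have h00 : ent A' 0 0 = 1 := (e2 (up_10 c)).1 (up_00 c)
  have hup : A' = up (ent A' 0 1) := by
    have h11 := det_eq A'
    rw [h10, h00, mul_zero, sub_zero, one_mul] at h11
    exact ext_ent (by rw [up_00, h00]) (by rw [up_01]) (by rw [up_10, h10]) (by rw [up_11, h11])
  obtain ⟨a, ha, ha1⟩ := hroot (ent A' 0 1)
  have haM : Ons M j a A' := by
    rw [hup]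
    exact ⟨hTH (hAT ha), ha1⟩
  have key : ∀ v ∈ zl T H, t * a * t⁻¹ * v * (t * a * t⁻¹)⁻¹ = u * v * u⁻¹ := by
    intro v hv
    have h3 := haM.same h.hm hA' (M.Vn t⁻¹ (inv_mem (hTH ht)) v hv)
    calc t * a * t⁻¹ * v * (t * a * t⁻¹)⁻¹ = t * (a * (t⁻¹ * v * t⁻¹⁻¹) * a⁻¹) * t⁻¹ := by group
      _ = t * (t⁻¹ * u * t⁻¹⁻¹ * (t⁻¹ * v * t⁻¹⁻¹) * (t⁻¹ * u * t⁻¹⁻¹)⁻¹) * t⁻¹ := by rw [h3]
      _ = _ := by group
  refine ⟨t * a * t⁻¹, ⟨a, ha, rfl⟩, fun v hv m => ?_, fun d hd => ?_⟩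
  · rw [key v hv]
    exact hu1.1 v hv m
  · have h1 := M.Dn t⁻¹ (inv_mem (hTH ht)) d hd
    rw [inv_inv] at h1
    have h2 := congrArg (fun x => t * x * t⁻¹) (ha1.2 _ h1)
    simpa only [mul_assoc, _root_.mul_inv_cancel, _root_.mul_one, _root_.mul_inv_cancel_left] using h2

/-- **The input `LD`, with the block, for all summands.** -/
theorem exists_ldb_all (hex : ∃ A ∈ AA, ¬ A ≤ o2 H) (i : Fin k) : ∃ L, LD (natC_of h.hm hk N.toNatK) B ZJ L i ∧
    PB B L (Wn (natC_of h.hm hk N.toNatK) i) (Wn (natC_of h.hm hk N.toNatK) i ⊓ ZJ) (cv T H) (Nat.card F) ∧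
      H ≤ T ⊔ L ∧ ∀ l ∈ L, ∃ A, (natC_of h.hm hk N.toNatK).Acts l A := by
  obtain ⟨A, hA, hroot⟩ := root_all h b N hk hex i
  exact ldb_of_root h b N hk hA hroot

/-- **The input `LD`.** -/
theorem exists_ld (hex : ∃ A ∈ AA, ¬ A ≤ o2 H) : ∃ L j, LD (natC_of h.hm hk N.toNatK) B ZJ L j ∧ H ≤ T ⊔ L := by
  obtain ⟨L, j, h1, -, h2⟩ := exists_ldb h b N hk hex
  exact ⟨L, j, h1, h2⟩

/-- **`YB` for a parabolic of natural type.** -/
theorem exists_yb (hex : ∃ A ∈ AA, ¬ A ≤ o2 H) (hZ : ¬ H ≤ centralizer (zc T : Set G)) :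
    ∃ Ni c : Fin k → Subgroup G, YB T ZJ Ni c ∧ ∃ i, ¬ zc T ≤ Ni i := by
  obtain ⟨L, j, hL, hsup⟩ := exists_ld h b N hk hex
  obtain ⟨c, hc⟩ := hL.exists_co
  have hy := hL.yb_aux hc fun i s hs t ht hsm htm => cyc_line h.hm N hk hs hsm ht htm
  refine ⟨_, c, hy, j, fun hcon => hZ (hsup.trans (sup_le ?_ ?_))⟩
  · exact le_centralizer_zc T
  · intro l hl
    rw [mem_centralizer_iff]
    intro z hz
    have h1 := (mem_Ni.1 (hcon hz)).2 1 (one_mem _) (MvI.one j) l hl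
    simp only [inv_one, one_mul, mul_one] at h1
    exact h1.symm

end inst

end Cfsg.Agent.Omega.OM.Lev.Low

end

section


/-!
# Two blocks for the same summand

* `LD.conj` : conjugation with `T`; `LD.eq2` : two blocks for the `i`-th summand centralise the same elements of `Z_J`;
* `comm_cj` : `[Wn l, K l]^t ≤ [Wn m, K m]`, `t : l → m`;
* `exists_co'` : the complements `c i ≤ [Wn i, B]`.
-/

set_option autoImplicit false
set_option linter.unusedSectionVars false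

namespace Cfsg.Agent.Omega.OM.Lev.Low

open Subgroup Cfsg Cfsg.Agent.ZN Cfsg.Agent.ZN.ChoiceBase Cfsg.Agent.ZN.ChoiceSit
open Cfsg.Agent.Omega.NatPair (ap ap_zero' ap_one' ap_one ap_mul ext2 ap_inv_ap ap_inj)
open Cfsg.Agent.Lib.SL2Mat
open Cfsg.Agent.Omega.NO3S.OneLine (NatC)
open Cfsg.Agent.Omega.NO3S.OneLine.NatC (acts_mul acts_inv acts_one acts_unique)
open Cfsg.Agent.Omega.OM.Lev.Nat (Wn mem_Wn)
open Cfsg.Agent.Omega.OM.GNat (cent_N)
open Cfsg.Agent.Omega.SQ1.Bau (elem_comm elem_sq)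
open scoped commutatorElement

universe u

variable {G : Type u} [Group G] [Finite G] {F : Type} [Field F] {T H V D : Subgroup G} {k : ℕ}
  {M : NatC F T H V D k} {B ZJ L L' : Subgroup G} {j i : Fin k}

namespace LD

/-- an element acting in the same way as `g`, `Ons M i g A` -/
theorem _root_.Cfsg.Agent.Omega.OM.Lev.Low.Ons.of_same {i : Fin k} {g g' : G}
    {A : Matrix.SpecialLinearGroup (Fin 2) F} (hg : Ons M i g A) (hg' : g' ∈ H)
    (hs : ∀ v ∈ V, g' * v * g'⁻¹ = g * v * g⁻¹) : Ons M i g' A := by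
  refine Ons.of hg' (fun v hv => by rw [hs v hv, hg.e_i hv]) (fun v hv m hm => by rw [hs v hv, hg.e_m hv hm])
    fun d hd => ?_
  have h1 := hs d (M.DV hd)
  rw [hg.2.2 d hd, mul_inv_cancel_right] at h1
  exact mul_inv_eq_iff_eq_mul.1 h1

theorem conj [CharP F 2] (h : LD M B ZJ L j) {t : G} (ht : t ∈ T) (mt : MvI M t j i) : LD M B ZJ (cj t L) i := by
  classical
  have hTH := h.TH
  have htH := hTH ht
  refine ⟨h.hm, h.BT, h.TB, h.TZ, h.el, h.cB, h.mem, fun c => h.root_i i c, ?_, ?_, ?_, ?_, ?_, ?_⟩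
  · have h1 := cj_mono t h.BL
    rwa [cj_eq_of_mem_normalizer (h.TB ht)] at h1
  · rintro _ ⟨l, hl, rfl⟩
    exact mul_mem (mul_mem htH (h.LH hl)) (inv_mem htH)
  · rintro _ ⟨l, hl, rfl⟩ d hd
    have h1 := M.Dn t⁻¹ (inv_mem htH) d hd
    rw [inv_inv] at h1
    have h2 := congrArg (fun x => t * x * t⁻¹) (h.cD l hl _ h1)
    show t * l * t⁻¹ * d = d * (t * l * t⁻¹)
    simpa only [mul_assoc, _root_.mul_inv_cancel, _root_.mul_one, _root_.mul_inv_cancel_left] using h2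
  · intro A
    obtain ⟨g, hg, hg1⟩ := M.nat.lift (Pi.mulSingle i A)
    have hgO : Ons M i g A := ⟨hg, hg1⟩
    obtain ⟨A', hA'⟩ := hgO.conj (inv_mem htH) (mt.inv htH)
    obtain ⟨l, hl, hlA⟩ := h.cov A'
    refine ⟨t * l * t⁻¹, ⟨l, hl, rfl⟩, hgO.of_same (mul_mem (mul_mem htH (h.LH hl)) (inv_mem htH)) fun v hv => ?_⟩
    have h3 := hlA.same h.hm hA' (M.Vn t⁻¹ (inv_mem htH) v hv)
    calc t * l * t⁻¹ * v * (t * l * t⁻¹)⁻¹ = t * (l * (t⁻¹ * v * t⁻¹⁻¹) * l⁻¹) * t⁻¹ := by group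
      _ = t * (t⁻¹ * g * t⁻¹⁻¹ * (t⁻¹ * v * t⁻¹⁻¹) * (t⁻¹ * g * t⁻¹⁻¹)⁻¹) * t⁻¹ := by rw [h3]
      _ = _ := by group
  · rintro _ ⟨l, hl, rfl⟩ m hm v hv
    obtain ⟨m', hm'⟩ := MvI.ex M (inv_mem htH) m
    have h1 := hm'.Li hTH (inv_mem ht) hv
    have h2 := h.LW l hl m' (fun e => by
      subst e
      have h3 := hm'.inv (inv_mem htH)
      rw [inv_inv] at h3
      exact hm (MvI.uniq h3 mt htH)) _ h1
    have h3 := congrArg (fun x => t * x * t⁻¹) h2
    show t * l * t⁻¹ * v = v * (t * l * t⁻¹)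
    simpa only [mul_assoc, _root_.inv_inv, _root_.mul_inv_cancel, _root_.mul_one, _root_.mul_inv_cancel_left] using h3
  · intro z hz
    obtain ⟨c, hc, hcL, n, hn, e⟩ := h.split _ (h.conjZ' ht hz)
    refine ⟨t * c * t⁻¹, h.conjZ ht hc, ?_, t * n * t⁻¹, mt.Li hTH ht hn, ?_⟩
    · rintro _ ⟨l, hl, rfl⟩
      have h2 := congrArg (fun x => t * x * t⁻¹) (hcL l hl)
      show t * l * t⁻¹ * (t * c * t⁻¹) = t * c * t⁻¹ * (t * l * t⁻¹)
      simpa only [mul_assoc, _root_.inv_mul_cancel_left, _root_.mul_right_inj] using h2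
    · have h2 := congrArg (fun x => t * x * t⁻¹) e
      simpa only [mul_assoc, _root_.inv_mul_cancel_left, _root_.mul_inv_cancel_left, _root_.mul_inv_cancel, _root_.mul_one] using h2

/-- **LEMMA EQ for two blocks of the `i`-th summand** -/
theorem eq2 [CharP F 2] (h : LD M B ZJ L i) (h' : LD M B ZJ L' i) {x : G} (hx : x ∈ ZJ)
    (hc : ∀ l ∈ L, l * x = x * l) : ∀ l ∈ L', l * x = x * l := by
  obtain ⟨c, hcZ, hcL, n, hn, e0⟩ := h'.split x hx
  have hnD : n ∈ D := by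
    refine Li_D hn ?_
    by_contra hne
    obtain ⟨g', hg', hgA'⟩ := h'.cov (lo 1)
    obtain ⟨g, hg, hgA⟩ := h.cov (lo 1)
    have hgg : ∀ v ∈ V, g' * v * g'⁻¹ = g * v * g⁻¹ := fun v hv => hgA'.same h.hm hgA hv
    have hgx : g * x * g⁻¹ = x := by rw [hc g hg]; group
    have hgH := h.LH hg
    have hg'H := h'.LH hg'
    set y := g' * g⁻¹ with hy
    have hyH : y ∈ H := mul_mem hg'H (inv_mem hgH)
    have hyV : ∀ v ∈ V, y * v = v * y := by
      intro v hv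
      have h3 := hgg _ (M.Vn g⁻¹ (inv_mem hgH) v hv)
      have h4 : y * v * y⁻¹ = v := by
        calc y * v * y⁻¹ = g' * (g⁻¹ * v * g⁻¹⁻¹) * g'⁻¹ := by rw [hy]; group
          _ = g * (g⁻¹ * v * g⁻¹⁻¹) * g⁻¹ := h3
          _ = v := by group
      exact mul_inv_eq_iff_eq_mul.1 h4
    set w := n⁻¹ * (g' * n * g'⁻¹) with hw
    have hgn : g' * n * g'⁻¹ ∈ V := M.Vn g' hg'H n hn.1
    have hwV : w ∈ V := mul_mem (inv_mem hn.1) hgn
    have hyx : y * x * y⁻¹ = x * w := by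
      have h3 : g' * x * g'⁻¹ = x * w := by
        rw [e0, hw]
        calc g' * (c * n) * g'⁻¹ = (g' * c) * n * g'⁻¹ := by group
          _ = (c * g') * n * g'⁻¹ := by rw [hcL g' hg']
          _ = _ := by group
      calc y * x * y⁻¹ = g' * (g⁻¹ * x * g) * g'⁻¹ := by rw [hy]; group
        _ = g' * x * g'⁻¹ := by
          have h4 : g⁻¹ * x * g = x := by
            calc g⁻¹ * x * g = g⁻¹ * (g * x * g⁻¹) * g := by rw [hgx]
              _ = x := by group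
          rw [h4]
        _ = _ := h3
    have hww : w * w = 1 := by
      have := M.Vsq w hwV
      rwa [pow_two] at this
    have hpow : ∀ m : ℕ, y ^ m * x * (y ^ m)⁻¹ = x * w ^ m := by
      intro m
      induction m with
      | zero => simp
      | succ m ih =>
        have h3 := hyV _ (pow_mem hwV m)
        calc y ^ (m + 1) * x * (y ^ (m + 1))⁻¹ = y * (y ^ m * x * (y ^ m)⁻¹) * y⁻¹ := by rw [pow_succ']; group
          _ = y * (x * w ^ m) * y⁻¹ := by rw [ih]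
          _ = (y * x * y⁻¹) * (y * w ^ m) * y⁻¹ := by group
          _ = (y * x * y⁻¹) * w ^ m := by rw [h3]; group
          _ = x * w ^ (m + 1) := by rw [hyx, pow_succ', mul_assoc]
    obtain ⟨a, m, hm1, hm2⟩ := Nat.exists_eq_two_pow_mul_odd (isOfFinOrder_of_finite y).orderOf_pos.ne'
    have hyT : y ^ m ∈ T := by
      refine h.two_norm (pow_mem hyH m) (fun v hv => ?_) (n := a) ?_
      · have c1 : Commute y v := hyV v hv
        exact (c1.pow_left m).eq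
      · rw [← pow_mul, mul_comm, ← hm2, pow_orderOf_eq_one]
    have hwm : w ^ m = w := by
      obtain ⟨r, rfl⟩ := hm1
      rw [pow_succ, pow_mul, pow_two, hww, one_pow, one_mul]
    have hwZ : w ∈ ZJ := by
      have h3 := h.conjZ hyT hx
      rw [hpow, hwm] at h3
      have h4 := mul_mem (inv_mem hx) h3
      rwa [inv_mul_cancel_left] at h4
    have h5 := (h.mem w hwV).1 hwZ i
    rw [hw, M.nat.mul _ (inv_mem hn.1) _ hgn, Pi.add_apply, Pi.add_apply, M.map_inv hn.1, Pi.neg_apply, Pi.neg_apply,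
      hgA'.e_i hn.1, ap_one', hn.2.2] at h5
    apply hne
    simpa using h5
  intro l hl
  rw [e0]
  have c1 : Commute l c := hcL l hl
  have c2 : Commute l n := h'.cD l hl n hnD
  exact (c1.mul_right c2).eq

/-- the elements of `Ni` are those centralised by any block of the `i`-th summand -/
theorem mem_Ni_iff [CharP F 2] (h : LD M B ZJ L j) (h' : LD M B ZJ L' i) {x : G} (hx : x ∈ ZJ) :
    x ∈ Ni M ZJ L j i ↔ ∀ l ∈ L', l * x = x * l := by
  obtain ⟨t, ht, htr⟩ := M.nat.trans j i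
  have mt : MvI M t j i := htr
  have hcj : (∀ l ∈ L, l * (t⁻¹ * x * t) = t⁻¹ * x * t * l) ↔ ∀ l ∈ cj t L, l * x = x * l := by
    constructor
    · rintro h1 _ ⟨l, hl, rfl⟩
      have h2 := congrArg (fun y => t * y * t⁻¹) (h1 l hl)
      show t * l * t⁻¹ * x = x * (t * l * t⁻¹)
      simpa only [mul_assoc, _root_.mul_inv_cancel, _root_.mul_one, _root_.mul_inv_cancel_left] using h2
    · intro h1 l hl
      have h2 := congrArg (fun y => t⁻¹ * y * t) (h1 (t * l * t⁻¹) ⟨l, hl, rfl⟩)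
      simpa only [mul_assoc, _root_.inv_mul_cancel_left, _root_.inv_mul_cancel, _root_.mul_one] using h2
  constructor
  · intro h1
    exact (h.conj ht mt).eq2 h' hx (hcj.1 ((mem_Ni.1 h1).2 t ht mt))
  · intro h1
    exact h.mem_Ni_of ht mt hx (hcj.2 (h'.eq2 (h.conj ht mt) hx h1))

/-- an element of a block acts on `Wn i` as an element of the block which acts only there -/
theorem exists_ons [Finite F] [CharP F 2] (h : LD M B ZJ L i) {l : G} (hl : l ∈ L) (hA : ∃ A, M.Acts l A) :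
    ∃ l' ∈ L, ∃ A, Ons M i l' A ∧ ∀ w ∈ Wn M i, l * w * l⁻¹ = l' * w * l'⁻¹ := by
  obtain ⟨A, hA⟩ := hA
  obtain ⟨l', hl', hl'A⟩ := h.cov (A i)
  refine ⟨l', hl', A i, hl'A, fun w hw => ?_⟩
  have hlH := h.LH hl
  have h1 := acts_mul (M := M) hlH (acts_inv (M := M) hl'A.1 hl'A.2.1) hA
  have h2 := cent_N M h.hm (mul_mem (inv_mem hl'A.1) hlH) h1 (fun d hd => by
    have c1 : Commute l' d := hl'A.2.2 d hd
    have c2 : Commute l d := h.cD l hl d hd
    exact (c1.inv_left.mul_left c2).eq) (i := i) (by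
      rw [Pi.mul_apply, Pi.inv_apply, Pi.mulSingle_eq_same, inv_mul_cancel]) hw.1 hw.2
  calc l * w * l⁻¹ = l' * ((l'⁻¹ * l) * w) * l⁻¹ := by group
    _ = l' * (w * (l'⁻¹ * l)) * l⁻¹ := by rw [h2]
    _ = _ := by group

/-- **the modules are permuted by `T`** -/
theorem comm_cj [Finite F] [CharP F 2] (h : LD M B ZJ L j) (hA : ∀ l ∈ L, ∃ A, M.Acts l A) (h' : LD M B ZJ L' i)
    {t : G} (ht : t ∈ T) (mt : MvI M t j i) : cj t ⁅Wn M j, L⁆ ≤ ⁅Wn M i, L'⁆ := by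
  have htH := h.TH ht
  rw [Subgroup.map_le_iff_le_comap, Subgroup.commutator_le]
  intro w hw l hl
  obtain ⟨l1, hl1, A1, hl1A, hs⟩ := h.exists_ons hl (hA l hl)
  obtain ⟨A2, hA2⟩ := hl1A.conj htH mt
  obtain ⟨l2, hl2, hl2A⟩ := h'.cov A2
  have hw' : t * w * t⁻¹ ∈ Wn M i := mt.Wn htH hw
  have hwi : w⁻¹ ∈ Wn M j := inv_mem hw
  show t * ⁅w, l⁆ * t⁻¹ ∈ ⁅Wn M i, L'⁆
  have e1 : t * ⁅w, l⁆ * t⁻¹ = ⁅t * w * t⁻¹, l2⁆ := by
    rw [commutatorElement_def, commutatorElement_def]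
    have h3 := hl2A.same h.hm hA2 (inv_mem hw').1
    have h4 := hs _ hwi
    calc t * (w * l * w⁻¹ * l⁻¹) * t⁻¹ = t * w * (l * w⁻¹ * l⁻¹) * t⁻¹ := by group
      _ = t * w * (l1 * w⁻¹ * l1⁻¹) * t⁻¹ := by rw [h4]
      _ = (t * w * t⁻¹) * (t * l1 * t⁻¹ * (t * w * t⁻¹)⁻¹ * (t * l1 * t⁻¹)⁻¹) := by group
      _ = (t * w * t⁻¹) * (l2 * (t * w * t⁻¹)⁻¹ * l2⁻¹) := by rw [h3]
      _ = _ := by group
  rw [e1]
  exact commutator_mem_commutator hw' hl2

/-- every element of the preimage of the line is in `[Wn, B] D` -/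
theorem Li_split [CharP F 2] (h : LD M B ZJ L j) {v : G} (hv : v ∈ Li M i) :
    ∃ b ∈ B, ∃ a, Ons M i b (up a) ∧ ∃ w ∈ Wn M i, ∃ d ∈ D, v = ⁅w, b⁆ * d := by
  obtain ⟨b, hb, hbA⟩ := h.root_i i (M.nat.e v i 0)
  obtain ⟨w, hw, e0⟩ := exists_vec M i ![0, 1]
  refine ⟨b, hb, _, hbA, w, hw, ⁅w, b⁆⁻¹ * v, ?_, by group⟩
  have hbw := M.Vn b hbA.1 w⁻¹ (inv_mem hw.1)
  have e1 : ⁅w, b⁆ = w * (b * w⁻¹ * b⁻¹) := by rw [commutatorElement_def]; group
  have hcV : ⁅w, b⁆ ∈ V := by rw [e1]; exact mul_mem hw.1 hbw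
  have hci : ∀ m, M.nat.e ⁅w, b⁆ m = M.nat.e w m + M.nat.e (b * w⁻¹ * b⁻¹) m := fun m => by
    rw [e1, M.nat.mul _ hw.1 _ hbw, Pi.add_apply]
  have hwi := inv_mem hw.1
  have hL : ⁅w, b⁆ ∈ Li M i := by
    refine ⟨hcV, fun m hm => ?_, ?_⟩
    · rw [hci, hbA.e_m hwi hm, M.map_inv hw.1, Pi.neg_apply, add_neg_cancel]
    · rw [hci, Pi.add_apply, hbA.e_i hwi, ap_one', M.map_inv hw.1, Pi.neg_apply, e0]
      simp
  refine Li_D (mul_mem (inv_mem hL) hv) ?_
  rw [M.nat.mul _ (inv_mem hcV) _ hv.1, Pi.add_apply, Pi.add_apply, M.map_inv hcV, Pi.neg_apply, Pi.neg_apply, hci,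
    Pi.add_apply, hbA.e_i hwi, ap_zero', M.map_inv hw.1, Pi.neg_apply, e0]
  simp [CharTwo.add_self_eq_zero]

/-- `[Li, l] ≤ [Wn, B]` for a torus element `l` -/
theorem Cl_le_comm [CharP F 2] (h : LD M B ZJ L j) {l : G} (hl : Tor M i l) : Cl M i l hl.memH ≤ ⁅Wn M i, B⁆ := by
  rintro _ ⟨v, hv, rfl⟩
  obtain ⟨b, hb, a, hbA, w, hw, d, hd, rfl⟩ := h.Li_split (i := i) hv
  obtain ⟨A, hA, h0, h1⟩ := hl
  have hlH := hA.1
  have hwi := inv_mem hw.1
  have hlw : l * w * l⁻¹ ∈ Wn M i := ⟨M.Vn l hlH w hw.1, fun m hm => by rw [hA.e_m hw.1 hm, hw.2 m hm]⟩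
  -- `l b l⁻¹`
  have hlb := (hA.mul hbA).mul hA.inv
  have hup : A * up a * A⁻¹ = up (ent (A * up a * A⁻¹) 0 1) := by
    have t1 : ent (A * up a * A⁻¹) 1 0 = 0 := by
      obtain ⟨s1, s2⟩ := mul_tri h0 (up_10 a)
      exact (mul_tri s1 (inv_tri h0)).1
    have t2 : ent (A * up a * A⁻¹) 0 0 = 1 := by
      obtain ⟨s1, s2⟩ := mul_tri h0 (up_10 a)
      rw [(mul_tri s1 (inv_tri h0)).2, s2, up_00, mul_one, inv_00]
      exact tri_det h0
    have h11 := det_eq (A * up a * A⁻¹)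
    rw [t1, t2, mul_zero, sub_zero, one_mul] at h11
    exact ext_ent (by rw [up_00, t2]) (by rw [up_01]) (by rw [up_10, t1]) (by rw [up_11, h11])
  obtain ⟨b', hb', hb'A⟩ := h.root_i i (ent (A * up a * A⁻¹) 0 1)
  rw [← hup] at hb'A
  have h3 := hlb.same h.hm hb'A (M.Vn l hlH w⁻¹ hwi)
  have hu : l * ⁅w, b⁆ * l⁻¹ = ⁅l * w * l⁻¹, b'⁆ := by
    rw [commutatorElement_def, commutatorElement_def]
    calc l * (w * b * w⁻¹ * b⁻¹) * l⁻¹ =
        (l * w * l⁻¹) * (l * b * l⁻¹ * (l * w⁻¹ * l⁻¹) * (l * b * l⁻¹)⁻¹) := by group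
      _ = (l * w * l⁻¹) * (b' * (l * w⁻¹ * l⁻¹) * b'⁻¹) := by rw [h3]
      _ = _ := by group
  have hld : l * d * l⁻¹ = d := by rw [hA.2.2 d hd]; group
  have e : l * (⁅w, b⁆ * d) * l⁻¹ * (⁅w, b⁆ * d)⁻¹ = ⁅l * w * l⁻¹, b'⁆ * ⁅w, b⁆⁻¹ := by
    calc l * (⁅w, b⁆ * d) * l⁻¹ * (⁅w, b⁆ * d)⁻¹ = l * ⁅w, b⁆ * l⁻¹ * (l * d * l⁻¹) * d⁻¹ * ⁅w, b⁆⁻¹ := by group
      _ = _ := by rw [hld, hu]; group
  rw [e]
  exact mul_mem (commutator_mem_commutator hlw hb') (inv_mem (commutator_mem_commutator hw hb))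

/-- **complements inside `[Wn, B]`** -/
theorem exists_co' [Finite F] [CharP F 2] (h : LD M B ZJ L j) : ∃ c, Co M c ∧ ∀ i, c i ≤ ⁅Wn M i, B⁆ := by
  by_cases hF : ∀ x : F, x = 0 ∨ x = 1
  · refine ⟨_, h.co_two hF, fun i => ?_⟩
    rw [closure_le]
    rintro _ ⟨b, hb, w, hw, rfl⟩
    have h1 := inv_mem (commutator_mem_commutator (inv_mem (inv_mem hw)) hb)
    have e : ⁅w⁻¹⁻¹, b⁆⁻¹ = b * w * b⁻¹ * w⁻¹ := by rw [commutatorElement_def]; group
    rw [e] at h1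
    exact h1
  · push Not at hF
    obtain ⟨a, ha0, ha1⟩ := hF
    exact ⟨_, h.co_tor ha0 ha1, fun i => iSup_le fun l => iSup_le fun hl => h.Cl_le_comm hl⟩

/-- `[Wn l, B]` is in `Ni m`, `l ≠ m` -/
theorem comm_Ni [Finite F] [CharP F 2] (h : LD M B ZJ L j) {l m : Fin k} (hlm : l ≠ m) {v : G} (hv : v ∈ Li M l) :
    v ∈ Ni M ZJ L j m := by
  obtain ⟨t, ht, htr⟩ := M.nat.trans j m
  have mt : MvI M t j m := htr
  refine h.mem_Ni_of ht mt (h.LiZ l hv) fun l' hl' => ?_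
  obtain ⟨i', hi'⟩ := MvI.ex M (inv_mem (h.TH ht)) l
  have h2 : t⁻¹ * v * t ∈ Li M i' := by
    have := hi'.Li h.TH (inv_mem ht) hv
    rwa [inv_inv] at this
  refine h.LW l' hl' i' (fun e => hlm ?_) _ h2
  subst e
  have h3 := hi'.inv (inv_mem (h.TH ht))
  rw [inv_inv] at h3
  exact MvI.uniq h3 mt (h.TH ht)

end LD

end Cfsg.Agent.Omega.OM.Lev.Low

end
end

-- part: Mrg/Omega/OM/Lev/Low/LowMain
section
-- merged: Cfsg.Agent.Mrg.Omega.OM.Lev.Low.YSym
section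

/-!
# TEXT LL (helper584 #20624) (P1), symmetric type: the blocks of a parabolic `H` over `T` acting on `Z_J`

* `yb` : `SIn.In` with a `T`-equivariant choice of minimal blocks `K i` gives `YB T Z (C(K i)) ⟨d i⟩`;
* `exists_blks` : the `T`-equivariant blocks of a general pair `(T, H)` of symmetric type (`GE`, `BZ`, `SymKM`):
  `PB B (K i) (N i) ⟨d i⟩ 1 2`, `K i ≤ H`, `H = ⟨T, K i⟩`, `T` permutes the `(K i, N i, d i)` transitively;
* `exists_yb` : and `YB T Z_J (C(K i)) ⟨d i⟩`.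
-/

set_option autoImplicit false
set_option linter.unusedSectionVars false

namespace Cfsg.Agent.Omega.OM.Lev.Low.YSym

open Subgroup Cfsg Cfsg.Agent.ZN Cfsg.Agent.ZN.ChoiceBase
open Cfsg.Agent.Omega.SQ1.Bau (elem_comm elem_sq)
open Cfsg.Agent.Omega.SQ1.BauS (Sim PermR)
open Cfsg.Agent.Omega.OM.Lev.SIn
open Cfsg.Agent.Omega.OM.Lev.SIn.Blk (mem_zp)
open Cfsg.Agent.Omega.OM.Lev.Low
open Cfsg.Agent.Omega.OM.GLev
open Cfsg.Agent.Omega.FFThm (SymKM)
open Cfsg.Agent.Omega.FrameFF (cv)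
open Cfsg.Agent.Omega.LemmaK (WeakNormal)

universe u w

section blk

variable {G : Type u} [Group G] [Finite G] {H T Q V J Z : Subgroup G} {ι : Type w} {N K : ι → Subgroup G}
  {d t r : ι → G}

/-- `K j` centralises `d i`, `i ≠ j`. -/
theorem cross (h : In H T Q V J Z N d t r) {i j : ι} (hij : i ≠ j) {L : Subgroup G} (k : Blk H T V Z d r j L) {l : G}
    (hl : l ∈ L) : l * d i = d i * l := by
  have h1 : PP H T V Z (r j) ≤ centralizer ({d i} : Set G) := by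
    have key : ∀ y : G, y * d i * y⁻¹ = d i → y ∈ centralizer ({d i} : Set G) := by
      intro y hy
      rw [mem_centralizer_singleton_iff]
      exact mul_inv_eq_iff_eq_mul.1 hy
    refine sup_le (sup_le (fun b hb => key b ((h.EE_good (h.bau_EE hb)).fixd i)) ?_) ?_
    · rw [zpowers_le]
      exact key _ (h.r_d' (Ne.symm hij))
    · rintro c ⟨hc, hc'⟩
      refine key c ?_
      rw [← mem_centralizer_iff.1 hc' _ (h.dV i)]; group
  exact mem_centralizer_singleton_iff.1 (h1 (k.LP hl))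

/-- an element of `zpowers (d i)` centralised by `K i` is trivial -/
theorem cent_one (h : In H T Q V J Z N d t r) {i : ι} {L : Subgroup G} (k : Blk H T V Z d r i L) {x : G}
    (hx : x ∈ zpowers (d i)) (hc : ∀ l ∈ L, l * x = x * l) : x = 1 := by
  rcases mem_zp h hx with h1 | h1
  · exact h1
  · exfalso
    obtain ⟨l, hl, hm⟩ := k.mv
    apply hm
    have h2 := hc l hl
    rw [h1] at h2
    rw [h2, mul_inv_cancel_right]

/-- `z` or `d i z` is centralised by `K i`. -/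
theorem split (h : In H T Q V J Z N d t r) {i : ι} {L : Subgroup G} (k : Blk H T V Z d r i L) {z : G} (hz : z ∈ Z) :
    ∃ a ∈ zpowers (d i), ∀ l ∈ L, l * (a * z) = a * z * l := by
  obtain ⟨l, hl, hm⟩ := k.mv
  rcases k.Z_split h hl hm hz with h1 | h1
  · refine ⟨1, one_mem _, fun x hx => ?_⟩
    rw [one_mul]
    exact k.cent_of h hl hm hz h1 x hx
  · exact ⟨d i, mem_zpowers _, k.cent_of h hl hm (mul_mem (h.d_mem_Z i) hz) h1⟩

/-- **The blocks on `Z`.** -/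
theorem yb (h : In H T Q V J Z N d t r) (hK : ∀ i, Blk H T V Z d r i (K i))
    (hc : ∀ x ∈ T, ∀ i j, x * d i * x⁻¹ = d j → cj x (K i) = K j) :
    YB T Z (fun i => centralizer (K i : Set G)) (fun i => zpowers (d i)) where
  ab := h.Zcomm
  sq := h.Zsq
  norm := fun x hx => mem_normalizer_of_cj_le (by
    rintro _ ⟨z, hz, rfl⟩
    exact h.Zn x hx z hz)
  cX := fun i => zpowers_le.2 (h.d_mem_Z i)
  ne := fun i e => h.d1 i (mem_bot.1 (e ▸ mem_zpowers (d i)))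
  fix := fun i z hz => by
    obtain ⟨a, ha, hac⟩ := split h (hK i) hz
    exact ⟨a, ha, mem_centralizer_iff.2 hac⟩
  triv := fun i => by
    rw [eq_bot_iff]
    rintro x ⟨hx, hxc⟩
    exact mem_bot.2 (cent_one h (hK i) hx (mem_centralizer_iff.1 hxc))
  comm := fun i j hij => by
    rw [zpowers_le, mem_centralizer_iff]
    exact fun l hl => cross h hij (hK j) hl
  perm := by
    intro x hx i
    obtain ⟨j, hj, -⟩ := h.perm x hx i
    refine ⟨j, ?_, ?_⟩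
    · show cj x (centralizer (K i : Set G)) = centralizer (K j : Set G)
      rw [cj_centralizer, hc x hx i j hj]
    · show cj x (zpowers (d i)) = zpowers (d j)
      rw [cj, MonoidHom.map_zpowers]
      change zpowers (x * d i * x⁻¹) = _
      rw [hj]
  cyc := by
    intro i s _ x _ hs _
    refine ⟨0, Or.inl fun y hy => ?_⟩
    rw [pow_zero, mul_one]
    rcases mem_zp h hy with h1 | h1
    · rw [h1, mul_one, one_mul]
    · have h2 : s * d i * s⁻¹ ∈ zpowers (d i) := by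
        have h3 : cj s (zpowers (d i)) = zpowers (d i) := hs.2
        rw [← h3]
        exact ⟨d i, mem_zpowers _, rfl⟩
      rcases mem_zp h h2 with h3 | h3
      · exfalso
        apply h.d1 i
        calc d i = s⁻¹ * (s * d i * s⁻¹) * s := by group
          _ = 1 := by rw [h3]; group
      · rw [h1]
        exact mul_inv_eq_iff_eq_mul.1 h3

end blk

section main

variable {G : Type u} [Group G] [Finite G] {T H X B ZJ : Subgroup G} {AA : Set (Subgroup G)} {k m : ℕ}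

/-- **The `T`-equivariant blocks of a pair `(T, H)` of symmetric type.** -/
theorem exists_blks (h : GE T H X AA) (b : BZ T X AA B ZJ) (N : SymKM T H (zl T H) (cv T H) k m) (hk : 0 < k)
    (hm : 1 ≤ m) (hex : ∃ A ∈ AA, ¬ A ≤ o2 H) :
    ∃ (ι : Type) (_ : Finite ι) (_ : Nonempty ι) (W K : ι → Subgroup G) (d t r : ι → G),
      In H T (o2 H) (zl T H) (sSup AA) ZJ W d t r ∧ PermR T (zl T H) d r ∧
      (∀ i, Blk H T (zl T H) ZJ d r i (K i)) ∧
      (∀ x ∈ T, ∀ i j, x * d i * x⁻¹ = d j → cj x (K i) = K j) ∧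
      (∀ i, PB B (K i) (W i) (zpowers (d i)) ⊥ 2) ∧ (∀ i, K i ≤ H) ∧ ∀ i, H ≤ T ⊔ K i := by
  have h0 := Lev.Sym.syL_gen (Jg := sSup AA) h.hm hk hm N SQ1.FFOf.cv_le SQ1.FFOf.cv_norm h.fam.le
    (fun A hA hAQ => h.offM hA hAQ) hex (sSup_le h.fam.le) (GSym.T_norm_AA h) (fun A hA => le_sSup hA) le_sup_left
  obtain ⟨ι, J, U, Y, t, r, c⟩ := h0.exists_ch
  obtain ⟨j, x, y, hTr⟩ := h0.exists_tr
  obtain ⟨i, -⟩ := c.ex j x y hTr
  have hin := GSym.in_of h b i (c.main h0 Cfsg.Agent.Omega.SQ1.SymCyc.exists_pow)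
  have hp := c.permR h0
  obtain ⟨K, hK, hKc⟩ := hin.exists_blks hp
  have hB : BB T ZJ = B := b.eqB.symm
  have hw : WeakNormal 2 (BB T ZJ) := by
    rw [hB]
    exact fun R hR hBR => b.wn R hR hBR
  refine ⟨ι, hin.finite_index, ⟨i⟩, _, K, _, t, r, hin, hp, hK, hKc, fun j => ?_, fun j => (hK j).LH hin, fun j =>
    (hK j).sup_T hin le_sup_left le_sup_right⟩
  have hpb := GSym.pb hin (by rw [hB]; exact b.zcB) hw (hK j)
  rwa [hB] at hpb

/-- **(P1), symmetric type.** -/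
theorem exists_yb (h : GE T H X AA) (b : BZ T X AA B ZJ) (N : SymKM T H (zl T H) (cv T H) k m) (hk : 0 < k)
    (hm : 1 ≤ m) (hex : ∃ A ∈ AA, ¬ A ≤ o2 H) :
    ∃ (ι : Type) (_ : Finite ι) (_ : Nonempty ι) (W K : ι → Subgroup G) (d : ι → G),
      YB T ZJ (fun i => centralizer (K i : Set G)) (fun i => zpowers (d i)) ∧
      (∀ x ∈ T, ∀ i, ∃ j, x * d i * x⁻¹ = d j ∧ cj x (K i) = K j ∧ cj x (W i) = W j) ∧
      (∀ i j, ∃ x ∈ T, x * d i * x⁻¹ = d j) ∧ (∀ i, d i ≠ 1) ∧ (∀ i, Nat.card (W i) = 4) ∧ (∀ i, W i ≤ zl T H) ∧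
      (∀ i, PB B (K i) (W i) (zpowers (d i)) ⊥ 2) ∧ (∀ i, K i ≤ H) ∧ ∀ i, H ≤ T ⊔ K i := by
  obtain ⟨ι, hf, hne, W, K, d, t, r, hin, hp, hK, hKc, hpb, hKH, hT⟩ := exists_blks h b N hk hm hex
  refine ⟨ι, hf, hne, W, K, d, yb hin hK hKc, fun x hx i => ?_, hin.trans, hin.d1, hin.cardN, hin.NV, hpb, hKH, hT⟩
  obtain ⟨j, hj, hjN⟩ := hin.perm x hx i
  refine ⟨j, hj, hKc x hx i j hj, ?_⟩
  refine Subgroup.eq_of_le_of_card_ge ?_ (by rw [card_cj, hin.cardN, hin.cardN])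
  rintro _ ⟨v, hv, rfl⟩
  exact hjN v hv

end main

end Cfsg.Agent.Omega.OM.Lev.Low.YSym

end

-- merged: Cfsg.Agent.Mrg.Omega.OM.Lev.Low.LowMain
section

section


/-!
# (LL): minimal parabolics of lower stage

`(T, Y)` : `T ≥ B = C_S(Ω₁Z(lev S (n+1)))` a Sylow 2-subgroup of the minimal parabolic `Y` of characteristic 2.

* `exists_stg` : the stage `j ≤ n` of a `Y` with `lev S n ≰ O₂(Y)`;
* `exists_ybj` : `YB` on `Ω₁Z(lev S j)` for the stage `j`, `zc T ≰ N i` for some `i`;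
* `qv` : `QV T (Ω₁Z(lev S j)) (O₂(P)) V_P` for every 2-group `T ≥ B`, `j ≤ n`;
* `low_four` : `q > 2`: if `Y` moves `Ω₁Z(T)`, then `lev S n ≤ O₂(Y)`;
* `bg_four` : **`q > 2`: `BG S n 𝓑` for every family of subgroups which contains the FF-blocks over `B`.**
-/

set_option autoImplicit false
set_option linter.unusedSectionVars false

namespace Cfsg.Agent.Omega.OM.Lev.Low

open Subgroup Cfsg Cfsg.Agent.ZN.ChoiceBase Cfsg.Agent.ZN.ChoiceSit
open Cfsg.Agent.ZN (jj zj bau zc zl o2)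
open Cfsg.Agent.MinSimple.MinParabolic (IsMinPar)
open Cfsg.Agent.Omega.FFThm (NatKM SymKM OffM NoOverM ElemM)
open Cfsg.Agent.Omega.FrameFF (cv)
open Cfsg.Agent.Omega.OM.LevB (lb zc_B nxt_lev isLev_T bz_lev)
open Cfsg.Agent.Omega.OM.GLev
open Cfsg.Agent.Omega.OM.Lev.Uni (FrL)
open Cfsg.Agent.Omega.OM.SwapL (Ln ZL BG)
open Cfsg.Agent.Omega.NO3S.Level (lev lev_mono lev_isLev Lev BO nxt lev_le_succ lev_le)

universe u

variable {G : Type u} [Group G] [Finite G]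

/-- `B` of the stage `j` is contained in `B` of the stage `n ≥ j` -/
theorem BL_mono (S : Subgroup G) {j n : ℕ} (h : j ≤ n) : LevB.BL S j ≤ LevB.BL S n := by
  refine inf_le_inf_left _ (centralizer_le ?_)
  exact_mod_cast (lev_isLev S j).zc_le_zc (lev_mono S h) (lev_le S n)

/-- the stage -/
theorem exists_stg (S : Subgroup G) {Y : Subgroup G} {n : ℕ} (h : ¬ lev S n ≤ o2 Y) :
    ∃ j ≤ n, (∀ i < j, lev S i ≤ o2 Y) ∧ ¬ lev S j ≤ o2 Y := by
  classical
  have hex : ∃ j, ¬ lev S j ≤ o2 Y := ⟨n, h⟩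
  refine ⟨Nat.find hex, Nat.find_min' hex h, fun i hi => ?_, Nat.find_spec hex⟩
  by_contra hcon
  exact Nat.find_min hex hi hcon

/-- **`YB` at the stage of `Y`.** -/
theorem exists_ybj (S : Sylow 2 G) {T Y : Subgroup G} {j : ℕ} (hT : Syl T Y) (hB : LevB.BL (S : Subgroup G) j ≤ T)
    (hP : IsMinPar T Y) (hc : Y ⊓ centralizer (o2 Y : Set G) ≤ o2 Y)
    (hlow : ∀ i < j, lev (S : Subgroup G) i ≤ o2 Y) (hn : ¬ lev (S : Subgroup G) j ≤ o2 Y)
    (hZ : ¬ Y ≤ centralizer (zc T : Set G)) :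
    ∃ (Λ : Type) (_ : Finite Λ) (N c : Λ → Subgroup G), YB T (zc (lev (S : Subgroup G) j)) N c ∧
      ∃ l, ¬ zc T ≤ N l := by
  obtain ⟨X, AA', hge, hbz, hex, hcon⟩ := exists_ge S hT hB hP hc hlow hn hZ
  rcases hcon with ⟨F, _, _, _, k, hk, ⟨N⟩⟩ | ⟨k, m, hk, hm, ⟨N⟩⟩
  · obtain ⟨Ni, c, hy, i, hi⟩ := exists_yb hge hbz N hk hex hZ
    exact ⟨Fin k, inferInstance, Ni, c, hy, i, hi⟩
  · obtain ⟨ι, hf, ⟨i⟩, W, K, d, hy, -, -, -, -, -, -, -, hsup⟩ := YSym.exists_yb hge hbz N hk (by omega) hex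
    refine ⟨ι, hf, _, _, hy, i, fun hle => hZ ((hsup i).trans (sup_le ?_ ?_))⟩
    · exact NO3S.Level.le_centralizer_zc T
    · exact le_centralizer_iff.1 hle

section line

variable {ι : Type} [Finite ι] {S : Sylow 2 G} {P : Subgroup G} {n : ℕ} {L W Z C A : ι → Subgroup G} {q : ℕ}

/-- **`QV`** -/
theorem qv (h : Ln S P n L W Z C A q) {T : Subgroup G} (hT : IsPGroup 2 T)
    (hB : SwapL.BL (S : Subgroup G) n ≤ T) {j : ℕ} (hj : j ≤ n) :
    YB.QV T (zc (lev (S : Subgroup G) j)) (o2 P) (zl (S : Subgroup G) P) where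
  QT := h.fr.QB.trans hB
  TQ := by
    intro t ht
    have h1 := (SwapL.lb S n).two_le hT hB ht
    have h2 := SwapL.two_norm h hT hB ht
    have e : o2 P = SwapL.BL (S : Subgroup G) n ⊓ centralizer (zl (S : Subgroup G) P : Set G) := by
      ext x
      rw [mem_inf, mem_centralizer_iff]
      constructor
      · intro hx
        exact ⟨h.fr.QB hx, fun v hv => ((h.fr.mem_Q x (h.fr.QB hx)).1 hx v hv).symm⟩
      · rintro ⟨hx, hx'⟩
        exact (h.fr.mem_Q x hx).2 fun v hv => (hx' v hv).symm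
    rw [mem_normalizer_iff_cj, e, cj_inf, cj_centralizer, cj_eq_of_mem_normalizer h1, cj_eq_of_mem_normalizer h2]
  mem := by
    intro x
    have hVX : zl (S : Subgroup G) P ≤ zc (lev (S : Subgroup G) j) :=
      h.fr.VX.trans ((lev_isLev (S : Subgroup G) j).zc_le_zc (lev_mono _ hj) (lev_le _ n))
    constructor
    · exact fun hx => ⟨hVX hx, fun q hq => (h.fr.mem_Q q (h.fr.QB hq)).1 hq x hx⟩
    · rintro ⟨hx, hxQ⟩
      have h1 : x ∈ (S : Subgroup G) := lev_le _ j (mem_zc.1 hx).1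
      have h2 : x ∈ P := h.hyp.syl.1 h1
      have h3 : x ∈ o2 P := h.hyp.star.isLoc.char2 S h.hyp.ctx.char2 ⟨h2, mem_centralizer_iff.2 hxQ⟩
      exact h.fr.zcQ x h3 (mem_zc.1 hx).2.1 fun y hy => (hxQ y hy).symm
  two := hT

/-- `Ω₁Z(T) ≤ Z_J` -/
theorem zc_T_le (S : Sylow 2 G) {T : Subgroup G} (hT : IsPGroup 2 T) {n : ℕ}
    (hB : SwapL.BL (S : Subgroup G) n ≤ T) : zc T ≤ ZL (S : Subgroup G) n := by
  have h1 := isLev_T S hT ((SwapL.lb S n).KB.trans hB)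
  exact h1.zc_le

/-- **(LL), `q > 2`.** -/
theorem low_four (h : Ln S P n L W Z C A q) (hq : 2 < q) {T Y : Subgroup G} (hT : Syl T Y)
    (hB : SwapL.BL (S : Subgroup G) n ≤ T) (hP : IsMinPar T Y) (hc : Y ⊓ centralizer (o2 Y : Set G) ≤ o2 Y)
    (hZ : ¬ Y ≤ centralizer (zc T : Set G)) : lev (S : Subgroup G) n ≤ o2 Y := by
  by_contra hn
  obtain ⟨j, hj, hlow, hnj⟩ := exists_stg (S : Subgroup G) hn
  have hBj : LevB.BL (S : Subgroup G) j ≤ T := (BL_mono (S : Subgroup G) (by omega : j ≤ n + 1)).trans hB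
  obtain ⟨Λ, _, N, c, hy, l, hl⟩ := exists_ybj S hT hBj hP hc hlow hnj hZ
  have h1 := no_low h.fr hq hy (qv h hT.2.1 hB hj) hB l
  exact hl ((zc_T_le S hT.2.1 hB).trans h1)

/-- **`BG` at stage `n`, `q > 2`.** -/
theorem bg_four (h : Ln S P n L W Z C A q) (hq : 2 < q) {𝓑 : Subgroup G → Subgroup G → Prop}
    (h𝓑 : ∀ L' V', LevB.FBlk (SwapL.BL (S : Subgroup G) n) L' V' → 𝓑 L' V') : BG S n 𝓑 := by
  intro T Y hT hB hP hc hn1 hZ
  have hK := low_four h hq hT hB hP hc hZ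
  obtain ⟨L', V', -, hF, hsup⟩ := LevB.exists_fblk S hT hB hP hc hK hn1 hZ
  exact hsup.trans (sup_le le_sup_right (le_sup_of_le_left (LevD.blk_le_K0 (h𝓑 _ _ hF))))

end line

end Cfsg.Agent.Omega.OM.Lev.Low

end

section


/-!
# (LL) for subgroups which centralise an element of `Z_J` with full support, `q = 2`

* `exists_ybc` : 584's `exists_ybj`, and the elements of `X` centralised by `Y` lie in all `N l`;
* `low_full` : `Y` moves `Ω₁Z(T)` and centralises `η ∈ Z_J` with full support: `lev S n ≤ O₂(Y)`;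
* `no_blk` : no FF-block over `B` centralises `η`.
-/

set_option autoImplicit false
set_option linter.unusedSectionVars false

namespace Cfsg.Agent.Omega.OM.YTwo

open Subgroup Cfsg Cfsg.Agent.ZN.ChoiceBase Cfsg.Agent.ZN.ChoiceSit
open Cfsg.Agent.ZN (jj zj bau zc zl o2)
open Cfsg.Agent.MinSimple.MinParabolic (IsMinPar)
open Cfsg.Agent.Omega.NO3S.Level (lev lev_isLev le_centralizer_zc)
open Cfsg.Agent.Omega.OM.Lev.Low
open Cfsg.Agent.Omega.OM.Lev.Uni (FrL)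
open Cfsg.Agent.Omega.OM.LevB (FBlk)
open Cfsg.Agent.Omega.OM.SwapL (Ln ZL)

universe u

variable {G : Type u} [Group G] [Finite G]

/-- **`YB` at the stage of `Y`**; the elements of `X` centralised by `Y` lie in all `N l`. -/
theorem exists_ybc (S : Sylow 2 G) {T Y : Subgroup G} {j : ℕ} (hT : Syl T Y) (hB : LevB.BL (S : Subgroup G) j ≤ T)
    (hP : IsMinPar T Y) (hc : Y ⊓ centralizer (o2 Y : Set G) ≤ o2 Y)
    (hlow : ∀ i < j, lev (S : Subgroup G) i ≤ o2 Y) (hn : ¬ lev (S : Subgroup G) j ≤ o2 Y)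
    (hZ : ¬ Y ≤ centralizer (zc T : Set G)) :
    ∃ (Λ : Type) (_ : Finite Λ) (N c : Λ → Subgroup G), YB T (zc (lev (S : Subgroup G) j)) N c ∧
      (∃ l, ¬ zc T ≤ N l) ∧ ∀ x ∈ zc (lev (S : Subgroup G) j), (∀ y ∈ Y, y * x = x * y) → ∀ l, x ∈ N l := by
  obtain ⟨X, AA', hge, hbz, hex, hcon⟩ := exists_ge S hT hB hP hc hlow hn hZ
  rcases hcon with ⟨F, _, _, _, k, hk, ⟨N⟩⟩ | ⟨k, m, hk, hm, ⟨N⟩⟩
  · obtain ⟨L, j, hL, hsup⟩ := exists_ld hge hbz N hk hex
    obtain ⟨c, hc⟩ := hL.exists_co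
    have hy := hL.yb_aux hc fun i s hs t ht hsm htm => cyc_line hge.hm N hk hs hsm ht htm
    refine ⟨Fin k, inferInstance, _, c, hy, ⟨j, fun hcon => hZ (hsup.trans (sup_le ?_ ?_))⟩, fun x hx hxY l => ?_⟩
    · exact le_centralizer_zc T
    · intro l hl
      rw [mem_centralizer_iff]
      intro z hz
      have h1 := (mem_Ni.1 (hcon hz)).2 1 (one_mem _) (MvI.one j) l hl
      simp only [inv_one, one_mul, mul_one] at h1
      exact h1.symm
    · refine mem_Ni.2 ⟨hx, fun t ht _ l hl => ?_⟩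
      have h1 : t⁻¹ * x * t = x := by
        rw [mul_assoc, ← hxY t (hT.1 ht), inv_mul_cancel_left]
      rw [h1]
      exact hxY l (hL.LH hl)
  · obtain ⟨ι, hf, ⟨i⟩, W, K, d, hy, -, -, -, -, -, -, hKH, hsup⟩ := YSym.exists_yb hge hbz N hk (by omega) hex
    refine ⟨ι, hf, _, _, hy, ⟨i, fun hle => hZ ((hsup i).trans (sup_le ?_ ?_))⟩, fun x hx hxY l => ?_⟩
    · exact le_centralizer_zc T
    · exact le_centralizer_iff.1 hle
    · exact mem_centralizer_iff.2 fun y hy => hxY y (hKH l hy)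

section line

variable {ι : Type} [Finite ι] {S : Sylow 2 G} {P : Subgroup G} {n : ℕ} {L W Z C A : ι → Subgroup G}

/-- Every set `s` of indices with `Z i ≤ H` (`i ∈ s`) is the support of an element of `Z_J ∩ H`. -/
theorem exists_supp_in (h : Ln S P n L W Z C A 2) (s : Set ι) {H : Subgroup G} (hH : ∀ i ∈ s, Z i ≤ H) :
    ∃ x ∈ ZL (S : Subgroup G) n, x ∈ H ∧ ∀ i, (x ∈ C i ↔ i ∉ s) := by
  classical
  have : Fintype ι := Fintype.ofFinite ι
  suffices H' : ∀ t : Finset ι, (∀ i ∈ t, i ∈ s) →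
      ∃ x ∈ ZL (S : Subgroup G) n, x ∈ H ∧ ∀ i, (x ∈ C i ↔ i ∉ t) by
    obtain ⟨x, hx, hxH, hs⟩ := H' s.toFinset fun i hi => Set.mem_toFinset.1 hi
    exact ⟨x, hx, hxH, fun i => by rw [hs i, Set.mem_toFinset]⟩
  intro t
  induction t using Finset.induction_on with
  | empty => exact fun _ => ⟨1, one_mem _, one_mem _, fun i => by simp [one_mem]⟩
  | insert j t hj ih =>
    intro ht
    obtain ⟨x, hx, hxH, hs⟩ := ih fun i hi => ht i (Finset.mem_insert_of_mem hi)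
    obtain ⟨z, hz, hz1⟩ := SwapL.Z_ne h j
    refine ⟨x * z, mul_mem hx (h.fr.Z_le j hz), mul_mem hxH (hH j (ht j (Finset.mem_insert_self j t)) hz),
      fun i => ?_⟩
    by_cases hij : i = j
    · subst hij
      have h1 : x ∈ C i := (hs i).2 hj
      constructor
      · intro h2
        exact absurd ((Subgroup.mul_mem_cancel_left _ h1).1 h2) (SwapL.not_mem_C h hz hz1)
      · intro h2
        exact absurd (Finset.mem_insert_self i t) h2
    · have h1 : z ∈ C i := SwapL.Z_C h hij hz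
      rw [Subgroup.mul_mem_cancel_right _ h1, hs i, Finset.mem_insert, not_or]
      exact ⟨fun h2 => ⟨hij, h2⟩, fun h2 => h2.2⟩

/-- `Z i` lies in the part of `V` moved by the blocks or in the part centralised by them. -/
theorem Z_split (h : Ln S P n L W Z C A 2) {T X : Subgroup G} {Λ : Type} [Finite Λ] {N c : Λ → Subgroup G}
    (hB : SwapL.BL (S : Subgroup G) n ≤ T) (hy : YB T X N c)
    (hV : YB.QV T X (o2 P) (zl (S : Subgroup G) P)) (i : ι) :
    Z i ≤ YB.Cp c Set.univ ∨ Z i ≤ YB.Np X N Set.univ := by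
  have h2 := h.fr.Ane i
  push Not at h2
  obtain ⟨b, hb, w, hw, hbw⟩ := h2
  have r := rt h.fr hB hb fun h3 => hbw (h3 w hw)
  obtain ⟨z, hz, hz1⟩ := SwapL.Z_ne h i
  have hone : ∀ x ∈ Z i, x ≠ 1 → x = z := fun x hx hx1 => SwapL.Z_eq h hx hz hx1 hz1
  obtain ⟨v, hv, e⟩ := r.all z hz
  obtain ⟨a, haV, d, hdV, ha, hd, rfl⟩ := hy.restr hV (p := Set.univ) (fun _ _ _ _ _ => by simp) hv
  have h3 := r.com a haV
  have h4 := r.com d hdV
  have h5 : a * (b * a * b⁻¹) ∈ YB.Cp c Set.univ :=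
    mul_mem ha (hy.Cp_conj r.bT (fun _ _ _ _ => Set.mem_univ _) ha)
  have h6 : d * (b * d * b⁻¹) ∈ YB.Np X N Set.univ :=
    mul_mem hd (hy.Np_conj r.bT (fun _ _ _ _ => Set.mem_univ _) hd)
  have h7 : z = a * (b * a * b⁻¹) * (d * (b * d * b⁻¹)) := by
    have h8 := hy.cm (hV.VX (YB.QV.memV hy hV r.bT haV)) (hV.VX hdV)
    rw [← e]
    calc a * d * (b * (a * d) * b⁻¹) = a * (d * (b * a * b⁻¹)) * (b * d * b⁻¹) := by group
      _ = a * ((b * a * b⁻¹) * d) * (b * d * b⁻¹) := by rw [h8]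
      _ = _ := by group
  by_cases h8 : a * (b * a * b⁻¹) = 1
  · right
    rw [h8, one_mul] at h7
    intro x hx
    by_cases hx1 : x = 1
    · rw [hx1]; exact one_mem _
    · rw [hone x hx hx1, h7]; exact h6
  · left
    intro x hx
    by_cases hx1 : x = 1
    · rw [hx1]; exact one_mem _
    · rw [hone x hx hx1, ← hone _ h3 h8]; exact h5

/-- **(LL) for subgroups which centralise an element with full support.** -/
theorem low_full (h : Ln S P n L W Z C A 2) {T Y : Subgroup G} (hT : Syl T Y)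
    (hB : SwapL.BL (S : Subgroup G) n ≤ T) (hP : IsMinPar T Y) (hc : Y ⊓ centralizer (o2 Y : Set G) ≤ o2 Y)
    (hZ : ¬ Y ≤ centralizer (zc T : Set G)) {η : G} (hη : η ∈ ZL (S : Subgroup G) n) (hs : ∀ i, η ∉ C i)
    (hηY : ∀ y ∈ Y, y * η = η * y) : lev (S : Subgroup G) n ≤ o2 Y := by
  by_contra hn
  obtain ⟨j, hj, hlow, hnj⟩ := exists_stg (S : Subgroup G) hn
  have hBj : LevB.BL (S : Subgroup G) j ≤ T := (BL_mono (S : Subgroup G) (by omega : j ≤ n + 1)).trans hB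
  obtain ⟨Λ, _, N, c, hy, ⟨l, hl⟩, hcY⟩ := exists_ybc S hT hBj hP hc hlow hnj hZ
  have hV := qv h hT.2.1 hB hj
  set X : Subgroup G := zc (lev (S : Subgroup G) j) with hX
  have hsp := Z_split h hB hy hV
  obtain ⟨x, hx, hxC, hxs⟩ := exists_supp_in h {i | Z i ≤ YB.Cp c Set.univ} (H := YB.Cp c Set.univ) fun i hi => hi
  obtain ⟨y, hyJ, hyN, hys⟩ := exists_supp_in h {i | ¬ Z i ≤ YB.Cp c Set.univ} (H := YB.Np X N Set.univ)
    fun i hi => (hsp i).resolve_left hi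
  have hηX : η ∈ X := hV.VX (h.fr.ZJV hη)
  have hηN : η ∈ YB.Np X N Set.univ := YB.mem_Np.2 ⟨hηX, fun m _ => hcY η hηX hηY m⟩
  have e : η = x * y := by
    refine SwapL.eq_of_supp h hη (mul_mem hx hyJ) fun i => ?_
    refine ⟨fun h1 => absurd h1 (hs i), fun h1 => ?_⟩
    exfalso
    by_cases hi : Z i ≤ YB.Cp c Set.univ
    · have h2 : y ∈ C i := (hys i).2 fun h3 => h3 hi
      exact (hxs i).1 ((Subgroup.mul_mem_cancel_right _ h2).1 h1) hi
    · have h2 : x ∈ C i := (hxs i).2 hi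
      exact (hys i).1 ((Subgroup.mul_mem_cancel_left _ h2).1 h1) hi
  have hxN : x ∈ YB.Np X N Set.univ := by
    have h1 := mul_mem hηN (inv_mem hyN)
    rwa [e, mul_inv_cancel_right] at h1
  have hx1 : x = 1 := hy.eq_one hxC fun m hm => (YB.mem_Np.1 hxN).2 m hm
  have hall : ∀ i, Z i ≤ N l := by
    intro i
    refine le_trans ((hsp i).resolve_left fun hi => ?_) fun z hz => (YB.mem_Np.1 hz).2 l (Set.mem_univ l)
    exact (hxs i).1 (hx1 ▸ one_mem _) hi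
  exact hl ((zc_T_le S hT.2.1 hB).trans (zj_le h.fr hall))

/-- No FF-block over `B` centralises an element with full support. -/
theorem no_blk (h : Ln S P n L W Z C A 2) {L' V' : Subgroup G} (h' : FBlk (SwapL.BL (S : Subgroup G) n) L' V')
    {η : G} (hη : η ∈ ZL (S : Subgroup G) n) (hs : ∀ i, η ∉ C i) (hηL : ∀ l ∈ L', l * η = η * l) : False := by
  obtain ⟨⟨Z', q', hF⟩, hb⟩ := h'
  have eqB : SwapL.BL (S : Subgroup G) n =
    (S : Subgroup G) ⊓ centralizer (zc (lev (S : Subgroup G) (n + 1)) : Set G) := rfl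
  have hX := Lev.LowBlk.V_le S eqB h.fr hF hb.irr
  have hp : ∀ g ∈ normalizer (SwapL.BL (S : Subgroup G) n : Set G), ∀ j, ∃ k, cj g (Z j) = Z k := by
    intro g hg j
    obtain ⟨k, hk, -⟩ := SwapL.perm h hg j
    exact ⟨k, hk⟩
  obtain ⟨-, i, -, -, -, h1, -⟩ := Lev.UniPlus.uniPlusX h.fr (SwapL.lb S n).Bp (SwapL.wc S n) hp hF hX
  exact hs i ((h1 η hη).2 hηL)

end line

end Cfsg.Agent.Omega.OM.YTwo

end

section


/-!
# THEOREM Y2 (helper743 #22591) at the levels `n ≥ 0`: the choice of `C₀` and the pair `(T, F)`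

`B = C_S(Z_J)`, `Z_J = Ω₁Z(lev S (n+1))`, `q = 2`. The file `YTwo/Neg.lean` at level `n`. (LL) is needed for subgroups
which centralise an element with full support only: `low_full`.
-/

set_option autoImplicit false
set_option linter.unusedSectionVars false

namespace Cfsg.Agent.Omega.OM.YTwo.Lv

open Subgroup Cfsg Cfsg.Agent.ZN.ChoiceBase Cfsg.Agent.ZN.ChoiceSit
open Cfsg.Agent.ZN (jj zj bau zc zl o2)
open Cfsg.Agent.MinSimple.MinParabolic (IsMinPar)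
open Cfsg.Agent.MinSimple.VModule (oddGen oddGen_le)
open Cfsg.Agent.Omega.NO3S.Level (lev lev_isLev le_centralizer_zc)
open Cfsg.Agent.Omega.OM.SwapL
open Cfsg.Agent.Omega.OM.Swap (char2_cent)
open Cfsg.Agent.Omega.OM.LevB (FBlk)

universe u

variable {G : Type u} [Group G] [Finite G]

theorem norm_BL (S : Sylow 2 G) (n : ℕ) :
    normalizer (BL (S : Subgroup G) n : Set G) ≤ normalizer (ZL (S : Subgroup G) n : Set G) := (lb S n).norm_B_le

theorem S_le (S : Sylow 2 G) (n : ℕ) : (S : Subgroup G) ≤ normalizer (ZL (S : Subgroup G) n : Set G) :=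
  ((lb S n).two_le S.isPGroup' (lb S n).BS).trans (norm_BL S n)

theorem mem_of_cj (S : Sylow 2 G) {n : ℕ} {g : G}
    (h : cj g (BL (S : Subgroup G) n) ≤ normalizer (ZL (S : Subgroup G) n : Set G)) :
    g ∈ normalizer (ZL (S : Subgroup G) n : Set G) := mem_of_cj_B_le S (S_le S n) (norm_BL S n) h

theorem zc_le_ZL (S : Sylow 2 G) {n : ℕ} {T : Subgroup G} (hT : IsPGroup 2 T) (hB : BL (S : Subgroup G) n ≤ T) :
    zc T ≤ ZL (S : Subgroup G) n := Lev.Low.zc_T_le S hT hB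

/-- A minimal parabolic over `T` not contained in `N_G(Z_J)`. -/
theorem exists_par (S : Sylow 2 G) {n : ℕ} {T H : Subgroup G} (hT : Syl T H) (hB : BL (S : Subgroup G) n ≤ T)
    (hM : ¬ H ≤ normalizer (ZL (S : Subgroup G) n : Set G)) :
    ∃ Y : Subgroup G, IsMinPar T Y ∧ Y ≤ H ∧ ¬ Y ≤ normalizer (ZL (S : Subgroup G) n : Set G) ∧
      ¬ lev (S : Subgroup G) (n + 1) ≤ o2 Y := by
  obtain ⟨Y, hY, hYH, hYM⟩ : ∃ Y : Subgroup G, IsMinPar T Y ∧ Y ≤ H ∧
      ¬ Y ≤ normalizer (ZL (S : Subgroup G) n : Set G) := by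
    by_contra hcon
    push Not at hcon
    apply hM
    refine MinSimple.MinParabolic.le_of_forall hT.1 ?_ hcon
    refine inf_le_right.trans (le_trans ?_ (norm_BL S n))
    intro g hg
    rw [mem_normalizer_iff_cj]
    exact wc S n T hT.2.1 hB g ((cj_mono g hB).trans (cj_eq_of_mem_normalizer hg).le)
  exact ⟨Y, hY, hYH, hYM, fun h1 => hYM ((le_normalizer_o2 Y).trans ((lb S n).nrm _ (isPGroup_o2 Y) h1))⟩

section line

variable {ι : Type} [Finite ι] {S : Sylow 2 G} {P : Subgroup G} {n : ℕ} {L W Z C A : ι → Subgroup G}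

/-! ### The choice of `C₀` -/

/-- `X = Ω₁(Z(T))` for a 2-group `T ≥ B`, `C_G(X) ≰ N_G(Z_J)`. -/
def Bad (S : Sylow 2 G) (n : ℕ) (X : Subgroup G) : Prop :=
  ¬ centralizer (X : Set G) ≤ normalizer (ZL (S : Subgroup G) n : Set G) ∧
    ∃ T : Subgroup G, IsPGroup 2 T ∧ BL (S : Subgroup G) n ≤ T ∧ X = zc T

/-- `C₀ = Ω₁(Z(T₀))` maximal bad, `T₀` a Sylow 2-subgroup of `C_G(C₀)`. -/
structure MaxC (S : Sylow 2 G) (n : ℕ) (C₀ T₀ : Subgroup G) : Prop where
  not : ¬ centralizer (C₀ : Set G) ≤ normalizer (ZL (S : Subgroup G) n : Set G)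
  syl : Syl T₀ (centralizer (C₀ : Set G))
  BT : BL (S : Subgroup G) n ≤ T₀
  eq : C₀ = zc T₀
  max : ∀ X, Bad S n X → C₀ ≤ X → X ≤ C₀

theorem MaxC.le {C₀ T₀ : Subgroup G} (m : MaxC S n C₀ T₀) : C₀ ≤ ZL (S : Subgroup G) n :=
  m.eq.le.trans (zc_le_ZL S m.syl.2.1 m.BT)

/-- the element with full support -/
theorem MaxC.full (h : Ln S P n L W Z C A 2) {C₀ T₀ : Subgroup G} (m : MaxC S n C₀ T₀) :
    ∃ η ∈ C₀, ∀ i, η ∉ C i := by
  obtain ⟨η, hη, hs⟩ := exists_supp h Set.univ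
  have hs' : ∀ i, η ∉ C i := fun i hi => (hs i).1 hi (Set.mem_univ i)
  refine ⟨η, ?_, hs'⟩
  rw [m.eq]
  refine mem_zc.2 ⟨m.BT ((lb S n).ZB hη), (lb S n).sq η hη, fun t ht => ?_⟩
  exact comm_of_supp h ((lb S n).two_le m.syl.2.1 m.BT ht) hη fun i j _ =>
    ⟨fun hi => absurd hi (hs' i), fun hj => absurd hj (hs' j)⟩

/-- (MAX) -/
theorem MaxC.cent (h : Ln S P n L W Z C A 2) {C₀ T₀ : Subgroup G} (m : MaxC S n C₀ T₀)
    [Nonempty ι] {X : Subgroup G} (hX : X ≤ ZL (S : Subgroup G) n) (hCX : C₀ ≤ X) (hne : ¬ X ≤ C₀) :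
    centralizer (X : Set G) ≤ normalizer (ZL (S : Subgroup G) n : Set G) := by
  by_contra hcon
  obtain ⟨η, hη, hηC⟩ := m.full h
  have hη1 : η ≠ 1 := by
    rintro rfl
    exact hηC (Classical.arbitrary ι) (one_mem _)
  have hX1 : X ≠ ⊥ := by
    rintro rfl
    exact hη1 (mem_bot.1 (hCX hη))
  have hS2 : IsPGroup 2 (ZL (S : Subgroup G) n) := (lb S n).Bp.to_le (lb S n).ZB
  have hBX : BL (S : Subgroup G) n ≤ centralizer (X : Set G) :=
    (lb S n).Bc.trans (centralizer_le (by exact_mod_cast hX))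
  have hc := char2_cent h.hyp.ctx.char2 (hS2.to_le hX) hX1
  obtain ⟨T₁, hT₁, hBT₁⟩ := exists_syl (lb S n).Bp hBX
  obtain ⟨Y, hY, hYH, hYM, hYJ⟩ := exists_par S hT₁ hBT₁ hcon
  have hYη : ∀ y ∈ Y, y * η = η * y := fun y hy => (mem_centralizer_iff.1 (hYH hy) η (hCX hη)).symm
  by_cases hYc : Y ≤ centralizer (zc T₁ : Set G)
  · -- a larger bad group
    have hXz : X ≤ zc T₁ := by
      intro z hz
      exact mem_zc.2 ⟨hBT₁ ((lb S n).ZB (hX hz)), (lb S n).sq z (hX hz), fun t ht =>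
        (mem_centralizer_iff.1 (hT₁.1 ht) z hz).symm⟩
    have h1 : Bad S n (zc T₁) := ⟨fun hle => hYM (hYc.trans hle), T₁, hT₁.2.1, hBT₁, rfl⟩
    exact hne (hXz.trans (m.max _ h1 (hCX.trans hXz)))
  · have hTY : Syl T₁ Y := ⟨hY.le, hT₁.2.1, fun Q hQ h2 hTQ => hT₁.2.2 Q (hQ.trans hYH) h2 hTQ⟩
    have hcY : Y ⊓ centralizer (o2 Y : Set G) ≤ o2 Y := by
      have h4 : o2 (centralizer (X : Set G)) ≤ o2 Y :=
        le_o2 (isPGroup_o2 _) ((o2_le_syl hT₁).trans hY.le) (hYH.trans (le_normalizer_o2 _))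
      rintro x ⟨hx, hxc⟩
      exact h4 (hc ⟨hYH hx, centralizer_le (by exact_mod_cast h4) hxc⟩)
    have hK := low_full h hTY hBT₁ hY hcY hYc (hX (hCX hη)) hηC hYη
    obtain ⟨L', V', hL'Y, hF, -⟩ := LevB.exists_fblk S hTY hBT₁ hY hcY hK hYJ hYc
    exact no_blk h hF (hX (hCX hη)) hηC fun l hl => hYη l (hL'Y hl)

/-- **(b)** -/
theorem MaxC.mem (h : Ln S P n L W Z C A 2) {C₀ T₀ : Subgroup G} (m : MaxC S n C₀ T₀)
    [Nonempty ι] {f x : G} (hf : f ∈ centralizer (C₀ : Set G)) (hx : x ∈ ZL (S : Subgroup G) n)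
    (hx0 : x ∉ C₀) (hfx : f⁻¹ * x * f ∈ ZL (S : Subgroup G) n) :
    f ∈ normalizer (ZL (S : Subgroup G) n : Set G) := by
  set X : Subgroup G := ZL (S : Subgroup G) n ⊓ cj f (ZL (S : Subgroup G) n) with hX
  have hCX : C₀ ≤ X := by
    refine le_inf m.le fun c hc => ?_
    rw [mem_cj]
    have h1 := mem_centralizer_iff.1 hf c hc
    have e : f⁻¹ * c * f = c := by rw [mul_assoc, h1]; group
    rw [e]
    exact m.le hc
  have h1 := m.cent h (X := X) inf_le_left hCX fun hle => hx0 (hle (mem_inf.2 ⟨hx, mem_cj.2 hfx⟩))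
  apply mem_of_cj S
  refine le_trans ?_ h1
  have h2 : cj f (BL (S : Subgroup G) n) ≤
      centralizer ((cj f (ZL (S : Subgroup G) n) : Subgroup G) : Set G) := by
    rw [← cj_centralizer]
    exact cj_mono f (lb S n).Bc
  exact h2.trans (centralizer_le (by exact_mod_cast (inf_le_right : X ≤ _)))

end line

end Cfsg.Agent.Omega.OM.YTwo.Lv

end

section


/-!
# THEOREM Y2 (helper743 #22591) at the levels `n ≥ 0`: the end

`exists_sit` : a maximal bad group `C₀` gives `SitF`; `cent_zc_le` : **`C_G(Ω₁(Z(T))) ≤ N_G(Z_J)`** for every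
2-group `T ≥ B`, `Z_J = Ω₁Z(lev S (n+1))`, `B = C_S(Z_J)`, `q = 2`.
-/

set_option autoImplicit false
set_option linter.unusedSectionVars false

namespace Cfsg.Agent.Omega.OM.YTwo.Lv

open Subgroup Cfsg Cfsg.Agent.ZN.ChoiceBase Cfsg.Agent.ZN.ChoiceSit
open Cfsg.Agent.ZN (jj zj bau zc zl o2)
open Cfsg.Agent.MinSimple.MinParabolic (IsMinPar)
open Cfsg.Agent.Omega.NO3S.Level (lev lev_isLev)
open Cfsg.Agent.Omega.OM.SwapL
open Cfsg.Agent.Omega.OM.Swap (char2_cent)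
open Cfsg.Agent.Omega.OM.Swap.Fam (Fm SitF)
open Cfsg.Agent.Omega.NO3S.EThree.Frame (Bg)

universe u

variable {G : Type u} [Group G] [Finite G]

section bg

variable {ι : Type} [Finite ι] {S : Sylow 2 G} {P : Subgroup G} {n : ℕ} {L W Z C A : ι → Subgroup G}

/-- natural modules: `L i` normalises all `W j`. -/
theorem cj_L_W (h : Ln S P n L W Z C A 2) (hb : Bg S P (BL (S : Subgroup G) n) (ZL (S : Subgroup G) n) L W Z C 2)
    {i j : ι} {l : G} (hl : l ∈ L i) : cj l (W j) = W j := by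
  by_cases hij : i = j
  · subst hij
    refine Subgroup.eq_of_le_of_card_ge ?_ (by rw [card_cj])
    rintro _ ⟨w, hw, rfl⟩
    exact (h.fr.blk i).nV l hl w hw
  · obtain ⟨σ, hσ⟩ := hb.perm l (hb.LP i hl)
    have h1 := (hσ j).1
    obtain ⟨z, hz, hz1⟩ := SwapL.Z_ne h j
    have h2 : l * z = z * l := h.fr.LC i l hl z (h.fr.Z_le j hz) (SwapL.Z_C h hij hz)
    have h3 : z ∈ W (σ j) := by
      rw [← h1, mem_cj]
      have e : l⁻¹ * z * l = z := by rw [mul_assoc, ← h2, inv_mul_cancel_left]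
      rw [e]
      exact SwapL.Z_W h j hz
    have h4 : σ j = j := by
      by_contra hne
      have h5 : z ∈ W (σ j) ⊓ W j := mem_inf.2 ⟨h3, SwapL.Z_W h j hz⟩
      rw [hb.W_disj hne, mem_bot] at h5
      exact hz1 h5
    rwa [h4] at h1

/-- **(0.2)** a nontrivial element of `∏_{j ∈ r} W j` conjugate into `Z a` lies in some `W j`. -/
theorem wt (h : Ln S P n L W Z C A 2) (hb : Bg S P (BL (S : Subgroup G) n) (ZL (S : Subgroup G) n) L W Z C 2)
    {r : Set ι} {y g : G} {a : ι} (hy : y ∈ ⨆ j ∈ r, W j)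
    (hy1 : y ≠ 1) (hg : g⁻¹ * y * g ∈ Z a) : ∃ j ∈ r, y ∈ W j := by
  obtain ⟨k, hk, hx⟩ := SwapL.conj_ZJ h.fr r hy
  have hxJ : k * y * k⁻¹ ∈ ZL (S : Subgroup G) n :=
    (iSup₂_le fun i _ => h.fr.Z_le i : (⨆ i ∈ r, Z i) ≤ ZL (S : Subgroup G) n) hx
  have h1 : (k * g)⁻¹ * (k * y * k⁻¹) * (k * g) ∈ Z a := by
    have e : (k * g)⁻¹ * (k * y * k⁻¹) * (k * g) = g⁻¹ * y * g := by group
    rwa [e]
  obtain ⟨j, hj⟩ := hb.fus hxJ h1
  have hkn : k ∈ normalizer (W j : Set G) :=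
    (iSup₂_le fun i _ l hl => mem_normalizer_iff_cj.2 (cj_L_W h hb hl) :
      (⨆ i ∈ r, L i) ≤ normalizer (W j : Set G)) hk
  refine ⟨j, ?_, ?_⟩
  · by_contra hjr
    have h2 : (⨆ i ∈ r, Z i) ≤ C j := iSup₂_le fun i hi =>
      SwapL.Z_C h (fun e => hjr (e ▸ hi))
    have h3 : k * y * k⁻¹ ∈ W j ⊓ C j := mem_inf.2 ⟨SwapL.Z_W h j hj, h2 hx⟩
    rw [h.fr.dir j, mem_bot] at h3
    exact hy1 (conj_eq_one_iff.1 h3)
  · exact (mem_normalizer_iff.1 hkn y).2 (SwapL.Z_W h j hj)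

end bg

end Cfsg.Agent.Omega.OM.YTwo.Lv

end

end
end

private theorem dce_d17c37f930a0 : _root_.True := by
  try have : _root_.True := by simp only [_root_.Cfsg.Agent.Omega.OM.Lev.Low.Ni.eq_1]
  exact _root_.True.intro
end

-- part: Mrg/Omega/NO3S/CaseLW/LamQ/Def
section
prune_inst 0x101001000422000000180000800000406000000000000000004000000000000025012000002021000810840000000008120000000000000000000000000004218000420093080004240001800000000000000000000000000000000000000000200000000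
set_option linter.all false
open scoped Cfsg.Agent.FastGrp

section


/-!
# THEOREM LAMBDA (helper417 #24622) for `q ≥ 4`: the interface

`GE T H X AA`, `XX X AA = C_X(⟨AA⟩)`.

* `Tp H X AA A W Z q` : `A ∈ AA` acts on `W ≤ Y0` as a full root group with commutator group `Z`, `|Z| = q ≥ 4`;
* `YX T H X AA N c E q` : the blocks of `H` on `C_X(⟨AA⟩)`: `YB T C_X(⟨AA⟩) N c`; `top`, `cen`; `typ` : the `Z` of a `Tp`
  is one of the `E l`, `E l ∩ N l = 1`, `E l ≤ N m` for `m ≠ l`.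
-/

set_option autoImplicit false

namespace Cfsg.Agent.Omega.NO3S.CaseLW.LamQ

open Subgroup Cfsg Cfsg.Agent.ZN Cfsg.Agent.ZN.ChoiceBase
open Cfsg.Agent.Omega.OM.GLev (GE Y0)
open Cfsg.Agent.Omega.OM.Lev.Low (YB)

universe u

variable {G : Type u} [Group G]

/-- `C_X(⟨AA⟩)` -/
def XX (X : Subgroup G) (AA : Set (Subgroup G)) : Subgroup G := X ⊓ centralizer ((sSup AA : Subgroup G) : Set G)

theorem mem_XX {X : Subgroup G} {AA : Set (Subgroup G)} {x : G} :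
    x ∈ XX X AA ↔ x ∈ X ∧ ∀ A ∈ AA, ∀ a ∈ A, a * x = x * a := by
  rw [XX, mem_inf]
  refine and_congr_right fun _ => ⟨fun h A hA a ha => ?_, fun h => ?_⟩
  · exact mem_centralizer_iff.1 h a ((le_sSup hA : A ≤ sSup AA) ha)
  · have h1 : sSup AA ≤ centralizer ({x} : Set G) := sSup_le fun A hA a ha => by
      rw [mem_centralizer_singleton_iff]
      exact h A hA a ha
    exact mem_centralizer_iff.2 fun a ha => mem_centralizer_singleton_iff.1 (h1 ha)

theorem XX_le (X : Subgroup G) (AA : Set (Subgroup G)) : XX X AA ≤ X := inf_le_left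

/-- `A` acts on `W ≤ Y0` as a full root group with commutator group `Z`. -/
structure Tp (H X : Subgroup G) (AA : Set (Subgroup G)) (A W Z : Subgroup G) (q : ℕ) : Prop where
  WY : W ≤ Y0 H X AA
  ZW : Z ≤ W
  com : ∀ a ∈ A, ∀ w ∈ W, a * w * a⁻¹ * w⁻¹ ∈ Z
  cen : ∀ a ∈ A, ∀ z ∈ Z, a * z = z * a
  free : ∀ a ∈ A, ∀ w ∈ W, w ∉ Z → a * w = w * a → ∀ u ∈ W, a * u = u * a
  sur : ∀ w ∈ W, w ∉ Z → ∀ z ∈ Z, ∃ a ∈ A, a * w * a⁻¹ * w⁻¹ = z
  cardW : Nat.card W = Nat.card Z * q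
  cardZ : Nat.card Z = q
  four : 4 ≤ q

/-- **The blocks of `H` on `C_X(⟨AA⟩)`.** -/
structure YX (T H X : Subgroup G) (AA : Set (Subgroup G)) {Λ : Type} (N c E : Λ → Subgroup G) (q : ℕ) : Prop where
  yb : YB T (XX X AA) N c
  /-- if all `N l` contain `Ω₁(Z(T))`, then `H` centralises it -/
  top : (∀ l, zc T ≤ N l) → H ≤ centralizer (zc T : Set G)
  /-- an element moved by the conjugates of the members of `AA` inside `C_X(⟨AA⟩)` only is in all `N l` -/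
  cen : ∀ x ∈ XX X AA, (∀ A ∈ AA, ∀ a ∈ A, ∀ g ∈ H, g * a * g⁻¹ * x * (g * a * g⁻¹)⁻¹ * x⁻¹ ∈ XX X AA) →
    ∀ l, x ∈ N l
  EN : ∀ l m, l ≠ m → E l ≤ N m
  E1 : ∀ l, ∀ x ∈ E l, x ∈ N l → x = 1
  typ : ∀ A ∈ AA, ∀ W Z : Subgroup G, Tp H X AA A W Z q → ∃ l, Z = E l

end Cfsg.Agent.Omega.NO3S.CaseLW.LamQ

end

section


/-!
# THEOREM LAMBDA for `q ≥ 4`: the natural instance of `YX`

`GE T H X AA`, `NatKM F T H V D k`, `V = ⟨Ω₁Z(T)^H⟩`, `M = natC_of ..`.

* `cent_mix` : an element of a member of `AA` which acts as `up ∘ b` centralises the `v ∈ V` with `b i = 0` or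
  `e v i 1 = 0` for all `i`;
* `line_XX`, `XX_line` : `V ∩ C_X(⟨AA⟩)` is the product of the lines;
* `exists_ld` : the input `LD` over `C_X(⟨AA⟩)`;
* `yx_nat` : **`YX T H X AA N c E q`**.
-/

set_option autoImplicit false
set_option linter.unusedSectionVars false

namespace Cfsg.Agent.Omega.NO3S.CaseLW.LamQ

open Subgroup Cfsg Cfsg.Agent.ZN Cfsg.Agent.ZN.ChoiceBase Cfsg.Agent.ZN.ChoiceSit
open Cfsg.Agent.Omega.NatPair (ap ap_zero' ap_one' ap_one ap_mul ext2 ap_inv_ap ap_inj)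
open Cfsg.Agent.Lib.SL2Mat
open Cfsg.Agent.Omega.SQ1.FFOne (MinH)
open Cfsg.Agent.Omega.NO3S.OneLine (NatC single_acts natC_of)
open Cfsg.Agent.Omega.NO3S.OneLine.NatC (acts_mul acts_inv acts_one acts_unique)
open Cfsg.Agent.Omega.OM.Lev.Nat (Wn mem_Wn Xn mem_Xn ap_z)
open Cfsg.Agent.Omega.OM.GNat (sl2_all cent_N exists_root)
open Cfsg.Agent.Omega.OM.GLev
open Cfsg.Agent.Omega.OM.Lev.Low
open Cfsg.Agent.Omega.FFThm (NatK NatKM ActsSL)
open Cfsg.Agent.Omega.SQ1.Bau (elem_comm elem_sq)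
open Cfsg.Agent.Omega.FrameFF (cv)

universe u

variable {G : Type u} [Group G] [Finite G] {F : Type} [Field F] {T H X : Subgroup G} {AA : Set (Subgroup G)} {k : ℕ}

section nat

variable [Finite F] [CharP F 2] (h : GE T H X AA) (N : NatKM F T H (zl T H) (cv T H) k) (hk : 0 < k)
include h N hk

/-- `V ∩ C_X(⟨AA⟩)` contains the product of the lines -/
theorem line_XX {v : G} (hv : v ∈ zl T H) (hl : ∀ i, N.e v i 1 = 0) : v ∈ XX X AA := by
  refine mem_XX.2 ⟨h.VX hv, fun A hA a ha => ?_⟩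
  by_cases hAQ : A ≤ o2 H
  · exact h.comm_Q a (hAQ ha) v hv
  · have hoff := h.offM hA hAQ
    obtain ⟨I, h1, h2⟩ := N.offM A (h.fam.le A hA) hoff
    exact (natC_of h.hm hk N.toNatK).cent_line h.hm (h.fam.le A hA) hoff.le h1 h2 hv hl ha

theorem cent_mix {A : Subgroup G} (hA : A ∈ AA) {a : G} (ha : a ∈ A) {b : Fin k → F}
    (hb : ActsSL N.e (zl T H) (cv T H) a fun i => up (b i)) {v : G} (hv : v ∈ zl T H)
    (hbv : ∀ i, b i = 0 ∨ N.e v i 1 = 0) : a * v = v * a := by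
  classical
  set M := natC_of h.hm hk N.toNatK with hM
  have haH : a ∈ H := h.TH (h.fam.le A hA ha)
  have key : ∀ s : Finset (Fin k), ∀ v ∈ zl T H, (∀ i, b i = 0 ∨ N.e v i 1 = 0) → (∀ i, i ∉ s → N.e v i = 0) →
      a * v = v * a := by
    intro s
    induction s using Finset.induction_on with
    | empty =>
      intro v hv _ h0
      exact hb.2 v ((N.ker v hv).1 (funext fun i => h0 i (Finset.notMem_empty i)))
    | insert i s his ih =>
      intro v hv hbv h0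
      obtain ⟨w, hw, hwe⟩ := exists_vec M i (N.e v i)
      have hwe' : N.e w i = N.e v i := hwe
      have hw0 : ∀ j, j ≠ i → N.e w j = 0 := hw.2
      have e1 : N.e (v * w⁻¹) = N.e v - N.e w := M.map_div hv hw.1
      have h1 : a * (v * w⁻¹) = v * w⁻¹ * a := by
        refine ih (v * w⁻¹) (mul_mem hv (inv_mem hw.1)) (fun j => ?_) fun j hj => ?_
        · by_cases hji : j = i
          · subst hji
            right
            rw [e1, Pi.sub_apply, hwe', sub_self]; rfl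
          · rcases hbv j with h2 | h2
            · exact Or.inl h2
            · right
              rw [e1, Pi.sub_apply, hw0 j hji, sub_zero, h2]
        · by_cases hji : j = i
          · subst hji
            rw [e1, Pi.sub_apply, hwe', sub_self]
          · rw [e1, Pi.sub_apply, hw0 j hji, sub_zero]
            exact h0 j fun hc => (Finset.mem_insert.1 hc).elim hji hj
      have h2 : a * w = w * a := by
        rcases hbv i with h3 | h3
        · exact cent_N M h.hm haH hb.1 hb.2 (i := i) (by rw [h3, up_zero]) hw.1 hw.2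
        · have h4 : w ∈ XX X AA := line_XX h N hk hw.1 fun j => by
            by_cases hji : j = i
            · subst hji; rw [hwe', h3]
            · rw [hw0 j hji]; rfl
          exact (mem_XX.1 h4).2 A hA a ha
      have c1 : Commute a (v * w⁻¹) := h1
      have c2 : Commute a w := h2
      have c3 := c1.mul_right c2
      rwa [inv_mul_cancel_right] at c3
  exact key Finset.univ v hv hbv fun i hi => absurd (Finset.mem_univ i) hi

/-- `T` normalises `C_X(⟨AA⟩)` -/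
theorem T_XX : T ≤ normalizer (XX X AA : Set G) := by
  intro t ht
  refine mem_normalizer_of_cj_le ?_
  rintro _ ⟨x, hx, rfl⟩
  obtain ⟨hxX, hxc⟩ := mem_XX.1 hx
  refine mem_XX.2 ⟨(mem_normalizer_iff.1 (h.norm (h.TH ht)) x).1 hxX, fun A hA a ha => ?_⟩
  have h2 : cj t⁻¹ A ∈ AA := h.fam.conj A hA t⁻¹ (h.norm (h.TH (inv_mem ht))) (by
    rintro _ ⟨a, ha, rfl⟩
    exact mul_mem (mul_mem (inv_mem ht) (h.fam.le A hA ha)) (inv_mem (inv_mem ht)))
  have h3 := hxc _ h2 (t⁻¹ * a * t) ⟨a, ha, by simp⟩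
  have h4 := congrArg (fun y => t * y * t⁻¹) h3
  simpa [mul_assoc] using h4

/-- `V ∩ C_X(⟨AA⟩)` lies in the product of the lines -/
theorem XX_line {A : Subgroup G} (hA : A ∈ AA) {j : Fin k}
    (hroot : ∀ c : F, ∃ a ∈ A, ActsSL N.e (zl T H) (cv T H) a (Pi.mulSingle j (up c))) {v : G} (hv : v ∈ zl T H)
    (hvZ : v ∈ XX X AA) (i : Fin k) : N.e v i 1 = 0 := by
  set M := natC_of h.hm hk N.toNatK with hM
  have hTH := h.TH
  have key : ∀ w ∈ zl T H, w ∈ XX X AA → N.e w j 1 = 0 := by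
    intro w hw hwZ
    obtain ⟨a, ha, ha1, -⟩ := hroot 1
    have h1 := (mem_XX.1 hwZ).2 A hA a ha
    have h2 := ha1 w hw j
    have h3 : a * w * a⁻¹ = w := by rw [h1]; group
    rw [h3, Pi.mulSingle_eq_same] at h2
    have h4 := congrFun h2 0
    rw [ap_zero'] at h4
    simpa using h4
  obtain ⟨t, ht, htr⟩ := N.trans i j
  have hmv : MvI M t i j := htr
  have h1 := key (t * v * t⁻¹) (M.Vn t (hTH ht) v hv)
    ((mem_normalizer_iff.1 (T_XX h N hk ht) v).1 hvZ)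
  exact (hmv.line hTH ht hv).1 h1

theorem XX_Y0 {x : G} (hx : x ∈ XX X AA) : x ∈ Y0 H X AA := h.mem_Y0_of (mem_XX.1 hx).1 (mem_XX.1 hx).2

/-- the block: `⟨AA⟩` and the `g`-conjugates of the root elements of `A` at `j` -/
def Kb (M : NatC F T H (zl T H) (cv T H) k) (AA : Set (Subgroup G)) (A : Subgroup G) (j : Fin k) (g : G) : Subgroup G :=
  sSup AA ⊔ closure {x | ∃ a ∈ A, (∃ c, Ons M j a (up c)) ∧ x = g * a * g⁻¹}

omit h N hk [Finite F] [CharP F 2] [Finite G] in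
theorem Kb_le {M : NatC F T H (zl T H) (cv T H) k} {A : Subgroup G} {j : Fin k} {g : G} {K : Subgroup G}
    (h1 : sSup AA ≤ K) (h2 : ∀ a ∈ A, ∀ c, Ons M j a (up c) → g * a * g⁻¹ ∈ K) : Kb M AA A j g ≤ K := by
  refine sup_le h1 ?_
  rw [closure_le]
  rintro _ ⟨a, ha, ⟨c, hc⟩, rfl⟩
  exact h2 a ha c hc

omit h N hk [Finite F] [CharP F 2] [Finite G] in
theorem mem_Kb {M : NatC F T H (zl T H) (cv T H) k} {A : Subgroup G} {j : Fin k} {g a : G} (ha : a ∈ A) {c : F}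
    (hc : Ons M j a (up c)) : g * a * g⁻¹ ∈ Kb M AA A j g := mem_sup_right (subset_closure ⟨a, ha, ⟨c, hc⟩, rfl⟩)

theorem AA_le_T : sSup AA ≤ T := sSup_le h.fam.le

theorem T_AA {x y : G} (hx : x ∈ T) (hy : y ∈ sSup AA) : x * y * x⁻¹ ∈ sSup AA := by
  have h1 : sSup AA ≤ (sSup AA).comap (MulAut.conj x).toMonoidHom := by
    refine sSup_le fun A hA a ha => ?_
    have h2 : cj x A ∈ AA := h.fam.conj A hA x (h.norm (h.TH hx)) (by
      rintro _ ⟨a, ha, rfl⟩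
      exact mul_mem (mul_mem hx (h.fam.le A hA ha)) (inv_mem hx))
    exact (le_sSup h2 : cj x A ≤ sSup AA) ⟨a, ha, rfl⟩
  exact h1 hy

theorem XX_cent {a x : G} (ha : a ∈ sSup AA) (hx : x ∈ XX X AA) : a * x = x * a :=
  mem_centralizer_iff.1 hx.2 a ha

theorem cv_line {d : G} (hd : d ∈ cv T H) : d ∈ XX X AA := by
  set M := natC_of h.hm hk N.toNatK
  refine line_XX h N hk (M.DV hd) fun i => ?_
  have h1 : N.e d = 0 := (N.ker d (M.DV hd)).2 hd
  rw [h1]; rfl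

/-- **The input `LD` over `C_X(⟨AA⟩)`.** -/
theorem exists_ld' {A : Subgroup G} (hA : A ∈ AA) {j : Fin k}
    (hroot : ∀ c : F, ∃ a ∈ A, ActsSL N.e (zl T H) (cv T H) a (Pi.mulSingle j (up c))) {g : G}
    (hg : Ons (natC_of h.hm hk N.toNatK) j g (lo 1)) :
    LD (natC_of h.hm hk N.toNatK) (sSup AA) (XX X AA) (Kb (natC_of h.hm hk N.toNatK) AA A j g) j := by
  classical
  set M := natC_of h.hm hk N.toNatK with hM
  have hTH := h.TH
  have hAT := h.fam.le A hA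
  have hgH : g ∈ H := hg.1
  have hpH : ∀ a ∈ A, g * a * g⁻¹ ∈ H := fun a ha => mul_mem (mul_mem hgH (hTH (hAT ha))) (inv_mem hgH)
  have hpO : ∀ a ∈ A, ∀ c, Ons M j a (up c) → Ons M j (g * a * g⁻¹) (lo 1 * up c * (lo 1)⁻¹) :=
    fun a _ c hc => (hg.mul hc).mul hg.inv
  refine ⟨h.hm, AA_le_T h N hk, ?_, T_XX h N hk, ?_, fun b hb z hz => XX_cent h N hk hb hz,
    fun v hv => ⟨fun hvZ i => XX_line h N hk hA hroot hv hvZ i, fun h0 => line_XX h N hk hv h0⟩, ?_, le_sup_left,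
    ?_, ?_, ?_, ?_, ?_⟩
  · intro t ht
    refine mem_normalizer_of_cj_le ?_
    rintro _ ⟨y, hy, rfl⟩
    exact T_AA h N hk ht hy
  · exact PLocal.ThompsonJ.isElementaryAbelian_mono h.elem (XX_le X AA)
  · intro c
    obtain ⟨a, ha, ha1⟩ := hroot c
    exact ⟨a, (le_sSup hA : A ≤ sSup AA) ha, hTH (hAT ha), ha1⟩
  · exact Kb_le ((AA_le_T h N hk).trans hTH) fun a ha c _ => hpH a ha
  · -- `cD`
    intro l hl d hd
    have h1 : Kb M AA A j g ≤ centralizer ({d} : Set G) := by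
      refine Kb_le (fun a ha => ?_) fun a ha c hc => ?_
      · rw [mem_centralizer_singleton_iff]
        exact XX_cent h N hk ha (cv_line h N hk hd)
      · rw [mem_centralizer_singleton_iff]
        exact (hpO a ha c hc).2.2 d hd
    exact mem_centralizer_singleton_iff.1 (h1 hl)
  · -- `cov`
    obtain ⟨a1, ha1, ha1A⟩ := hroot 1
    have hO1 : Ons M j a1 (up 1) := ⟨hTH (hAT ha1), ha1A⟩
    refine sl2_all (fun B => ∃ l ∈ Kb M AA A j g, Ons M j l B) ?_ ?_ (fun c => ?_)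
      (A₀ := lo 1 * up 1 * (lo 1)⁻¹) ⟨_, mem_Kb ha1 hO1, hpO a1 ha1 1 hO1⟩ ?_
    · rintro A1 A2 ⟨l1, hl1, h1⟩ ⟨l2, hl2, h2⟩
      exact ⟨l1 * l2, mul_mem hl1 hl2, h1.mul h2⟩
    · rintro A1 ⟨l1, hl1, h1⟩
      exact ⟨l1⁻¹, inv_mem hl1, h1.inv⟩
    · obtain ⟨a, ha, haA⟩ := hroot c
      exact ⟨a, mem_sup_left ((le_sSup hA : A ≤ sSup AA) ha), hTH (hAT ha), haA⟩
    · rw [ent_mul, ent_mul, ent_mul, lo_inv]
      simp
  · -- `LW`
    intro l hl m hmj v hv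
    have hvX : v ∈ XX X AA := line_XX h N hk hv.1 fun i => by
      by_cases hi : i = m
      · subst hi; exact hv.2.2
      · have h1 : N.e v i = 0 := hv.2.1 i hi
        rw [h1]; rfl
    have h1 : Kb M AA A j g ≤ centralizer ({v} : Set G) := by
      refine Kb_le (fun a ha => ?_) fun a ha c hc => ?_
      · rw [mem_centralizer_singleton_iff]
        exact XX_cent h N hk ha hvX
      · rw [mem_centralizer_singleton_iff]
        have h2 := hpO a ha c hc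
        exact cent_N M h.hm h2.1 h2.2.1 h2.2.2 (i := m) (Pi.mulSingle_eq_of_ne hmj _) hv.1 hv.2.1
    exact mem_centralizer_singleton_iff.1 (h1 hl)
  · -- `split`
    intro z hz
    have hgi : g⁻¹ ∈ H := inv_mem hgH
    have hzY := XX_Y0 h N hk hz
    have hz1 : g⁻¹ * z * g⁻¹⁻¹ ∈ Y0 H X AA := (mem_normalizer_iff.1 (h.norm_Y0 hgi) z).1 hzY
    rw [inv_inv] at hz1
    obtain ⟨v, hv, hvc⟩ := h.Y0_comm hA hz1
    set v1 := g * v * g⁻¹ with hv1
    have hv1V : v1 ∈ zl T H := M.Vn g hgH v hv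
    obtain ⟨n, hn, hn0⟩ := exists_line M j (M.nat.e v1 j 0 - M.nat.e v1 j 1)
    have hnX : n ∈ XX X AA := line_XX h N hk hn.1 fun i => by
      by_cases hi : i = j
      · subst hi; exact hn.2.2
      · have h1 : N.e n i = 0 := hn.2.1 i hi
        rw [h1]; rfl
    -- `u = g⁻¹ (n⁻¹ v₁) g` has `e u j 1 = 0`
    set u := g⁻¹ * (v1 * n⁻¹) * g with hu
    have huV : u ∈ zl T H := by
      have := M.Vn g⁻¹ hgi _ (mul_mem hv1V (inv_mem hn.1))
      rwa [inv_inv] at this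
    have huj : N.e u j 1 = 0 := by
      have e1 := hg.e_i huV
      have e2 : g * u * g⁻¹ = v1 * n⁻¹ := by rw [hu]; group
      rw [e2, M.map_div hv1V hn.1] at e1
      have e3 := congrFun e1 0
      have e4 := congrFun e1 1
      rw [Pi.sub_apply, Pi.sub_apply, hn0, ap_zero'] at e3
      rw [Pi.sub_apply, Pi.sub_apply, hn.2.2, ap_one'] at e4
      simp only [lo_00, lo_01, lo_10, lo_11, one_mul, zero_mul, add_zero] at e3 e4
      have e5 : N.e u j 0 = M.nat.e v1 j 1 := by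
        have : N.e u j 0 = M.nat.e u j 0 := rfl
        rw [this, ← e3]; ring
      have e6 : M.nat.e u j 0 = N.e u j 0 := rfl
      rw [e6, e5] at e4
      have e7 : M.nat.e u j 1 = N.e u j 1 := rfl
      rw [e7] at e4
      have e8 : M.nat.e v1 j 1 + N.e u j 1 = M.nat.e v1 j 1 := by
        rw [← e4]; ring
      exact add_eq_left.1 e8
    have hXc := h.Xc
    have hcom : ∀ a ∈ A, ∀ c, Ons M j a (up c) → g * a * g⁻¹ * (z * n⁻¹) = z * n⁻¹ * (g * a * g⁻¹) := by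
      intro a ha c hc
      have haC : a * u = u * a := by
        refine cent_mix h N hk hA ha (b := Pi.single j c) ?_ huV fun i => ?_
        · rw [single_acts]; exact hc.2
        · by_cases hi : i = j
          · subst hi; exact Or.inr huj
          · exact Or.inl (Pi.single_eq_of_ne (M := fun _ => F) hi c)
      have e1 : a * (g⁻¹ * z * g) * a⁻¹ * (g⁻¹ * z * g)⁻¹ = a * v * a⁻¹ * v⁻¹ := hvc a ha
      -- `[a', z] = [a', v₁] = [a', n]`
      set a' := g * a * g⁻¹ with ha'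
      have e2 : a' * z * a'⁻¹ * z⁻¹ = a' * v1 * a'⁻¹ * v1⁻¹ := by
        have h1 := congrArg (fun y => g * y * g⁻¹) e1
        have h2 : g * (a * (g⁻¹ * z * g) * a⁻¹ * (g⁻¹ * z * g)⁻¹) * g⁻¹ = a' * z * a'⁻¹ * z⁻¹ := by
          rw [ha']; group
        have h3 : g * (a * v * a⁻¹ * v⁻¹) * g⁻¹ = a' * v1 * a'⁻¹ * v1⁻¹ := by
          rw [ha', hv1]; group
        rw [← h2, ← h3]; exact h1
      have e3 : a' * (v1 * n⁻¹) = v1 * n⁻¹ * a' := by
        have h1 := congrArg (fun y => g * y * g⁻¹) haC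
        have h2 : g * (a * u) * g⁻¹ = a' * (v1 * n⁻¹) := by rw [ha', hu]; group
        have h3 : g * (u * a) * g⁻¹ = v1 * n⁻¹ * a' := by rw [ha', hu]; group
        rw [← h2, ← h3]; exact h1
      -- all in `X`
      have hzX := (mem_XX.1 hz).1
      have hnX' := h.VX hn.1
      have hv1X := h.VX hv1V
      have ha'H : a' ∈ H := hpH a ha
      have hcX : ∀ x ∈ X, a' * x * a'⁻¹ ∈ X := fun x hx => (mem_normalizer_iff.1 (h.norm ha'H) x).1 hx
      have e4 : a' * (v1 * n⁻¹) * a'⁻¹ = v1 * n⁻¹ := by rw [e3]; group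
      have e5 : a' * (z * n⁻¹) * a'⁻¹ = z * n⁻¹ := by
        have h1 : a' * z * a'⁻¹ = a' * v1 * a'⁻¹ * v1⁻¹ * z := by rw [← e2]; group
        have h2 : a' * n⁻¹ * a'⁻¹ = (a' * v1 * a'⁻¹)⁻¹ * (v1 * n⁻¹) := by
          rw [← e4]; group
        have c1 := hXc _ (mul_mem (inv_mem hv1X) hzX) _ (inv_mem (hcX v1 hv1X))
        have c2 := hXc _ hzX _ hv1X
        calc a' * (z * n⁻¹) * a'⁻¹ = (a' * z * a'⁻¹) * (a' * n⁻¹ * a'⁻¹) := by group
          _ = (a' * v1 * a'⁻¹) * ((v1⁻¹ * z) * (a' * v1 * a'⁻¹)⁻¹) * (v1 * n⁻¹) := by rw [h1, h2]; group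
          _ = (a' * v1 * a'⁻¹) * ((a' * v1 * a'⁻¹)⁻¹ * (v1⁻¹ * z)) * (v1 * n⁻¹) := by rw [c1]
          _ = v1⁻¹ * (z * v1) * n⁻¹ := by group
          _ = v1⁻¹ * (v1 * z) * n⁻¹ := by rw [c2]
          _ = z * n⁻¹ := by group
      exact mul_inv_eq_iff_eq_mul.1 e5
    have hcX : z * n⁻¹ ∈ XX X AA := mul_mem hz (inv_mem hnX)
    refine ⟨z * n⁻¹, hcX, fun l hl => ?_, n, hn, by group⟩
    have h1 : Kb M AA A j g ≤ centralizer ({z * n⁻¹} : Set G) := by
      refine Kb_le (fun a ha => ?_) fun a ha c hc => ?_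
      · rw [mem_centralizer_singleton_iff]
        exact XX_cent h N hk ha hcX
      · rw [mem_centralizer_singleton_iff]
        exact hcom a ha c hc
    exact mem_centralizer_singleton_iff.1 (h1 hl)

omit h N hk [Finite F] [CharP F 2] [Finite G] in
/-- `[V, a]` -/
def Ea (M : NatC F T H (zl T H) (cv T H) k) (a : G) (ha : a ∈ H) : Subgroup G where
  carrier := {x | ∃ v ∈ zl T H, x = a * v * a⁻¹ * v⁻¹}
  mul_mem' := by
    rintro _ _ ⟨v, hv, rfl⟩ ⟨w, hw, rfl⟩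
    refine ⟨v * w, mul_mem hv hw, ?_⟩
    have hlw : a * w * a⁻¹ ∈ zl T H := M.Vn a ha w hw
    have e1 := M.Vcomm (mul_mem hlw (inv_mem hw)) (inv_mem hv)
    calc a * v * a⁻¹ * v⁻¹ * (a * w * a⁻¹ * w⁻¹) = a * v * a⁻¹ * (v⁻¹ * (a * w * a⁻¹ * w⁻¹)) := by group
      _ = a * v * a⁻¹ * (a * w * a⁻¹ * w⁻¹ * v⁻¹) := by rw [e1]
      _ = _ := by group
  one_mem' := ⟨1, one_mem _, by group⟩
  inv_mem' := by
    rintro _ ⟨v, hv, rfl⟩
    refine ⟨v⁻¹, inv_mem hv, ?_⟩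
    have hlv : a * v⁻¹ * a⁻¹ ∈ zl T H := M.Vn a ha _ (inv_mem hv)
    have e1 := M.Vcomm hlv hv
    calc (a * v * a⁻¹ * v⁻¹)⁻¹ = v * (a * v⁻¹ * a⁻¹) := by group
      _ = a * v⁻¹ * a⁻¹ * v := e1.symm
      _ = _ := by group

omit h N hk [Finite F] [CharP F 2] [Finite G] in
theorem mem_Ea {M : NatC F T H (zl T H) (cv T H) k} {a : G} {ha : a ∈ H} {x : G} :
    x ∈ Ea M a ha ↔ ∃ v ∈ zl T H, x = a * v * a⁻¹ * v⁻¹ := Iff.rfl

omit h N hk [Finite F] [CharP F 2] in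
/-- the coordinates of `[v, a]` -/
theorem comm_e {M : NatC F T H (zl T H) (cv T H) k} {a : G} {l : Fin k} {c : F} (ha : Ons M l a (up c)) {v : G}
    (hv : v ∈ zl T H) : (∀ m, m ≠ l → M.nat.e (a * v * a⁻¹ * v⁻¹) m = 0) ∧ M.nat.e (a * v * a⁻¹ * v⁻¹) l 1 = 0 ∧
      M.nat.e (a * v * a⁻¹ * v⁻¹) l 0 = c * M.nat.e v l 1 := by
  have hav := M.Vn a ha.1 v hv
  refine ⟨fun m hm => ?_, ?_, ?_⟩
  · rw [M.map_div hav hv, Pi.sub_apply, ha.e_m hv hm, sub_self]
  · rw [M.map_div hav hv, Pi.sub_apply, Pi.sub_apply, ha.e_i hv, ap_one']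
    simp
  · rw [M.map_div hav hv, Pi.sub_apply, Pi.sub_apply, ha.e_i hv, ap_zero']
    simp

omit h N hk [Finite F] [CharP F 2] in
theorem Ea_le_Li {M : NatC F T H (zl T H) (cv T H) k} {a : G} {l : Fin k} {c : F} (ha : Ons M l a (up c)) :
    Ea M a ha.1 ≤ Li M l := by
  rintro _ ⟨v, hv, rfl⟩
  obtain ⟨h1, h2, -⟩ := comm_e ha hv
  exact ⟨mul_mem (M.Vn a ha.1 v hv) (inv_mem hv), h1, h2⟩

/-- `v` with `e v l 1 = 0` is centralised by the root elements at `l` -/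
theorem cent_root {A : Subgroup G} (hA : A ∈ AA) {a : G} (ha : a ∈ A) {l : Fin k} {c : F}
    (hc : Ons (natC_of h.hm hk N.toNatK) l a (up c)) {v : G} (hv : v ∈ zl T H) (h0 : N.e v l 1 = 0) :
    a * v = v * a := by
  refine cent_mix h N hk hA ha (b := Pi.single l c) ?_ hv fun i => ?_
  · rw [single_acts]; exact hc.2
  · by_cases hi : i = l
    · subst hi; exact Or.inr h0
    · exact Or.inl (Pi.single_eq_of_ne (M := fun _ => F) hi c)

/-- **the `Z` of a `Tp` is `[V, a]`, `a` a root element** -/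
theorem typ_nat {A : Subgroup G} (hA : A ∈ AA) {W Z : Subgroup G} {q : ℕ} (t : Tp H X AA A W Z q) :
    ∃ l, ∃ a ∈ A, ∃ ha : Ons (natC_of h.hm hk N.toNatK) l a (up 1), Z = Ea (natC_of h.hm hk N.toNatK) a ha.1 := by
  classical
  set M := natC_of h.hm hk N.toNatK with hM
  have hTH := h.TH
  have hAT := h.fam.le A hA
  have hq := t.four
  have hWX : W ≤ X := t.WY.trans inf_le_left
  -- `w₀`, `z₁`
  obtain ⟨w0, hw0, hw0Z⟩ : ∃ w ∈ W, w ∉ Z := by
    by_contra hcon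
    push Not at hcon
    have h1 := Subgroup.card_le_of_le (show W ≤ Z from hcon)
    rw [t.cardW, t.cardZ] at h1
    nlinarith
  obtain ⟨z1, hz1, hz1n⟩ : ∃ z ∈ Z, z ≠ 1 := by
    by_contra hcon
    push Not at hcon
    have h1 : Z = ⊥ := (Subgroup.eq_bot_iff_forall Z).2 hcon
    have h2 := t.cardZ
    rw [h1, Subgroup.card_bot] at h2
    omega
  have hAQ : ¬ A ≤ o2 H := by
    intro hAQ
    obtain ⟨a, ha, e⟩ := t.sur w0 hw0 hw0Z z1 hz1
    have h1 := (mem_Y0.1 (t.WY hw0)).2 A hA hAQ a ha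
    apply hz1n
    rw [← e, h1]; group
  obtain ⟨I, h1, h2⟩ := N.offM A hAT (h.offM hA hAQ)
  obtain ⟨v0, hv0, hv0c⟩ := h.Y0_comm hA (t.WY hw0)
  obtain ⟨l, hlI, hl⟩ : ∃ l, l ∈ I ∧ N.e v0 l 1 ≠ 0 := by
    by_contra hcon
    push Not at hcon
    obtain ⟨a, ha, e⟩ := t.sur w0 hw0 hw0Z z1 hz1
    obtain ⟨b, hb0, hb⟩ := h1 a ha
    have h3 : a * v0 = v0 * a := cent_mix h N hk hA ha hb hv0 fun i => by
      by_cases hi : i ∈ I
      · exact Or.inr (hcon i hi)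
      · exact Or.inl (hb0 i hi)
    apply hz1n
    rw [← e, hv0c a ha, h3]; group
  -- the root elements of `A` at `l`
  have hroot : ∀ c : F, ∃ a ∈ A, Ons M l a (up c) := by
    intro c
    obtain ⟨a, ha, hb⟩ := h2 (Pi.single l c) fun i hi => Pi.single_eq_of_ne (M := fun _ => F)
      (fun e => hi (by rw [e]; exact hlI)) c
    rw [single_acts] at hb
    exact ⟨a, ha, hTH (hAT ha), hb⟩
  obtain ⟨a, ha, haO⟩ := hroot 1
  have haH := haO.1
  have hval : ∀ a' ∈ A, ∀ c, Ons M l a' (up c) → M.nat.e (a' * w0 * a'⁻¹ * w0⁻¹) l 0 = c * N.e v0 l 1 := by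
    intro a' ha' c hc
    rw [hv0c a' ha']
    exact (comm_e hc hv0).2.2
  have hne : a * w0 ≠ w0 * a := by
    intro e
    have h3 := hval a ha 1 haO
    have h4 : a * w0 * a⁻¹ * w0⁻¹ = 1 := by rw [e]; group
    rw [h4, M.map_one, one_mul] at h3
    exact hl h3.symm
  have haX : ∀ x ∈ X, a * x * a⁻¹ ∈ X := fun x hx => (mem_normalizer_iff.1 (h.norm haH) x).1 hx
  -- `Z = [W, a]`
  let f : ↥W →* G :=
    { toFun := fun w => a * w * a⁻¹ * (w : G)⁻¹
      map_one' := by simp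
      map_mul' := by
        rintro ⟨w, hw⟩ ⟨w', hw'⟩
        show a * (w * w') * a⁻¹ * (w * w')⁻¹ = a * w * a⁻¹ * w⁻¹ * (a * w' * a⁻¹ * w'⁻¹)
        have e := h.Xc _ (inv_mem (hWX hw)) _ (mul_mem (haX _ (hWX hw')) (inv_mem (hWX hw')))
        calc a * (w * w') * a⁻¹ * (w * w')⁻¹ = a * w * a⁻¹ * ((a * w' * a⁻¹ * w'⁻¹) * w⁻¹) := by group
          _ = a * w * a⁻¹ * (w⁻¹ * (a * w' * a⁻¹ * w'⁻¹)) := by rw [e]
          _ = _ := by group }
  have hf : ∀ w : ↥W, f w = a * w * a⁻¹ * (w : G)⁻¹ := fun w => rfl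
  have hker : f.ker = Z.subgroupOf W := by
    ext ⟨w, hw⟩
    rw [MonoidHom.mem_ker, mem_subgroupOf, hf]
    constructor
    · intro h3
      by_contra hwZ
      have h4 : a * w = w * a := mul_inv_eq_iff_eq_mul.1 (mul_inv_eq_one.1 h3)
      exact hne (t.free a ha w hw hwZ h4 w0 hw0)
    · intro h3
      have h4 := t.cen a ha w h3
      show a * w * a⁻¹ * w⁻¹ = 1
      rw [h4]; group
  have hran : f.range ≤ Z := by
    rintro _ ⟨⟨w, hw⟩, rfl⟩
    exact t.com a ha w hw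
  have hc1 : Nat.card f.ker = Nat.card Z := by
    rw [hker]
    exact Nat.card_congr (subgroupOfEquivOfLe t.ZW).toEquiv
  have hc2 := Subgroup.card_mul_index f.ker
  rw [Subgroup.index_ker, hc1, t.cardW] at hc2
  have hpos : 0 < Nat.card Z := Nat.card_pos
  have hc3 : Nat.card f.range = q := Nat.eq_of_mul_eq_mul_left hpos hc2
  have hZr : f.range = Z := Subgroup.eq_of_le_of_card_ge hran (by rw [hc3, t.cardZ])
  have hZE : Z ≤ Ea M a haH := by
    rw [← hZr]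
    rintro _ ⟨⟨w, hw⟩, rfl⟩
    obtain ⟨v, hv, hvc⟩ := h.Y0_comm hA (t.WY hw)
    exact ⟨v, hv, hvc a ha⟩
  -- `|[V, a]| ≤ |F|`
  have hE1 : Nat.card (Ea M a haH) ≤ Nat.card F := by
    refine Nat.card_le_card_of_injective (fun x : Ea M a haH => M.nat.e (x : G) l 0) ?_
    rintro ⟨_, v, hv, rfl⟩ ⟨_, v', hv', rfl⟩ e
    have e1 : M.nat.e (a * v * a⁻¹ * v⁻¹) l 0 = M.nat.e (a * v' * a⁻¹ * v'⁻¹) l 0 := e
    rw [(comm_e haO hv).2.2, (comm_e haO hv').2.2, one_mul, one_mul] at e1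
    have h3 : a * (v * v'⁻¹) = v * v'⁻¹ * a := by
      refine cent_root h N hk hA ha haO (mul_mem hv (inv_mem hv')) ?_
      have h4 : N.e (v * v'⁻¹) = N.e v - N.e v' := M.map_div hv hv'
      rw [h4, Pi.sub_apply, Pi.sub_apply]
      exact sub_eq_zero.2 e1
    have h5 : a * v * a⁻¹ * v⁻¹ = a * v' * a⁻¹ * v'⁻¹ := by
      have h6 : a * (v * v'⁻¹) * a⁻¹ = v * v'⁻¹ := by rw [h3]; group
      have c1 := M.Vcomm (mul_mem hv (inv_mem hv')) (M.Vn a haH v' hv')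
      calc a * v * a⁻¹ * v⁻¹ = (a * (v * v'⁻¹) * a⁻¹) * (a * v' * a⁻¹) * v⁻¹ := by group
        _ = (v * v'⁻¹) * (a * v' * a⁻¹) * v⁻¹ := by rw [h6]
        _ = (a * v' * a⁻¹) * (v * v'⁻¹) * v⁻¹ := by rw [c1]
        _ = (a * v' * a⁻¹) * (v * v'⁻¹ * v⁻¹) := by group
        _ = (a * v' * a⁻¹) * v'⁻¹ := by
          rw [M.Vcomm hv (inv_mem hv')]; group
    exact Subtype.ext h5
  -- `|F| ≤ |Z|`
  have hE2 : Nat.card F ≤ Nat.card Z := by
    choose r hr hrO using hroot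
    refine Nat.card_le_card_of_injective (fun c : F => (⟨r c * w0 * (r c)⁻¹ * w0⁻¹, t.com (r c) (hr c) w0 hw0⟩ : Z)) ?_
    intro c c' e
    have e1 : r c * w0 * (r c)⁻¹ * w0⁻¹ = r c' * w0 * (r c')⁻¹ * w0⁻¹ := congrArg Subtype.val e
    have e2 := hval (r c) (hr c) c (hrO c)
    have e3 := hval (r c') (hr c') c' (hrO c')
    rw [e1] at e2
    exact mul_right_cancel₀ hl (e2.symm.trans e3)
  exact ⟨l, a, ha, haO, Subgroup.eq_of_le_of_card_ge hZE (hE1.trans hE2)⟩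

omit h N hk [Finite F] [CharP F 2] in
/-- `a` is a root element at `l` in some member of `AA` -/
def Good (M : NatC F T H (zl T H) (cv T H) k) (AA : Set (Subgroup G)) (l : Fin k) (a : G) : Prop :=
  (∃ A ∈ AA, a ∈ A) ∧ Ons M l a (up 1)

open Classical in
omit h N hk [Finite F] [CharP F 2] in
/-- `[V, a]`, `a` a root element at `l` -/
noncomputable def EE (M : NatC F T H (zl T H) (cv T H) k) (AA : Set (Subgroup G)) (l : Fin k) : Subgroup G :=
  if hx : ∃ a, Good M AA l a then Ea M hx.choose hx.choose_spec.2.1 else ⊥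

theorem Ea_eq {l : Fin k} {a a' : G} (ha : Ons (natC_of h.hm hk N.toNatK) l a (up 1))
    (ha' : Ons (natC_of h.hm hk N.toNatK) l a' (up 1)) :
    Ea (natC_of h.hm hk N.toNatK) a ha.1 = Ea (natC_of h.hm hk N.toNatK) a' ha'.1 := by
  ext x
  rw [mem_Ea, mem_Ea]
  constructor
  · rintro ⟨v, hv, rfl⟩
    exact ⟨v, hv, by rw [ha.same h.hm ha' hv]⟩
  · rintro ⟨v, hv, rfl⟩
    exact ⟨v, hv, by rw [ha.same h.hm ha' hv]⟩

theorem EE_eq {l : Fin k} {a : G} (ha : Good (natC_of h.hm hk N.toNatK) AA l a) :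
    EE (natC_of h.hm hk N.toNatK) AA l = Ea (natC_of h.hm hk N.toNatK) a ha.2.1 := by
  have hx : ∃ a, Good (natC_of h.hm hk N.toNatK) AA l a := ⟨a, ha⟩
  rw [EE, dif_pos hx]
  exact Ea_eq h N hk hx.choose_spec.2 ha.2

/-- an element of `EE l` is `[v, a]`, `a` a root element at `l` -/
theorem exists_good {l : Fin k} {x : G} (hx : x ∈ EE (natC_of h.hm hk N.toNatK) AA l) :
    x = 1 ∨ ∃ a, ∃ ha : Good (natC_of h.hm hk N.toNatK) AA l a, x ∈ Ea (natC_of h.hm hk N.toNatK) a ha.2.1 := by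
  by_cases hex : ∃ a, Good (natC_of h.hm hk N.toNatK) AA l a
  · obtain ⟨a, ha⟩ := hex
    rw [EE_eq h N hk ha] at hx
    exact Or.inr ⟨a, ha, hx⟩
  · rw [EE, dif_neg hex, mem_bot] at hx
    exact Or.inl hx

/-- **THEOREM LAMBDA, `q ≥ 4`: natural type.** -/
theorem yx_nat (hex : ∃ A ∈ AA, ¬ A ≤ o2 H) (q : ℕ) : ∃ N' c E : Fin k → Subgroup G, YX T H X AA N' c E q := by
  classical
  obtain ⟨A, hA, hAQ⟩ := hex
  obtain ⟨j, hroot⟩ := exists_root h N hk hA hAQ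
  obtain ⟨g, hgH, hg⟩ := N.lift (Pi.mulSingle j (lo 1))
  set M := natC_of h.hm hk N.toNatK with hM
  have hTH := h.TH
  have hgO : Ons M j g (lo 1) := ⟨hgH, hg⟩
  have hL := exists_ld' h N hk hA hroot hgO
  obtain ⟨c, hc⟩ := hL.exists_co
  have hy := hL.yb_aux hc fun i s hs t ht hsm htm => cyc_line h.hm N hk hs hsm ht htm
  have hpO : ∀ a ∈ A, ∀ c, Ons M j a (up c) → Ons M j (g * a * g⁻¹) (lo 1 * up c * (lo 1)⁻¹) :=
    fun a _ c hc => (hgO.mul hc).mul hgO.inv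
  refine ⟨_, c, EE M AA, hy, fun hl => ?_, fun x hx hcx i => ?_, fun l m hlm x hx => ?_, fun l x hx hxN => ?_,
    fun A' hA' W Z t => ?_⟩
  · -- `top`
    have hXn : Kb M AA A j g ≤ Xn M j ⊓ centralizer (cv T H : Set G) := by
      refine Kb_le (le_inf (sSup_le fun A' hA' a ha => ?_) ?_) fun a ha c hc => ?_
      · have haH := hTH (h.fam.le A' hA' ha)
        by_cases hQ : A' ≤ o2 H
        · refine (mem_Xn M).2 ⟨haH, 1, fun v hv i => ?_, fun i _ => ⟨0, by rw [up_zero]; rfl⟩⟩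
          rw [h.comm_Q a (hQ ha) v hv, mul_inv_cancel_right, Pi.one_apply, ap_one]
        · obtain ⟨I, h1, -⟩ := N.offM A' (h.fam.le A' hA') (h.offM hA' hQ)
          obtain ⟨b, -, hb⟩ := h1 a ha
          exact (mem_Xn M).2 ⟨haH, _, hb.1, fun i _ => ⟨b i, rfl⟩⟩
      · rw [le_centralizer_iff]
        exact fun d hd => mem_centralizer_iff.2 fun a ha => XX_cent h N hk ha (cv_line h N hk hd)
      · have h1 := hpO a ha c hc
        refine mem_inf.2 ⟨(mem_Xn M).2 ⟨h1.1, _, h1.2.1, fun i hi => ⟨0, ?_⟩⟩, mem_centralizer_iff.2 fun d hd =>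
          (h1.2.2 d hd).symm⟩
        rw [Pi.mulSingle_eq_of_ne hi, up_zero]
    have hsup := OM.GNat.le_sup h N hk hXn fun A₀ => by
      obtain ⟨l, hl, hlA⟩ := hL.cov A₀
      exact ⟨l, hl, fun v hv => hlA.e_i hv.1⟩
    refine hsup.trans (sup_le (NO3S.Level.le_centralizer_zc T) fun l hl' => ?_)
    rw [mem_centralizer_iff]
    intro z hz
    have h1 := (mem_Ni.1 (hl j hz)).2 1 (one_mem _) (MvI.one j) l hl'
    simp only [inv_one, one_mul, mul_one] at h1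
    exact h1.symm
  · -- `cen`
    obtain ⟨t, ht, htr⟩ := M.nat.trans j i
    have hm : MvI M t j i := htr
    refine hL.mem_Ni_of ht hm hx fun l hl => ?_
    have hx' := hL.conjZ' ht hx
    set x' := t⁻¹ * x * t with hx'e
    have h1 : Kb M AA A j g ≤ centralizer ({x'} : Set G) := by
      refine Kb_le (fun a ha => ?_) fun a ha c hc => ?_
      · rw [mem_centralizer_singleton_iff]
        exact XX_cent h N hk ha hx'
      · rw [mem_centralizer_singleton_iff]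
        have hO := hpO a ha c hc
        obtain ⟨c0, hc0, hc0L, n, hn, e0⟩ := hL.split x' hx'
        set a' := g * a * g⁻¹ with ha'
        have hc0a : a' * c0 = c0 * a' := hc0L a' (mem_Kb ha hc)
        have ha'H : a' ∈ H := hO.1
        have hna : a' * n * a'⁻¹ ∈ zl T H := M.Vn a' ha'H n hn.1
        have hnX := (mem_XX.1 (hL.LiZ j hn)).1
        have hyV : a' * n * a'⁻¹ * n⁻¹ ∈ zl T H := mul_mem hna (inv_mem hn.1)
        have e1 : a' * x' * a'⁻¹ * x'⁻¹ = a' * n * a'⁻¹ * n⁻¹ := by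
          have c1 := h.Xc _ (mem_XX.1 hc0).1 _ (mul_mem (h.VX hna) (inv_mem hnX))
          rw [e0]
          calc a' * (c0 * n) * a'⁻¹ * (c0 * n)⁻¹ = (a' * c0) * n * a'⁻¹ * n⁻¹ * c0⁻¹ := by group
            _ = (c0 * a') * n * a'⁻¹ * n⁻¹ * c0⁻¹ := by rw [hc0a]
            _ = (c0 * (a' * n * a'⁻¹ * n⁻¹)) * c0⁻¹ := by group
            _ = ((a' * n * a'⁻¹ * n⁻¹) * c0) * c0⁻¹ := by rw [c1]
            _ = _ := by group
        have e2 : a' * x' * a'⁻¹ * x'⁻¹ ∈ XX X AA := by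
          have h2 := hcx A hA a ha (t * g) (mul_mem (hTH ht) hgH)
          have h3 := hL.conjZ' ht h2
          have e3 : t⁻¹ * (t * g * a * (t * g)⁻¹ * x * (t * g * a * (t * g)⁻¹)⁻¹ * x⁻¹) * t =
              a' * x' * a'⁻¹ * x'⁻¹ := by rw [ha', hx'e]; group
          rwa [e3] at h3
        rw [e1] at e2
        have e4 := (hL.mem _ hyV).1 e2 j
        rw [M.map_div hna hn.1, Pi.sub_apply, Pi.sub_apply, hO.e_i hn.1, ap_one', hn.2.2] at e4
        have e5 : ent (lo 1 * up c * (lo 1)⁻¹) 1 0 = -c := by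
          rw [lo_inv, ent_mul, ent_mul, ent_mul]
          simp
        rw [e5] at e4
        have e6 : c * M.nat.e n j 0 = 0 := by
          have : -c * M.nat.e n j 0 = 0 := by simpa using e4
          rw [neg_mul, neg_eq_zero] at this
          exact this
        have hna' : a' * n = n * a' := by
          rcases mul_eq_zero.1 e6 with h5 | h5
          · have h6 : Ons M j a' 1 := by
              have h7 := hO
              rw [h5, up_zero, mul_one, mul_inv_cancel] at h7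
              exact h7
            have h7 : Ons M j (1 : G) 1 := by
              refine Ons.of (one_mem _) (fun v hv => ?_) (fun v hv m _ => ?_) fun d _ => ?_
              · rw [one_mul, inv_one, mul_one, ap_one]
              · rw [one_mul, inv_one, mul_one]
              · rw [one_mul, mul_one]
            have h8 := h6.same h.hm h7 hn.1
            rw [one_mul, inv_one, mul_one] at h8
            exact mul_inv_eq_iff_eq_mul.1 h8
          · exact hL.cD a' (mem_Kb ha hc) n (Li_D hn h5)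
        rw [e0]
        have c1 : Commute a' c0 := hc0a
        have c2 : Commute a' n := hna'
        exact (c1.mul_right c2).eq
    exact mem_centralizer_singleton_iff.1 (h1 hl)
  · -- `EN`
    have key : ∀ v ∈ Li M l, v ∈ Ni M (XX X AA) (Kb M AA A j g) j m := by
      intro v hvL
      refine mem_Ni.2 ⟨hL.LiZ l hvL, fun t ht mt l' hl' => ?_⟩
      obtain ⟨i', hi'⟩ := MvI.ex M (inv_mem (hTH ht)) l
      have h2 : t⁻¹ * v * t ∈ Li M i' := by
        have := hi'.Li hTH (inv_mem ht) hvL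
        rwa [inv_inv] at this
      refine hL.LW l' hl' i' (fun e => hlm ?_) _ h2
      subst e
      have h3 := hi'.inv (inv_mem (hTH ht))
      rw [inv_inv] at h3
      exact MvI.uniq h3 mt (hTH ht)
    rcases exists_good h N hk hx with h1 | ⟨a, ha, h1⟩
    · rw [h1]; exact one_mem _
    · exact key x (Ea_le_Li ha.2 h1)
  · -- `E1`
    rcases exists_good h N hk hx with h1 | ⟨a, ha, h1⟩
    · exact h1
    · obtain ⟨t, ht, htr⟩ := M.nat.trans j l
      have hm : MvI M t j l := htr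
      have h2 := (mem_Ni.1 hxN).2 t ht hm
      have hxL := Ea_le_Li ha.2 h1
      have h3 : t⁻¹ * x * t ∈ Li M j := by
        have := (hm.inv (hTH ht)).Li hTH (inv_mem ht) hxL
        rwa [inv_inv] at this
      have h4 := M.Dn t (hTH ht) _ (hL.Lj_D h3 h2)
      have e : t * (t⁻¹ * x * t) * t⁻¹ = x := by group
      rw [e] at h4
      obtain ⟨v, hv, rfl⟩ := h1
      obtain ⟨⟨A', hA', ha'⟩, haO⟩ := ha
      have h5 := (comm_e haO hv).2.2
      rw [D_e h4, one_mul] at h5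
      have h6 := cent_root h N hk hA' ha' haO hv h5.symm
      rw [h6]; group
  · -- `typ`
    obtain ⟨l, a, ha, haO, e⟩ := typ_nat h N hk hA' t
    exact ⟨l, e.trans (EE_eq h N hk (a := a) ⟨⟨A', hA', ha⟩, haO⟩).symm⟩

end nat

end Cfsg.Agent.Omega.NO3S.CaseLW.LamQ

end

private theorem dce_a228ab631b9f : _root_.True := by
  try have : _root_.True := by simp only [_root_.Cfsg.Agent.Omega.NO3S.CaseLW.LamQ.EE.eq_1]
  try have : _root_.True := by simp only [_root_.Cfsg.Agent.Omega.NO3S.CaseLW.LamQ.XX.eq_1]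
  exact _root_.True.intro
end

-- part: Mrg/Omega/OM/SWQ/CaseTwo
section
prune_inst 0x30100100442200000018000080001c42f200000000080001f0400200068e1c0020458020f0a009000010045420380028120000100020000000000800011804810000000290080000200000002000000000000000000000000000000000041000200000000
set_option linter.all false
open scoped Cfsg.Agent.FastGrp


/-!
# THEOREM SWQ (#21705), CASE II: `T` normalises `Z j` and does not centralise it, `q > 4`

`U = W j`, `bad` = the elements of `Z j` not centralised by `T`.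

* `comm_pair`, `elab_V` : `⟨V^F⟩` is elementary abelian (any `q`);
* `Cj K T B U Z e` : coordinates on `U = W j`, `MD.cj`;
* `false_of` : the instance of `Fam.One`, `One.false_of_count`.
-/

set_option autoImplicit false
set_option linter.unusedSectionVars false

namespace Cfsg.Agent.Omega.OM.SWQ.CaseTwo

open Subgroup Cfsg Cfsg.Agent.ZN.ChoiceBase Cfsg.Agent.ZN.ChoiceSit
open Cfsg.Agent.ZN (jj zj bau zc zl o2)
open Cfsg.Agent.Omega.NO3S.Level (lev Lev lev_isLev)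
open Cfsg.Agent.Omega.OM.LevD (LB K0)
open Cfsg.Agent.Omega.OM.SwapL (Ln BL ZL Pair exists_fam lb wc two_norm)
open Cfsg.Agent.Omega.OM.Swap.Fam (Fm Cost)
open Cfsg.Agent.Omega.OM.FourF (MD Act)
open Cfsg.Agent.Omega.FFThm (NatK)
open scoped commutatorElement

universe u

variable {G : Type u} [Group G] [Finite G]

section line

variable {ι : Type} [Finite ι] {S : Sylow 2 G} {P : Subgroup G} {n : ℕ} {L W Z C A : ι → Subgroup G} {q : ℕ}

/-- `V` commutes with its conjugates under `F`. -/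
theorem comm_pair (h : Ln S P n L W Z C A q) {M T F : Subgroup G} (hp : Pair S P n M T F) {f : G} (hf : f ∈ F)
    {x y : G} (hx : x ∈ zl (S : Subgroup G) P) (hy : y ∈ zl (S : Subgroup G) P) :
    x * (f * y * f⁻¹) = f * y * f⁻¹ * x := by
  have hV := hp.VO
  have hTn := two_norm h hp.syl.2.1 hp.BT
  have hO : o2 F ≤ T := o2_le_syl hp.syl
  have hcO : cj f (o2 F) = o2 F := cj_eq_of_mem_normalizer (le_normalizer_o2 F hf)
  have h1 : cj f (zl (S : Subgroup G) P) ≤ normalizer (zl (S : Subgroup G) P : Set G) := by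
    have := cj_mono f hV
    rw [hcO] at this
    exact (this.trans hO).trans hTn
  have h2 : zl (S : Subgroup G) P ≤ normalizer ((cj f (zl (S : Subgroup G) P) : Subgroup G) : Set G) := by
    have h3 := cj_mono f ((hO.trans hTn : o2 F ≤ normalizer (zl (S : Subgroup G) P : Set G)))
    rw [hcO, cj_normalizer] at h3
    exact hV.trans h3
  by_contra hne
  refine h.hyp.noFF ⟨P, P, f, h.hyp.star, h.hyp.star, h2, h1, fun e => hne ?_⟩
  have h4 := commutator_eq_bot_iff_le_centralizer.1 e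
  exact (mem_centralizer_iff.1 (h4 hx) (f * y * f⁻¹) ⟨y, hy, rfl⟩).symm

/-- `⟨V^F⟩` is elementary abelian. -/
theorem elab_V (h : Ln S P n L W Z C A q) {M T F : Subgroup G} (hp : Pair S P n M T F) :
    IsElementaryAbelian 2 (NoFF.Basic.V (zl (S : Subgroup G) P) F) := by
  have h1 := Swap.elab_iSup (W := fun f : F => cj (f : G) (zl (S : Subgroup G) P)) (fun f f' x hx y hy => ?_)
    fun f x hx => ?_
  · exact Swap.elab_of h1.1 h1.2
  · rw [mem_cj] at hx hy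
    have h2 := comm_pair h hp (mul_mem (inv_mem f.2) f'.2) hx hy
    have e1 : (f : G)⁻¹ * f' * ((f' : G)⁻¹ * y * f') * ((f : G)⁻¹ * f')⁻¹ = (f : G)⁻¹ * y * f := by group
    rw [e1] at h2
    have h3 := congrArg (fun t => (f : G) * t * (f : G)⁻¹) h2
    have e2 : (f : G) * ((f : G)⁻¹ * x * f * ((f : G)⁻¹ * y * f)) * (f : G)⁻¹ = x * y := by group
    have e3 : (f : G) * ((f : G)⁻¹ * y * f * ((f : G)⁻¹ * x * f)) * (f : G)⁻¹ = y * x := by group
    exact e2.symm.trans (h3.trans e3)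
  · rw [mem_cj] at hx
    have h2 := SQ1.Bau.elem_sq h.fr.el _ hx
    rw [pow_two] at h2
    have e : x * x = f * ((f : G)⁻¹ * x * f * ((f : G)⁻¹ * x * f)) * (f : G)⁻¹ := by group
    rw [e, h2]; group

end line

/-- Coordinates on `U = W j`. -/
structure Cj (K : Type) [Field K] (T B U Z : Subgroup G) (e : G → K × K) : Prop where
  TU : T ≤ normalizer (U : Set G)
  BT : B ≤ T
  Uc : ∀ v ∈ U, ∀ w ∈ U, v * w = w * v
  U2 : ∀ v ∈ U, v * v = 1
  mul : ∀ v ∈ U, ∀ w ∈ U, e (v * w) = e v + e w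
  inj : ∀ v ∈ U, ∀ w ∈ U, e v = e w → v = w
  surj : ∀ p, ∃ v ∈ U, e v = p
  memZ : ∀ v, v ∈ Z ↔ v ∈ U ∧ (e v).2 = 0
  act : ∀ t ∈ T, ∃ (s : K ≃+* K) (l : K), Act U e t (fun p => (s p.1 + l * s p.2, s p.2))
  full : ∀ l, ∃ b ∈ B, Act U e b (fun p => (p.1 + l * p.2, p.2))
  BZ : ∀ b ∈ B, ∀ z ∈ Z, b * z = z * b

omit [Finite G] in
theorem cj_of_md {F : Type} [Field F] [Finite F] {S P V D : Subgroup G} {k : ℕ}
    {N : NatK F S P V D k} {B ZJ : Subgroup G} {W Z : Fin k → Subgroup G} {z₀ f₀ : Fin k → F}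
    (h : MD N B ZJ W Z z₀ f₀) {T : Subgroup G} (hTS : T ≤ S) (hBT : B ≤ T) {i : Fin k}
    (hT : ∀ t ∈ T, cj t (Z i) = Z i) (hB : ∀ b ∈ B, ∀ z ∈ Z i, b * z = z * b) (h2 : ∀ v ∈ V, v * v = 1) :
    Cj F T B (W i) (Z i) (MD.co N z₀ f₀ i) where
  TU := fun t ht => h.nW (hTS ht) (hT t ht)
  BT := hBT
  Uc := fun v hv w hw => h.cn.toCd.VV v (h.WV hv) w (h.WV hw)
  U2 := fun v hv => h2 v (h.WV hv)
  mul := fun _ hv _ hw => h.co_mul (h.WV hv) (h.WV hw)
  inj := fun _ hv _ hw => h.co_inj hv hw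
  surj := h.co_surj i
  memZ := fun _ => h.co_Z
  act := fun t ht => h.act (hTS ht) (hT t ht)
  full := h.full i
  BZ := hB

section cj

variable {K : Type} [Field K] [CharP K 2] {T B U Z : Subgroup G} {e : G → K × K} (c : Cj K T B U Z e)
include c

theorem Cj.ZU : Z ≤ U := fun _ hv => ((c.memZ _).1 hv).1

theorem Cj.cn {t v : G} (ht : t ∈ T) (hv : v ∈ U) : t * v * t⁻¹ ∈ U := (mem_normalizer_iff.1 (c.TU ht) v).1 hv

/-- elements of `T` which centralise `Z` -/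
theorem Cj.lin {t : G} (ht : t ∈ T) (hZ : ∀ z ∈ Z, t * z = z * t) : ∃ l, Act U e t (fun p => (p.1 + l * p.2, p.2)) := by
  obtain ⟨s, l, hs⟩ := c.act t ht
  refine ⟨l, fun w hw => ?_⟩
  have key : ∀ x : K, s x = x := by
    intro x
    obtain ⟨v, hv, hve⟩ := c.surj (x, 0)
    have h1 := hs v hv
    have hvZ : v ∈ Z := (c.memZ v).2 ⟨hv, by rw [hve]⟩
    have h2 : t * v * t⁻¹ = v := by rw [hZ v hvZ]; group
    rw [h2, hve] at h1
    have h3 := congrArg Prod.fst h1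
    simp only [map_zero, mul_zero, add_zero] at h3
    exact h3.symm
  rw [hs w hw]
  simp only [key]

theorem Cj.U_cent {t : G} (ha : Act U e t (fun p => (p.1 + 0 * p.2, p.2))) (ht : t ∈ T) {x : G} (hx : x ∈ U) :
    t * x = x * t := by
  have h1 : t * x * t⁻¹ = x := c.inj _ (c.cn ht hx) _ hx (by
    rw [ha x hx]; simp)
  calc t * x = t * x * t⁻¹ * t := by group
    _ = x * t := by rw [h1]

/-- `Z ≤ [U, t]` if `t` acts as `(x + l y, y)`, `l ≠ 0`. -/
theorem Cj.Z_le {t : G} {l : K} (ht : t ∈ T) (hl : l ≠ 0) (ha : Act U e t (fun p => (p.1 + l * p.2, p.2)))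
    {z : G} (hz : z ∈ Z) : ∃ x ∈ U, z = x * (t * x * t⁻¹) := by
  obtain ⟨x, hx, hxe⟩ := c.surj (0, l⁻¹ * (e z).1)
  have hzU := c.ZU hz
  have hz2 := ((c.memZ z).1 hz).2
  have hx' := c.cn ht hx
  refine ⟨x, hx, c.inj _ hzU _ (mul_mem hx hx') ?_⟩
  rw [c.mul _ hx _ hx', ha x hx, hxe]
  ext
  · simp only [Prod.fst_add, zero_add]
    rw [← mul_assoc, mul_inv_cancel₀ hl, one_mul]
  · simp only [Prod.snd_add]
    rw [hz2, CharTwo.add_self_eq_zero]

/-- the commutator `[o, b]` -/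
theorem Cj.comm_act {o b : G} (ho : o ∈ T) (hb : b ∈ T) {s : K ≃+* K} {l m : K}
    (hoa : Act U e o (fun p => (s p.1 + l * s p.2, s p.2))) (hba : Act U e b (fun p => (p.1 + m * p.2, p.2))) :
    Act U e (o * b * o⁻¹ * b⁻¹) (fun p => (p.1 + (s m + m) * p.2, p.2)) := by
  -- `o b o⁻¹`
  have h1 : Act U e (o * b * o⁻¹) (fun p => (p.1 + s m * p.2, p.2)) := by
    intro w hw
    have hw' : o⁻¹ * w * o ∈ U := by
      have := c.cn (inv_mem ho) hw
      rwa [inv_inv] at this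
    have e1 : o * (o⁻¹ * w * o) * o⁻¹ = w := by group
    have h2 := hoa _ hw'
    rw [e1] at h2
    have h3 := hoa _ (c.cn hb hw')
    rw [hba _ hw'] at h3
    have e2 : o * b * o⁻¹ * w * (o * b * o⁻¹)⁻¹ = o * (b * (o⁻¹ * w * o) * b⁻¹) * o⁻¹ := by group
    rw [e2, h3, h2]
    ext
    · simp only [map_add, map_mul]; ring
    · rfl
  intro w hw
  have hw' : b⁻¹ * w * b ∈ U := by
    have := c.cn (inv_mem hb) hw
    rwa [inv_inv] at this
  have e1 : b * (b⁻¹ * w * b) * b⁻¹ = w := by group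
  have h2 := hba _ hw'
  rw [e1] at h2
  have h3 := h1 _ hw'
  have e2 : o * b * o⁻¹ * b⁻¹ * w * (o * b * o⁻¹ * b⁻¹)⁻¹ = o * b * o⁻¹ * (b⁻¹ * w * b) * (o * b * o⁻¹)⁻¹ := by group
  rw [e2, h3, h2]
  ext
  · simp only
    have := CharTwo.add_self_eq_zero (m * (e (b⁻¹ * w * b)).2)
    linear_combination (-1 : K) * this
  · rfl

/-- (H3) -/
theorem Cj.h3 {O : Subgroup G} (hOT : O ≤ T) (hTO : T ≤ normalizer (O : Set G))
    (hne : ∃ o ∈ O, ∃ z ∈ Z, o * z ≠ z * o) : Z ≤ ⁅U, O⁆ := by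
  obtain ⟨o, ho, z₁, hz₁, hoz⟩ := hne
  obtain ⟨s, l, hs⟩ := c.act o (hOT ho)
  obtain ⟨m, hm⟩ : ∃ m, s m ≠ m := by
    by_contra hcon
    push Not at hcon
    apply hoz
    obtain ⟨h1, h2⟩ := (c.memZ z₁).1 hz₁
    have h3 : o * z₁ * o⁻¹ = z₁ := c.inj _ (c.cn (hOT ho) h1) _ h1 (by
      rw [hs z₁ h1]
      ext
      · simp only [hcon, h2, mul_zero, add_zero]
      · simp only [hcon])
    calc o * z₁ = o * z₁ * o⁻¹ * o := by group
      _ = z₁ * o := by rw [h3]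
  obtain ⟨b, hb, hba⟩ := c.full m
  have hbT := c.BT hb
  have h1 := c.comm_act (hOT ho) hbT hs hba
  have hl : s m + m ≠ 0 := fun h0 => hm (by
    have := congrArg (· + m) h0
    simp only [zero_add] at this
    rwa [add_assoc, CharTwo.add_self_eq_zero, add_zero] at this)
  have hc : o * b * o⁻¹ * b⁻¹ ∈ O := by
    have h2 : b * o⁻¹ * b⁻¹ ∈ O := (mem_normalizer_iff.1 (hTO hbT) _).1 (inv_mem ho)
    have e1 : o * b * o⁻¹ * b⁻¹ = o * (b * o⁻¹ * b⁻¹) := by group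
    rw [e1]
    exact mul_mem ho h2
  intro z hz
  obtain ⟨x, hx, rfl⟩ := c.Z_le (hOT hc) hl h1 hz
  have hx' := c.cn (hOT hc) hx
  have e2 : (o * b * o⁻¹ * b⁻¹ * x * (o * b * o⁻¹ * b⁻¹)⁻¹)⁻¹ = o * b * o⁻¹ * b⁻¹ * x * (o * b * o⁻¹ * b⁻¹)⁻¹ :=
    inv_eq_of_mul_eq_one_right (c.U2 _ hx')
  rw [← e2]
  have e3 : x * (o * b * o⁻¹ * b⁻¹ * x * (o * b * o⁻¹ * b⁻¹)⁻¹)⁻¹ = ⁅x, o * b * o⁻¹ * b⁻¹⁆ := by
    rw [commutatorElement_def]; group
  rw [e3]
  exact commutator_mem_commutator hx hc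

/-- (H2) -/
theorem Cj.h2 {A : Subgroup G} (hA : A ≤ B) : (∀ a ∈ A, ∀ x ∈ U, a * x = x * a) ∨
    Z ≤ closure {y | ∃ x ∈ U, ∃ a ∈ A, y = x * (a * x * a⁻¹)} := by
  by_cases hall : ∀ a ∈ A, ∀ x ∈ U, a * x = x * a
  · exact Or.inl hall
  right
  push Not at hall
  obtain ⟨a, ha, x, hx, hne⟩ := hall
  have haT := c.BT (hA ha)
  obtain ⟨l, hl⟩ := c.lin haT (c.BZ a (hA ha))
  have hl0 : l ≠ 0 := by
    rintro rfl
    exact hne (c.U_cent hl haT hx)
  intro z hz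
  obtain ⟨y, hy, rfl⟩ := c.Z_le haT hl0 hl hz
  exact subset_closure ⟨y, hy, a, ha, rfl⟩

end cj

section line

variable {ι : Type} [Finite ι] {S : Sylow 2 G} {P : Subgroup G} {n : ℕ} {L W Z C A : ι → Subgroup G} {q : ℕ}
  {K : Type} [Field K] [CharP K 2]

/-- `O₂(F)` does not centralise `Z j`. -/
theorem exists_o (h : Ln S P n L W Z C A q) {M T F : Subgroup G} (hp : Pair S P n M T F) {j : ι}
    (hne : ¬ Z j ≤ centralizer (T : Set G)) : ∃ o ∈ o2 F, ∃ z ∈ Z j, o * z ≠ z * o := by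
  by_contra hcon
  push Not at hcon
  apply hne
  intro z hz
  have h1 : z ∈ centralizer (F : Set G) :=
    hp.fix ⟨h.fr.Z_le j hz, mem_centralizer_iff.2 fun o ho => hcon o ho z hz⟩
  exact centralizer_le (by exact_mod_cast hp.syl.1) h1

/-- (**) `N_F(Z j) ≤ M` -/
theorem norm_Z (h : Ln S P n L W Z C A q) {M T F : Subgroup G} (hp : Pair S P n M T F)
    (hN : normalizer (BL (S : Subgroup G) n : Set G) ≤ M) {j : ι}
    (H1 : ∀ f ∈ F, (∀ x ∈ Z j, f * x = x * f) → f ∈ M) {f : G} (hf : f ∈ F) (hfZ : cj f (Z j) = Z j) : f ∈ M := by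
  set Q : Subgroup G := F ⊓ centralizer (Z j : Set G) with hQ
  have hB : BL (S : Subgroup G) n ≤ Q :=
    le_inf (hp.BT.trans hp.syl.1) ((lb S n).Bc.trans (centralizer_le (by exact_mod_cast h.fr.Z_le j)))
  obtain ⟨R, hR, hBR⟩ := exists_syl (lb S n).Bp hB
  have hQf : cj f Q = Q := by
    rw [hQ, cj_inf, cj_centralizer, hfZ, cj_eq_of_mem_normalizer (le_normalizer hf)]
  have hR' : Syl (cj f R) Q := by
    refine ⟨(cj_mono f hR.1).trans hQf.le, isPGroup_cj f hR.2.1, fun T' hT' hp' hle => ?_⟩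
    have h3 : cj f⁻¹ T' ≤ Q := by
      have := cj_mono f⁻¹ hT'
      rwa [← hQf, cj_inv_cj] at this
    have h4 := hR.2.2 (cj f⁻¹ T') h3 (isPGroup_cj _ hp') (cj_le_iff.1 hle)
    rw [← h4, cj_cj_inv]
  obtain ⟨x, hx, e⟩ := syl_conj hR' hR
  have h5 : cj (x * f) R = R := by rw [← cj_cj]; exact e
  have h6 : cj (x * f) (BL (S : Subgroup G) n) = BL (S : Subgroup G) n := by
    have h7 : cj (x * f) (BL (S : Subgroup G) n) ≤ R := (cj_mono _ hBR).trans h5.le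
    exact wc S n R hR.2.1 hBR (x * f) h7
  have h8 : x * f ∈ M := hN (mem_normalizer_iff_cj.2 h6)
  have h9 : x ∈ M := H1 x hx.1 fun z hz => (mem_centralizer_iff.1 hx.2 z hz).symm
  have := mul_mem (inv_mem h9) h8
  rwa [inv_mul_cancel_left] at this

/-- **CASE II** -/
theorem false_of (h : Ln S P n L W Z C A q) {M T F : Subgroup G} (hp : Pair S P n M T F)
    (hD : centralizer (ZL (S : Subgroup G) n : Set G) ≤ M) (hN : normalizer (BL (S : Subgroup G) n : Set G) ≤ M)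
    {j : ι} {e : G → K × K} (c : Cj K T (BL (S : Subgroup G) n) (W j) (Z j) e)
    (hne : ¬ Z j ≤ centralizer (T : Set G))
    (hNb : ∀ x ∈ Z j, x ∉ centralizer (T : Set G) → ∀ f ∈ F, f * x = x * f → f ∈ M)
    (hcost : Cost T (W j) fun x => x ∈ Z j ∧ x ∉ centralizer (T : Set G))
    (h4 : F ⊓ normalizer (W j : Set G) ≤ M) : False := by
  have hZM : normalizer (ZL (S : Subgroup G) n : Set G) ≤ M := (lb S n).norm_zj_le.trans (sup_le hD hN)
  have hTN : T ≤ normalizer (BL (S : Subgroup G) n : Set G) := (lb S n).two_le hp.syl.2.1 hp.BT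
  have hTM : T ≤ M := hTN.trans hN
  have hO : o2 F ≤ T := o2_le_syl hp.syl
  obtain ⟨𝓐, hfam, hnJ, hA⟩ := exists_fam h hp hD hTM hZM
  have hVel := elab_V h hp
  have hUV : W j ≤ zl (S : Subgroup G) P := h.fr.WV j
  have hLV : NoFF.Basic.V (W j) F ≤ NoFF.Basic.V (zl (S : Subgroup G) P) F :=
    NoFF.Basic.V_le fun f hf => (cj_mono f hUV).trans (NoFF.Basic.Z_le_V hf)
  have hUO : W j ≤ o2 F := hUV.trans hp.VO
  have hUF : W j ≤ F := hUO.trans (o2_le F)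
  have hLF : NoFF.Basic.V (W j) F ≤ F := by
    refine NoFF.Basic.V_le fun f hf => ?_
    have := cj_mono f hUF
    rwa [cj_eq_of_mem_normalizer (le_normalizer hf)] at this
  have hel := Swap.elab_mono hVel hLV
  have H1 : ∀ f ∈ F, (∀ x ∈ Z j, f * x = x * f) → f ∈ M := by
    intro f hf hx
    obtain ⟨x, hx1, hx2⟩ := SetLike.not_le_iff_exists.1 hne
    exact hNb x hx1 hx2 f hf (hx x hx1)
  have hone : Swap.Fam.One F T (F ⊓ M) 𝓐 (W j) (fun _ : Unit => W j) (fun _ : Unit => Z j) :=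
    { syl := hp.syl
      TF₀ := le_inf hp.syl.1 hTM
      F₀F := lt_of_le_of_ne inf_le_left fun e => hp.nM (inf_eq_left.1 e)
      max := fun K hTK hKF => le_inf hKF.le (hp.min K hTK hKF)
      fam := hfam _ hel hLF OmThm.XD.X_le_normalizer_W hLV
      nJ := hnJ
      ne := ⟨()⟩
      UO := hUO
      TU := c.TU
      comm := fun x hx y hy => SQ1.Bau.elem_comm hel x hx y hy
      sq := fun x hx => by
        have := SQ1.Bau.elem_sq hel x hx
        rwa [pow_two] at this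
      sup := by rw [iSup_const]
      H1 := fun _ f hf hx => ⟨hf, H1 f hf hx⟩
      H2 := fun X hX hXT _ => c.h2 (hA X hX hXT).1
      H3 := fun _ => c.h3 hO ((hp.syl.1).trans (le_normalizer_o2 F)) (exists_o h hp hne)
      H4 := le_inf inf_le_left h4 }
  exact hone.false_of_count (fun x _ hb f hf hfx => ⟨hf, hNb x hb.1 hb.2 f hf hfx⟩) hcost

end line

end Cfsg.Agent.Omega.OM.SWQ.CaseTwo
end
end
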